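import Mathlib
import Cfsg.Agent.Lib.PSLAut.Kernel
import Cfsg.Agent.Lib.CIT.Basic
import Cfsg.Agent.Lib.LinGroup.Simple

/-!
Subgroups of `Aut(PSL₂(q))`, `q` equal to 4, 9 or a prime at least five, and of `Aut(PSL₃(4))` that
contain the inner automorphisms and in which centralizers of involutions are 2-groups: they consist
of inner automorphisms, or `q = 9` and they have the inner ones with index at most two.
-/

set_option autoImplicit false

namespace Cfsg.Agent.Lib.CNStruct

open Cfsg.Agent.Lib.CIT Cfsg.Agent.Lib.PSLAut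
open scoped MatrixGroups
open Matrix

/-! ### General facts -/

/-- `β` is an inner automorphism. -/
def Inner {S : Type*} [Group S] (β : MulAut S) : Prop := ∃ s : S, β = MulAut.conj s

section

variable {S : Type*} [Group S] [Finite S] {H : Subgroup (MulAut S)}

/-- An element of odd order commuting with an involution is trivial. -/
theorem no_comm (h : IsCIT ↥H) {β γ : MulAut S} (hβ : β ∈ H) (hγ : γ ∈ H) (hβ1 : β ≠ 1)
    (hβ2 : β * β = 1) (hc : β * γ = γ * β) {k : ℕ} (hk : Odd k) (hγk : γ ^ k = 1) : γ = 1 := by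
  have ho : orderOf (⟨β, hβ⟩ : H) = 2 :=
    orderOf_eq_prime (by rw [pow_two]; exact Subtype.ext hβ2) fun e => hβ1 (congrArg Subtype.val e)
  have hodd : Odd (orderOf (⟨γ, hγ⟩ : H)) :=
    hk.of_dvd_nat (orderOf_dvd_of_pow_eq_one (Subtype.ext (by simpa using hγk)))
  exact congrArg Subtype.val (h.eq_one_of_commute_invo ho hodd (Subtype.ext hc))

theorem eq_one_of_conj_eq_one (hZ : Subgroup.center S = ⊥) {s : S} (h : MulAut.conj s = 1) :
    s = 1 := by
  have hs : s ∈ Subgroup.center S := Subgroup.mem_center_iff.2 fun x => by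
    have e := DFunLike.congr_fun h x
    rw [MulAut.conj_apply, MulAut.one_apply, mul_inv_eq_iff_eq_mul] at e
    exact e.symm
  rwa [hZ, Subgroup.mem_bot] at hs

/-- An involution of `H` fixes no nontrivial element of odd order. -/
theorem no_fix (h : IsCIT ↥H) (hI : ∀ s, MulAut.conj s ∈ H) (hZ : Subgroup.center S = ⊥)
    {β : MulAut S} (hβ : β ∈ H) (hβ1 : β ≠ 1) (hβ2 : β * β = 1) {s : S} (hs : β s = s) {k : ℕ}
    (hk : Odd k) (hsk : s ^ k = 1) : s = 1 := by
  refine eq_one_of_conj_eq_one hZ (no_comm h hβ (hI s) hβ1 hβ2 ?_ hk ?_)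
  · refine MulEquiv.ext fun x => ?_
    simp [MulAut.mul_apply, hs]
  · rw [← map_pow, hsk, map_one]

end

section

variable {n : ℕ} {F : Type} [Field F]

theorem coe_toGL (s : SLn n F) :
    ((Matrix.SpecialLinearGroup.toGL s : GL (Fin n) F) : Matrix (Fin n) (Fin n) F) = s := rfl

theorem inner_conj_toGL (s : SLn n F) : Inner (conj (Matrix.SpecialLinearGroup.toGL s)) :=
  ⟨proj s, conj_toGL s⟩

/-- `conj g` is inner if the determinant of `g` is an `n`-th power. -/
theorem inner_of_det {g : GL (Fin n) F} (u : Fˣ)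
    (hu : Matrix.GeneralLinearGroup.det g = u ^ n) : Inner (conj g) := by
  have hu' : Matrix.det (g : Matrix (Fin n) (Fin n) F) = (u : F) ^ n := by
    simpa using congrArg Units.val hu
  let A : SLn n F := ⟨((u⁻¹ : Fˣ) : F) • (g : Matrix (Fin n) (Fin n) F), by
    rw [Matrix.det_smul, hu', Fintype.card_fin, ← mul_pow, Units.inv_mul, one_pow]⟩
  set z : GL (Fin n) F := g * (Matrix.SpecialLinearGroup.toGL A)⁻¹ with hz
  have hzc : z ∈ Subgroup.center (GL (Fin n) F) := by
    have e : g = Matrix.GeneralLinearGroup.scalar (Fin n) u * Matrix.SpecialLinearGroup.toGL A := by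
      refine Units.ext ?_
      rw [Units.val_mul]
      show (g : Matrix (Fin n) (Fin n) F) =
        Matrix.scalar (Fin n) (u : F) * (((u⁻¹ : Fˣ) : F) • (g : Matrix (Fin n) (Fin n) F))
      simp [Matrix.scalar_apply, ← Matrix.smul_eq_diagonal_mul, smul_smul]
    rw [Matrix.GeneralLinearGroup.center_eq_range_scalar]
    exact ⟨u, by rw [hz, eq_mul_inv_iff_mul_eq]; exact e.symm⟩
  have h1 : conj g = conj (Matrix.SpecialLinearGroup.toGL A) := by
    rw [show g = z * Matrix.SpecialLinearGroup.toGL A by rw [hz, inv_mul_cancel_right], map_mul,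
      (PSLAut.conj_eq_one_iff z).2 hzc, one_mul]
  rw [h1]
  exact inner_conj_toGL A

/-- A witness of a non-scalar matrix. -/
theorem proj_ne_one {s : SLn n F} {i j : Fin n} (hij : i ≠ j)
    (h : (s : Matrix (Fin n) (Fin n) F) i j ≠ 0) : proj s ≠ 1 := by
  intro e
  obtain ⟨c, hc⟩ := proj_eq_proj_iff.1 ((map_one proj).trans e.symm)
  exact h (by rw [hc]; simp [Matrix.one_apply_ne hij])

theorem center_eq_bot {S : Type*} [Group S] [IsSimpleGroup S] (hS : ∃ a b : S, a * b ≠ b * a) :
    Subgroup.center S = ⊥ := by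
  refine (IsSimpleGroup.eq_bot_or_eq_top_of_normal (Subgroup.center S) inferInstance).resolve_right
    fun e => ?_
  obtain ⟨a, b, hab⟩ := hS
  exact hab (Subgroup.mem_center_iff.1 (e ▸ Subgroup.mem_top b) a)

variable {H : Subgroup (MulAut (PSLn n F))}

theorem mem_of_inner (hI : ∀ s, MulAut.conj s ∈ H) {β : MulAut (PSLn n F)} (h : Inner β) : β ∈ H := by
  obtain ⟨s, rfl⟩ := h
  exact hI s

/-- If `conj g * τ` is in `H` then so is `conj g' * τ` for `g'` of the same determinant. -/
theorem mem_of_det_eq (hI : ∀ s, MulAut.conj s ∈ H) {g g' : GL (Fin n) F}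
    (hdet : Matrix.GeneralLinearGroup.det g' = Matrix.GeneralLinearGroup.det g)
    {τ : MulAut (PSLn n F)} (hg : conj g * τ ∈ H) : conj g' * τ ∈ H := by
  have h1 : Inner (conj (g' * g⁻¹)) :=
    inner_of_det 1 (by rw [map_mul, map_inv, hdet, mul_inv_cancel, one_pow])
  have := H.mul_mem (mem_of_inner hI h1) hg
  rwa [← mul_assoc, ← map_mul, inv_mul_cancel_right] at this

end

/-! ### Dimension two -/

section Two

variable {F : Type} [Field F] [Fintype F] {H : Subgroup (MulAut (PSLn 2 F))}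

/-- An element of order three of `SL₂` with entries in the prime field. -/
def elt3 : SLn 2 F := ⟨!![0, -1; 1, -1], by simp [Matrix.det_fin_two]⟩

theorem elt3_pow : (elt3 (F := F)) ^ 3 = 1 := by
  refine Subtype.ext ?_
  rw [Matrix.SpecialLinearGroup.coe_pow, Matrix.SpecialLinearGroup.coe_one]
  show (!![0, -1; 1, -1] : Matrix (Fin 2) (Fin 2) F) ^ 3 = 1
  ext i j
  fin_cases i <;> fin_cases j <;> simp [pow_succ, Matrix.mul_apply, Fin.sum_univ_two]

theorem proj_elt3_ne : proj (elt3 (F := F)) ≠ 1 :=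
  proj_ne_one (i := 1) (j := 0) (by decide) (by simp [elt3])

theorem exists_form (β : MulAut (PSLn 2 F)) :
    ∃ (g : GL (Fin 2) F) (σ : F ≃+* F), β = conj g * fieldAut σ := by
  obtain ⟨g, σ, ε, hε, rfl⟩ := exists_eq_conj_mul_fieldAut_mul le_rfl β
  rcases hε with rfl | rfl
  · exact ⟨g, σ, by rw [mul_one]⟩
  · obtain ⟨w, hw⟩ := invTrans_eq_conj_two (F := F)
    exact ⟨g * glField σ w, σ, by rw [hw, map_mul, mul_assoc, fieldAut_mul_conj, mul_assoc]⟩

theorem not_fieldAut (h : IsCIT ↥H) (hI : ∀ s, MulAut.conj s ∈ H)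
    (hZ : Subgroup.center (PSLn 2 F) = ⊥) {σ : F ≃+* F} (hσ : σ * σ = 1) (hσ1 : σ ≠ 1) :
    (fieldAut σ : MulAut (PSLn 2 F)) ∉ H := by
  intro hmem
  have h1 : (fieldAut σ : MulAut (PSLn 2 F)) ≠ 1 := fun e =>
    hσ1 (conj_eq_fieldAut le_rfl (g := 1) (by rw [map_one, e])).1
  have h2 : fieldAut σ * fieldAut σ = (1 : MulAut (PSLn 2 F)) := by rw [← map_mul, hσ, map_one]
  have hfix : fieldAut σ (proj elt3) = proj (elt3 (F := F)) := by
    rw [fieldAut_proj]
    refine congrArg proj (Subtype.ext ?_)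
    rw [coe_map_sl]
    ext i j
    fin_cases i <;> fin_cases j <;> simp [elt3]
  exact proj_elt3_ne (no_fix h hI hZ hmem h1 h2 hfix (k := 3) (by decide)
    (by rw [← map_pow, elt3_pow, map_one]))

/-- The determinant of an element of `H` outside the inner automorphisms is not a square. -/
theorem nonsquare (h : IsCIT ↥H) (hI : ∀ s, MulAut.conj s ∈ H)
    (hZ : Subgroup.center (PSLn 2 F) = ⊥) (hinv : ∀ σ : F ≃+* F, σ * σ = 1) {g : GL (Fin 2) F}
    {σ : F ≃+* F} (hmem : conj g * fieldAut σ ∈ H) (hn : ¬ Inner (conj g * fieldAut σ)) :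
    ¬ IsSquare (Matrix.GeneralLinearGroup.det g) := by
  rintro ⟨u, hu⟩
  have hin := inner_of_det u (by rw [hu, pow_two])
  have hσ : σ = 1 := by
    by_contra hσ1
    refine not_fieldAut h hI hZ (hinv σ) hσ1 ?_
    have := H.mul_mem (H.inv_mem (mem_of_inner hI hin)) hmem
    rwa [inv_mul_cancel_left] at this
  subst hσ
  rw [map_one, mul_one] at hn
  exact hn hin

theorem four_inner (hF : Fintype.card F = 4) (h : IsCIT ↥H) (hI : ∀ s, MulAut.conj s ∈ H)
    (hZ : Subgroup.center (PSLn 2 F) = ⊥) {β : MulAut (PSLn 2 F)} (hβ : β ∈ H) : Inner β := by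
  haveI : Fact (Nat.Prime 2) := ⟨Nat.prime_two⟩
  by_contra hn
  obtain ⟨g, σ, rfl⟩ := exists_form β
  have hinv : ∀ σ : F ≃+* F, σ * σ = 1 := fun σ => by
    have : Nat.card (F ≃+* F) = 2 := card_ringEquiv (p := 2) (by rw [hF]; norm_num)
    rw [← pow_two, ← this]
    exact pow_card_eq_one'
  refine nonsquare h hI hZ hinv hβ hn ?_
  have hc : CharP F 2 := charP_of_card_eq_prime_pow (f := 2) (by rw [hF]; norm_num)
  obtain ⟨a, ha⟩ := FiniteField.isSquare_of_char_two (ringChar.eq F 2) ((Matrix.GeneralLinearGroup.det g : Fˣ) : F)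
  have ha0 : a ≠ 0 := fun e => Units.ne_zero _ (ha.trans (by rw [e, mul_zero]))
  exact ⟨Units.mk0 a ha0, Units.ext ha⟩

theorem square_mul_of_not {a b : Fˣ} (hF : ringChar F ≠ 2) (ha : ¬ IsSquare a) (hb : ¬ IsSquare b) :
    IsSquare (a * b) := by
  classical
  have key : ∀ c : Fˣ, IsSquare (c : F) → IsSquare c := by
    rintro c ⟨x, hx⟩
    have hx0 : x ≠ 0 := fun e => c.ne_zero (hx.trans (by rw [e, mul_zero]))
    exact ⟨Units.mk0 x hx0, Units.ext hx⟩
  refine key _ ((quadraticChar_one_iff_isSquare (Units.ne_zero _)).1 ?_)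
  rw [Units.val_mul, map_mul, quadraticChar_neg_one_iff_not_isSquare.2 (fun e => ha (key _ e)),
    quadraticChar_neg_one_iff_not_isSquare.2 (fun e => hb (key _ e))]
  norm_num

theorem nine_pair (hF : Fintype.card F = 9) (h : IsCIT ↥H) (hI : ∀ s, MulAut.conj s ∈ H)
    (hZ : Subgroup.center (PSLn 2 F) = ⊥) {β γ : MulAut (PSLn 2 F)} (hβ : β ∈ H) (hγ : γ ∈ H)
    (hβn : ¬ Inner β) (hγn : ¬ Inner γ) : Inner (β * γ) := by
  haveI : Fact (Nat.Prime 3) := ⟨Nat.prime_three⟩
  have hinv : ∀ σ : F ≃+* F, σ * σ = 1 := fun σ => by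
    have : Nat.card (F ≃+* F) = 2 := card_ringEquiv (p := 3) (by rw [hF]; norm_num)
    rw [← pow_two, ← this]
    exact pow_card_eq_one'
  obtain ⟨g, σ, rfl⟩ := exists_form β
  obtain ⟨g', σ', rfl⟩ := exists_form γ
  have hg := nonsquare h hI hZ hinv hβ hβn
  have hg' := nonsquare h hI hZ hinv hγ hγn
  have e : conj g * fieldAut σ * (conj g' * fieldAut σ') =
      conj (g * glField σ g') * fieldAut (σ * σ') := by
    rw [map_mul, map_mul, mul_assoc, ← mul_assoc (fieldAut σ), fieldAut_mul_conj, mul_assoc,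
      mul_assoc]
  have hmem := H.mul_mem hβ hγ
  rw [e] at hmem ⊢
  by_contra hn
  refine nonsquare h hI hZ hinv hmem hn ?_
  rw [map_mul]
  have hc : CharP F 3 := charP_of_card_eq_prime_pow (f := 2) (by rw [hF]; norm_num)
  refine square_mul_of_not (by rw [ringChar.eq F 3]; norm_num) hg fun hsq => hg' ?_
  obtain ⟨u, hu⟩ := hsq
  refine ⟨Units.map σ.symm.toRingHom.toMonoidHom u, Units.ext ?_⟩
  have hu' : σ (Matrix.det (g' : Matrix (Fin 2) (Fin 2) F)) = (u : F) * u := by
    have := congrArg Units.val hu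
    rw [RingEquiv.map_det]
    exact this
  have := congrArg σ.symm hu'
  simpa using this

theorem prime_inner (hp : (Fintype.card F).Prime) (h5 : 5 ≤ Fintype.card F) (h : IsCIT ↥H)
    (hI : ∀ s, MulAut.conj s ∈ H) (hZ : Subgroup.center (PSLn 2 F) = ⊥) {β : MulAut (PSLn 2 F)}
    (hβ : β ∈ H) : Inner β := by
  classical
  haveI := Fact.mk hp
  by_contra hn
  have hone : ∀ σ : F ≃+* F, σ = 1 := fun σ => by
    have : Nat.card (F ≃+* F) = 1 := card_ringEquiv (p := Fintype.card F) (pow_one _).symm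
    exact (Nat.card_eq_one_iff_unique.1 this).1.elim σ 1
  obtain ⟨g, σ, rfl⟩ := exists_form β
  have hg := nonsquare h hI hZ (fun σ => hone _) hβ hn
  rw [hone σ, map_one, mul_one] at hβ
  have hc : CharP F (Fintype.card F) := charP_of_card_eq_prime_pow (f := 1) (pow_one _).symm
  have hne : ∀ k : ℕ, 0 < k → k < Fintype.card F → (k : F) ≠ 0 := fun k hk hk' e =>
    absurd ((CharP.cast_eq_zero_iff F (Fintype.card F) k).1 e) (Nat.not_dvd_of_pos_of_lt hk hk')
  have h2 : (2 : F) ≠ 0 := by exact_mod_cast hne 2 (by norm_num) (by omega)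
  have h3 : (3 : F) ≠ 0 := by exact_mod_cast hne 3 (by norm_num) (by omega)
  have hall : ∀ x : GL (Fin 2) F, conj x ∈ H := by
    intro x
    by_cases hx : IsSquare (Matrix.GeneralLinearGroup.det x)
    · obtain ⟨u, hu⟩ := hx
      exact mem_of_inner hI (inner_of_det u (by rw [hu, pow_two]))
    · obtain ⟨u, hu⟩ := square_mul_of_not (by rw [ringChar.eq F (Fintype.card F)]; omega) hg hx
      have hm : conj (g * x) ∈ H :=
        mem_of_inner hI (inner_of_det u (by rw [map_mul, hu, pow_two]))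
      have := H.mul_mem (H.inv_mem hβ) hm
      rwa [map_mul, inv_mul_cancel_left] at this
  let J : GL (Fin 2) F := Matrix.GeneralLinearGroup.mkOfDetNeZero !![1, -2; 2, -1] (by
    simp [Matrix.det_fin_two]; exact fun e => h3 (by linear_combination e))
  have hJ1 : conj J ≠ 1 := by
    intro e
    rw [PSLAut.conj_eq_one_iff, Matrix.GeneralLinearGroup.center_eq_range_scalar] at e
    obtain ⟨r, hr⟩ := e
    have := congrArg (fun z : GL (Fin 2) F => (z : Matrix (Fin 2) (Fin 2) F) 1 0) hr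
    simp [J, Matrix.scalar_apply, Matrix.GeneralLinearGroup.mkOfDetNeZero] at this
    exact h2 this.symm
  have hJ2 : conj J * conj J = 1 := by
    rw [← map_mul, PSLAut.conj_eq_one_iff, Matrix.GeneralLinearGroup.center_eq_range_scalar]
    refine ⟨Units.mk0 (-3 : F) (neg_ne_zero.2 h3), Units.ext ?_⟩
    ext i j
    fin_cases i <;> fin_cases j <;>
      simp [J, Matrix.scalar_apply, Matrix.GeneralLinearGroup.mkOfDetNeZero, Matrix.mul_apply,
        Fin.sum_univ_two] <;> ring
  have hfix : conj J (proj elt3) = proj (elt3 (F := F)) := by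
    rw [conj_proj]
    refine congrArg proj (Subtype.ext ?_)
    rw [coe_slConjFun]
    have hcomm : (J : Matrix (Fin 2) (Fin 2) F) * (elt3 (F := F) : Matrix (Fin 2) (Fin 2) F) =
        (elt3 (F := F) : Matrix (Fin 2) (Fin 2) F) * J := by
      ext i j
      fin_cases i <;> fin_cases j <;>
        simp [J, elt3, Matrix.GeneralLinearGroup.mkOfDetNeZero, Matrix.mul_apply,
          Fin.sum_univ_two] <;> ring
    rw [hcomm, Matrix.mul_assoc, ← Units.val_mul, mul_inv_cancel, Units.val_one, Matrix.mul_one]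
  exact proj_elt3_ne (no_fix h hI hZ (hall J) hJ1 hJ2 hfix (k := 3) (by decide)
    (by rw [← map_pow, elt3_pow, map_one]))

end Two

/-! ### `PSL₃(4)` -/

section Three

variable {F : Type} [Field F] [Fintype F] {H : Subgroup (MulAut (PSLn 3 F))}

/-- A permutation matrix of order three. -/
def perm3 : SLn 3 F := ⟨!![0, 1, 0; 0, 0, 1; 1, 0, 0], by simp [Matrix.det_fin_three]⟩

theorem perm3_pow : (perm3 (F := F)) ^ 3 = 1 := by
  refine Subtype.ext ?_
  rw [Matrix.SpecialLinearGroup.coe_pow, Matrix.SpecialLinearGroup.coe_one]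
  show (!![0, 1, 0; 0, 0, 1; 1, 0, 0] : Matrix (Fin 3) (Fin 3) F) ^ 3 = 1
  ext i j
  fin_cases i <;> fin_cases j <;> simp [pow_succ, Matrix.mul_apply, Fin.sum_univ_three]

theorem cube (hF : Fintype.card F = 4) (c : Fˣ) : c ^ 3 = 1 := by
  classical
  have h : Fintype.card Fˣ = 3 := by rw [Fintype.card_units, hF]
  rw [← h]
  exact pow_card_eq_one

/-- A diagonal matrix of given determinant. -/
def diagDet (c : Fˣ) : GL (Fin 3) F :=
  Matrix.GeneralLinearGroup.mkOfDetNeZero !![(c : F), 0, 0; 0, 1, 0; 0, 0, 1] (by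
    simp [Matrix.det_fin_three])

theorem det_diagDet (c : Fˣ) : Matrix.GeneralLinearGroup.det (diagDet c) = c := by
  refine Units.ext ?_
  simp [diagDet, Matrix.GeneralLinearGroup.mkOfDetNeZero, Matrix.det_fin_three]

/-- No diagonal automorphism lies in `H`. -/
theorem det_eq_one (hF : Fintype.card F = 4) (h : IsCIT ↥H) (hI : ∀ s, MulAut.conj s ∈ H)
    {g : GL (Fin 3) F} (hg : conj g ∈ H) : Matrix.GeneralLinearGroup.det g = 1 := by
  haveI : Fact (Nat.Prime 2) := ⟨Nat.prime_two⟩
  by_contra hd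
  set d := Matrix.GeneralLinearGroup.det g with hddef
  haveI : CharP F 2 := charP_of_card_eq_prime_pow (f := 2) (by rw [hF]; norm_num)
  let T : SLn 3 F := ⟨!![1, 0, 0; 0, 1, 1; 0, 0, 1], by simp [Matrix.det_fin_three]⟩
  have hT2 : T * T = 1 := by
    refine Subtype.ext ?_
    rw [Matrix.SpecialLinearGroup.coe_mul, Matrix.SpecialLinearGroup.coe_one]
    ext i j
    fin_cases i <;> fin_cases j <;> simp [T, Matrix.mul_apply, Fin.sum_univ_three, CharTwo.add_self_eq_zero]
  have hT1 : (MulAut.conj (proj T) : MulAut (PSLn 3 F)) ≠ 1 := by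
    intro e
    rw [← conj_toGL, PSLAut.conj_eq_one_iff, Matrix.GeneralLinearGroup.center_eq_range_scalar] at e
    obtain ⟨r, hr⟩ := e
    have := congrArg (fun z : GL (Fin 3) F => (z : Matrix (Fin 3) (Fin 3) F) 1 2) hr
    change Matrix.scalar (Fin 3) (r : F) 1 2 =
      (!![1, 0, 0; 0, 1, 1; 0, 0, 1] : Matrix (Fin 3) (Fin 3) F) 1 2 at this
    simp [Matrix.scalar_apply] at this
  have hD : conj (diagDet d) ∈ H := by
    have := mem_of_det_eq hI (g := g) (g' := diagDet d) (τ := 1) (det_diagDet d)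
      (by rwa [mul_one])
    rwa [mul_one] at this
  have h3 : (conj (diagDet d)) ^ 3 = (1 : MulAut (PSLn 3 F)) := by
    rw [← map_pow, show diagDet d ^ 3 = 1 from Units.ext ?_, map_one]
    have := congrArg Units.val (cube hF d)
    rw [Units.val_pow_eq_pow_val, Units.val_one] at this
    rw [Units.val_pow_eq_pow_val, Units.val_one]
    ext i j
    fin_cases i <;> fin_cases j <;>
      simp [diagDet, Matrix.GeneralLinearGroup.mkOfDetNeZero, pow_succ, Matrix.mul_apply,
        Fin.sum_univ_three] <;> linear_combination this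
  have hcomm : MulAut.conj (proj T) * conj (diagDet d) =
      conj (diagDet d) * (MulAut.conj (proj T) : MulAut (PSLn 3 F)) := by
    rw [← conj_toGL, ← map_mul, ← map_mul]
    refine congrArg conj (Units.ext ?_)
    rw [Units.val_mul, Units.val_mul]
    show (!![1, 0, 0; 0, 1, 1; 0, 0, 1] : Matrix (Fin 3) (Fin 3) F) * _ =
      _ * (!![1, 0, 0; 0, 1, 1; 0, 0, 1] : Matrix (Fin 3) (Fin 3) F)
    ext i j
    fin_cases i <;> fin_cases j <;>
      simp [diagDet, Matrix.GeneralLinearGroup.mkOfDetNeZero, Matrix.mul_apply,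
        Fin.sum_univ_three]
  have hone := no_comm h (hI _) hD hT1 (by rw [← map_mul, ← map_mul, hT2, map_one, map_one])
    hcomm (k := 3) (by decide) h3
  rw [PSLAut.conj_eq_one_iff, Matrix.GeneralLinearGroup.center_eq_range_scalar] at hone
  obtain ⟨r, hr⟩ := hone
  have e0 := congrArg (fun z : GL (Fin 3) F => (z : Matrix (Fin 3) (Fin 3) F) 0 0) hr
  have e1 := congrArg (fun z : GL (Fin 3) F => (z : Matrix (Fin 3) (Fin 3) F) 1 1) hr
  simp [diagDet, Matrix.GeneralLinearGroup.mkOfDetNeZero, Matrix.scalar_apply] at e0 e1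
  exact hd (Units.ext (by rw [← e0, e1, Units.val_one]))

/-- No involutory outer automorphism fixing `perm3` has a translate in `H`. -/
theorem no_twist (hF : Fintype.card F = 4) (h : IsCIT ↥H) (hI : ∀ s, MulAut.conj s ∈ H)
    (hZ : Subgroup.center (PSLn 3 F) = ⊥) {τ : MulAut (PSLn 3 F)} {θ : GL (Fin 3) F →* GL (Fin 3) F}
    (hθ : ∀ a, τ * conj a = conj (θ a) * τ) (hτ2 : τ * τ = 1) (hτ1 : τ ≠ 1)
    (hτP : τ (proj perm3) = proj (perm3 (F := F))) {g e : GL (Fin 3) F} (hg : conj g * τ ∈ H)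
    (he : Matrix.GeneralLinearGroup.det (e * (θ e)⁻¹) = Matrix.GeneralLinearGroup.det g) : False := by
  have key : conj e * τ * (conj e)⁻¹ = conj (e * (θ e)⁻¹) * τ := by
    rw [map_mul, map_inv, mul_assoc, mul_assoc, ← map_inv, hθ, map_inv, map_inv]
  have hmem := mem_of_det_eq hI he hg
  rw [← key] at hmem
  have h2 : conj e * τ * (conj e)⁻¹ * (conj e * τ * (conj e)⁻¹) = 1 := by
    rw [show conj e * τ * (conj e)⁻¹ * (conj e * τ * (conj e)⁻¹) = conj e * (τ * τ) * (conj e)⁻¹ by
      group, hτ2, mul_one, mul_inv_cancel]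
  have h1 : conj e * τ * (conj e)⁻¹ ≠ 1 := by
    intro e'
    rw [mul_inv_eq_one, mul_eq_left] at e'
    exact hτ1 e'
  have hfix : (conj e * τ * (conj e)⁻¹) (conj e (proj perm3)) = conj e (proj perm3) := by
    rw [MulAut.mul_apply, MulAut.mul_apply, MulAut.inv_apply_self, hτP]
  have := no_fix h hI hZ hmem h1 h2 hfix (k := 3) (by decide)
    (by rw [← map_pow, ← map_pow, perm3_pow, map_one, map_one])
  rw [MulEquiv.map_eq_one_iff] at this
  exact proj_ne_one (i := 0) (j := 1) (by decide) (by simp [perm3]) this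

theorem det_glField (σ : F ≃+* F) (a : GL (Fin 3) F) :
    ((Matrix.GeneralLinearGroup.det (glField σ a) : Fˣ) : F) =
      σ ((Matrix.GeneralLinearGroup.det a : Fˣ) : F) := by
  rw [Matrix.GeneralLinearGroup.val_det_apply, Matrix.GeneralLinearGroup.val_det_apply, RingEquiv.map_det]
  rfl

theorem det_glInvTrans (a : GL (Fin 3) F) :
    Matrix.GeneralLinearGroup.det (glInvTrans a) = (Matrix.GeneralLinearGroup.det a)⁻¹ := by
  refine Units.ext ?_
  rw [← map_inv, Matrix.GeneralLinearGroup.val_det_apply, Matrix.GeneralLinearGroup.val_det_apply,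
    coe_glInvTrans, Matrix.det_transpose]

theorem fieldAut_sq (hF : Fintype.card F = 4) {σ : F ≃+* F} (hσ : σ ≠ 1) :
    σ * σ = 1 ∧ ∀ c : F, σ c = c ^ 2 := by
  haveI : Fact (Nat.Prime 2) := ⟨Nat.prime_two⟩
  haveI : CharP F 2 := charP_of_card_eq_prime_pow (f := 2) (by rw [hF]; norm_num)
  haveI : ExpChar F 2 := ExpChar.prime Nat.prime_two
  have h2 : Nat.card (F ≃+* F) = 2 := card_ringEquiv (p := 2) (by rw [hF]; norm_num)
  refine ⟨by rw [← pow_two, ← h2]; exact pow_card_eq_one', ?_⟩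
  have hfr : (frobeniusEquiv F 2) ≠ 1 := by
    intro e
    classical
    obtain ⟨u, hu⟩ : ∃ u : Fˣ, u ≠ 1 :=
      Fintype.exists_ne_of_one_lt_card (by rw [Fintype.card_units, hF]; norm_num) 1
    refine hu (Units.ext (mul_left_cancel₀ u.ne_zero ?_))
    have := DFunLike.congr_fun e (u : F)
    rw [frobeniusEquiv_apply, frobenius_def, RingAut.one_apply, pow_two] at this
    rw [Units.val_one, mul_one]
    exact this
  obtain ⟨y, -, huniq⟩ := (Nat.card_eq_two_iff' (1 : F ≃+* F)).1 h2
  intro c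
  rw [huniq σ hσ, ← huniq _ hfr, frobeniusEquiv_apply, frobenius_def]

theorem psl34_inner (hF : Fintype.card F = 4) (h : IsCIT ↥H) (hI : ∀ s, MulAut.conj s ∈ H)
    (hZ : Subgroup.center (PSLn 3 F) = ⊥) {β : MulAut (PSLn 3 F)} (hβ : β ∈ H) : Inner β := by
  classical
  obtain ⟨g, σ, ε, hε, rfl⟩ := exists_eq_conj_mul_fieldAut_mul (by norm_num) β
  set d := Matrix.GeneralLinearGroup.det g with hd
  have hd4 : d ^ 2 * d ^ 2 = d := by rw [← pow_add, pow_succ, cube hF, one_mul]
  have hfP : ∀ σ : F ≃+* F, fieldAut σ (proj perm3) = proj (perm3 (F := F)) := fun σ => by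
    rw [fieldAut_proj]
    refine congrArg proj (Subtype.ext ?_)
    rw [coe_map_sl]
    ext i j
    fin_cases i <;> fin_cases j <;> simp [perm3]
  have hiP : (invTrans : MulAut (PSLn 3 F)) (proj perm3) = proj (perm3 (F := F)) := by
    rw [invTrans_proj]
    refine congrArg proj ?_
    have hinv : (perm3 (F := F))⁻¹ = (perm3 (F := F)).transpose := by
      refine inv_eq_of_mul_eq_one_right (Subtype.ext ?_)
      rw [Matrix.SpecialLinearGroup.coe_mul, Matrix.SpecialLinearGroup.coe_transpose,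
        Matrix.SpecialLinearGroup.coe_one]
      ext i j
      fin_cases i <;> fin_cases j <;> simp [perm3, Matrix.mul_apply, Fin.sum_univ_three]
    rw [hinv]
    exact Subtype.ext (Matrix.transpose_transpose _)
  by_cases hσ : σ = 1
  · subst hσ
    rw [map_one, mul_one] at hβ ⊢
    rcases hε with rfl | rfl
    · rw [mul_one] at hβ ⊢
      exact inner_of_det 1 (by rw [det_eq_one hF h hI hβ, one_pow])
    · refine (no_twist hF h hI hZ (θ := glInvTrans) invTrans_mul_conj invTrans_mul_self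
        (fun e => invTrans_ne le_rfl 1 1 (by rw [e, map_one, map_one, one_mul])) hiP hβ
        (e := diagDet (d ^ 2)) ?_).elim
      rw [map_mul, map_inv, det_glInvTrans, inv_inv, det_diagDet]
      exact hd4
  · obtain ⟨hσ2, hsq⟩ := fieldAut_sq hF hσ
    have hdσ : ∀ a, Matrix.GeneralLinearGroup.det (glField σ a) =
        (Matrix.GeneralLinearGroup.det a) ^ 2 := fun a =>
      Units.ext (by rw [det_glField, hsq, Units.val_pow_eq_pow_val])
    rcases hε with rfl | rfl
    · rw [mul_one] at hβ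
      refine (no_twist hF h hI hZ (θ := glField σ) (fieldAut_mul_conj σ)
        (by rw [← map_mul, hσ2, map_one]) (fun e => hσ (conj_eq_fieldAut (n := 3) (by norm_num) (g := 1)
          (by rw [map_one, e])).1) (hfP σ) hβ (e := diagDet (d ^ 2)) ?_).elim
      rw [map_mul, map_inv, hdσ, det_diagDet, ← div_eq_mul_inv, div_eq_iff_eq_mul]
      have := cube hF d
      calc d ^ 2 = d ^ 2 * d ^ 3 := by rw [this, mul_one]
        _ = d * (d ^ 2) ^ 2 := by rw [← pow_mul, ← pow_add, ← pow_succ']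
    · rw [mul_assoc] at hβ
      set θ : GL (Fin 3) F →* GL (Fin 3) F := (glField σ).comp glInvTrans with hθdef
      have hθ : ∀ a, fieldAut σ * invTrans * conj a = conj (θ a) * (fieldAut σ * invTrans) := by
        intro a
        rw [mul_assoc, invTrans_mul_conj, ← mul_assoc, fieldAut_mul_conj, mul_assoc]
        rfl
      have hτ2 : (fieldAut σ * invTrans : MulAut (PSLn 3 F)) * (fieldAut σ * invTrans) = 1 := by
        rw [mul_assoc, ← mul_assoc invTrans, invTrans_mul_fieldAut, mul_assoc, invTrans_mul_self,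
          mul_one, ← map_mul, hσ2, map_one]
      have hd1 : d = 1 := by
        have h2 := H.mul_mem hβ hβ
        rw [mul_assoc, ← mul_assoc (fieldAut σ * invTrans), hθ, mul_assoc, hτ2, mul_one,
          ← map_mul] at h2
        have := det_eq_one hF h hI h2
        rw [map_mul, hθdef, MonoidHom.comp_apply, hdσ, det_glInvTrans, ← hd] at this
        calc d = (d * (d⁻¹) ^ 2)⁻¹ := by group
          _ = 1 := by rw [this, inv_one]
      refine (no_twist hF h hI hZ hθ hτ2 (fun e => invTrans_ne le_rfl 1 σ⁻¹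
        (by rw [map_one, one_mul, map_inv]; exact eq_inv_of_mul_eq_one_right e))
        (by rw [MulAut.mul_apply, hiP, hfP]) hβ (e := 1) ?_).elim
      rw [map_one θ, inv_one, one_mul, map_one]
      exact hd1.symm

end Three

end Cfsg.Agent.Lib.CNStruct
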