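import Cfsg.Agent.Lib.CNCIT.Basic
import Cfsg.Agent.Lib.CIT.Basic
import Cfsg.Agent.S0205

/-!
A nonsolvable CN-group is a CIT-group: the proof for simple groups, with every use of simplicity
replaced by the solvability of groups of odd order.
-/

set_option autoImplicit false
set_option linter.style.haveILetI false

namespace Cfsg.Agent.Lib.CNStruct

open Cfsg.Agent.Lib.SECount
open Cfsg.Agent.Lib.CIT (twoPt mem_twoPt smul_mk_eq_iff smul_one_eq_iff)
open Cfsg.Agent.Lib.CNCIT (Ctx stabilizer_one)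

universe u

variable {G : Type u} [Group G] {H M : Subgroup G} [Finite G]

omit [Finite G] in
/-- A group with a solvable normal subgroup and a solvable subgroup covering the quotient. -/
theorem solvable_of_cover {N K : Subgroup G} [N.Normal] (hN : Group.IsSolvable N)
    (hK : Group.IsSolvable K) (hcov : ∀ g : G, ∃ k ∈ K, k⁻¹ * g ∈ N) : Group.IsSolvable G := by
  haveI := hK
  haveI := hN
  haveI : Group.IsSolvable (G ⧸ N) :=
    Group.isSolvable_of_surjective (f := (QuotientGroup.mk' N).comp K.subtype) (by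
      intro q
      obtain ⟨g, rfl⟩ := QuotientGroup.mk_surjective q
      obtain ⟨k, hk, hkg⟩ := hcov g
      exact ⟨⟨k, hk⟩, QuotientGroup.eq.2 hkg⟩)
  exact Group.isSolvable_of_ker_le_range N.subtype (QuotientGroup.mk' N) (by simp)

/-- The normaliser of such a nilpotent subgroup is solvable. -/
theorem ctx_solvable (c : Ctx H M) (hH : Group.IsNilpotent H) {u : G} (hu : orderOf u = 2)
    (huM : u ∉ M) : Group.IsSolvable M := by
  haveI : (H.subgroupOf M).Normal :=
    ⟨fun x hx g => Subgroup.mem_subgroupOf.2 (c.conj_mem g.2 (Subgroup.mem_subgroupOf.1 hx))⟩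
  haveI := hH
  haveI : Group.IsSolvable (H.subgroupOf M) :=
    Group.isSolvable_of_surjective (f := (Subgroup.subgroupOfEquivOfLe c.le).symm.toMonoidHom)
      (Subgroup.subgroupOfEquivOfLe c.le).symm.surjective
  have hDM : twoPt M u ≤ M := fun x hx => hx.1
  haveI : Group.IsSolvable (twoPt M u) :=
    Group.isSolvable_of_comm fun a b => Subtype.ext (c.comm hu huM a.2 b.2)
  haveI : Group.IsSolvable ((twoPt M u).subgroupOf M) :=
    Group.isSolvable_of_surjective (f := (Subgroup.subgroupOfEquivOfLe hDM).symm.toMonoidHom)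
      (Subgroup.subgroupOfEquivOfLe hDM).symm.surjective
  refine solvable_of_cover (N := H.subgroupOf M) (K := (twoPt M u).subgroupOf M) inferInstance
    inferInstance fun m => ?_
  obtain ⟨a, ha, d, hd, e⟩ := (c.counting hu huM).2.2.1 m m.2
  refine ⟨⟨d, hDM hd⟩, hd, Subgroup.mem_subgroupOf.2 ?_⟩
  show d⁻¹ * (m : G) ∈ H
  rw [e, show d⁻¹ * (a * d) = d⁻¹ * a * d⁻¹⁻¹ by group]
  exact c.conj_mem (M.inv_mem (hDM hd)) ha

/-- In a nonsolvable group such a nilpotent subgroup is a 2-group. -/
theorem ctx_isPGroup_two (c : Ctx H M) (hH : Group.IsNilpotent H) (hns : ¬ Group.IsSolvable G) :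
    IsPGroup 2 H := by
  classical
  haveI := Fact.mk Nat.prime_two
  have hse := c.stronglyEmbedded
  obtain ⟨u, hu, huM⟩ := exists_invo_not_mem hse
  obtain ⟨t, ht, htH⟩ := c.exists_invo
  haveI : Nonempty {t : G // orderOf t = 2 ∧ t ∈ M} := ⟨⟨t, ht, c.le htH⟩⟩
  obtain hI | hI : Nat.card {t : G // orderOf t = 2 ∧ t ∈ M} = 1 ∨
      1 < Nat.card {t : G // orderOf t = 2 ∧ t ∈ M} := by
    have := Nat.card_pos (α := {t : G // orderOf t = 2 ∧ t ∈ M})
    omega
  · -- `M = H`: a normal complement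
    exfalso
    have hD : twoPt M u = ⊥ :=
      Subgroup.eq_bot_of_card_eq _ ((c.counting hu huM).1.trans hI)
    have hMH : M ≤ H := by
      intro m hm
      obtain ⟨a, ha, d, hd, rfl⟩ := (c.counting hu huM).2.2.1 m hm
      rw [hD, Subgroup.mem_bot] at hd
      rwa [hd, mul_one]
    have htop : H.subgroupOf (Subgroup.normalizer (H : Set G)) = ⊤ :=
      Subgroup.subgroupOf_eq_top.2 (c.norm.le.trans hMH)
    have hTI : Cfsg.IsTISubset (H : Set G) := fun g hg x hx hgx =>
      c.ti g⁻¹ (fun h => hg (c.norm.ge (by simpa using M.inv_mem h))) x hx (by simpa using hgx)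
    obtain ⟨N, hN, hNH⟩ := TIHall.exists_normal_complement hTI
      (by rw [htop, Subgroup.index_top]; exact Nat.coprime_one_right _)
      ⟨⊥, inferInstance, by rw [htop]; exact Subgroup.isComplement'_bot_top⟩
    have hidx : N.index = Nat.card H := hNH.symm.index_eq_card
    have hNodd : Odd (Nat.card N) := by
      rw [← hNH.index_eq_card]
      rw [Nat.odd_iff, ← Nat.two_dvd_ne_zero]
      intro h2
      exact Nat.not_coprime_of_dvd_of_dvd one_lt_two c.even h2 c.cop
    haveI := hN
    haveI := hH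
    exact hns (solvable_of_cover (N := N) (K := H) (S0205.result hNodd) inferInstance fun g => by
      obtain ⟨⟨n, k⟩, e⟩ := hNH.2 g
      refine ⟨k, k.2, ?_⟩
      have e' : (n : G) * k = g := e
      rw [← e', show ((k : G))⁻¹ * ((n : G) * k) = (k : G)⁻¹ * n * (k : G)⁻¹⁻¹ by group]
      exact hN.conj_mem _ n.2 _)
  · -- Zassenhaus group
    set o : G ⧸ M := QuotientGroup.mk 1 with ho
    set p : G ⧸ M := QuotientGroup.mk u with hp
    letI := Fintype.ofFinite (G ⧸ M)
    have hop : o ≠ p := fun e => huM (smul_one_eq_iff.1 (by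
      rw [MulAction.Quotient.smul_mk, smul_eq_mul, mul_one]; exact e.symm))
    have hnot : ∀ a ∈ H, a • p ≠ o := fun a ha e => hop (smul_left_cancel a
      ((smul_one_eq_iff.2 (c.le ha) : a • o = o).trans e.symm))
    have hreg₀ : ∀ a ∈ H, ∀ b ∈ H, a • p = b • p → a = b := fun a ha b hb e =>
      inv_mul_eq_one.1 (c.free huM (H.mul_mem (H.inv_mem ha) hb)
        (show (a⁻¹ * b) • p = p by rw [mul_smul, ← e, inv_smul_smul]))
    have hpair : ∀ a b : G ⧸ M, a ≠ b → ∃ g : G, g • o = a ∧ g • p = b := by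
      intro a b hab
      obtain ⟨g₀, rfl⟩ := QuotientGroup.mk_surjective a
      have hg₀ : g₀ • o = (QuotientGroup.mk g₀ : G ⧸ M) := by
        rw [ho, MulAction.Quotient.smul_mk, smul_eq_mul, mul_one]
      obtain ⟨a', ha', e⟩ := c.orbit hu huM hI (q := g₀⁻¹ • b)
        (fun e => hab (by rw [← hg₀, ho, ← e, smul_inv_smul]))
      exact ⟨g₀ * a', by rw [mul_smul, smul_one_eq_iff.2 (c.le ha'), hg₀],
        by rw [mul_smul, ← e, smul_inv_smul]⟩
    have hstab : ∀ x : G, x • o = o → x • p = p → x ∈ twoPt M u := fun x h1 h2 =>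
      mem_twoPt.2 ⟨smul_one_eq_iff.1 h1, smul_mk_eq_iff.1 h2⟩
    have h3 : ∀ g : G, ∀ a b d : G ⧸ M, a ≠ b → b ≠ d → a ≠ d → g • a = a → g • b = b → g • d = d →
        g = 1 := by
      intro g a b d hab hbd had ha hb hd
      obtain ⟨k, rfl, rfl⟩ := hpair a b hab
      have hxD : k⁻¹ * g * k ∈ twoPt M u := hstab _
        (by rw [mul_smul, mul_smul, ha, inv_smul_smul]) (by rw [mul_smul, mul_smul, hb, inv_smul_smul])
      by_contra hg1
      have hx1 : k⁻¹ * g * k ≠ 1 := fun e => hg1 (by
        rw [show g = k * (k⁻¹ * g * k) * k⁻¹ by group, e, mul_one, mul_inv_cancel])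
      rcases c.fixed_twoPt hu huM hxD hx1 (q := k⁻¹ • d)
        (by rw [mul_smul, mul_smul, smul_inv_smul, hd]) with e | e
      · exact had (by rw [← smul_inv_smul k d, e])
      · exact hbd (by rw [← smul_inv_smul k d, e])
    have hHcard : Nat.card H + 1 = Fintype.card (G ⧸ M) := by
      rw [← Nat.card_eq_fintype_card, ← Finite.card_option]
      refine Nat.card_eq_of_bijective
        (fun o' : Option H => o'.elim o fun a => (a : G) • p) ⟨?_, fun q => ?_⟩
      · rintro (_ | a) (_ | b) e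
        · rfl
        · exact absurd e.symm (hnot b b.2)
        · exact absurd e (hnot a a.2)
        · exact congrArg some (Subtype.ext (hreg₀ a a.2 b b.2 e))
      · by_cases hq : q = o
        · exact ⟨none, hq.symm⟩
        · obtain ⟨a, ha, e⟩ := c.orbit hu huM hI hq
          exact ⟨some ⟨a, ha⟩, e.symm⟩
    have h2card : 2 ≤ Nat.card H := Nat.le_of_dvd Nat.card_pos c.even
    have hthird : ∀ a b : G ⧸ M, ∃ d, d ≠ a ∧ d ≠ b := by
      intro a b
      obtain ⟨d, -, hd⟩ := Finset.exists_mem_notMem_of_card_lt_card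
        (s := ({a, b} : Finset (G ⧸ M))) (t := Finset.univ) (Finset.card_le_two.trans_lt (by
          rw [Finset.card_univ]; omega))
      simp only [Finset.mem_insert, Finset.mem_singleton, not_or] at hd
      exact ⟨d, hd⟩
    obtain ⟨d₀, hd₀, hd₀1⟩ : ∃ d ∈ twoPt M u, d ≠ 1 := by
      by_contra hc
      push Not at hc
      have := (c.counting hu huM).1
      rw [(Subgroup.eq_bot_iff_forall _).2 hc, Subgroup.card_bot] at this
      omega
    have hZ : Cfsg.IsZassenhausGroup G (G ⧸ M) := by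
      refine ⟨⟨fun {g g'} e => ?_⟩, MulAction.is_two_pretransitive_iff.2 fun hab hcd => ?_, h3,
        ⟨d₀, hd₀1, o, p, hop, smul_one_eq_iff.2 hd₀.1, smul_mk_eq_iff.2 (mem_twoPt.1 hd₀).2⟩, ?_⟩
      · obtain ⟨d, hd1, hd2⟩ := hthird o p
        exact (inv_mul_eq_one.1 (h3 (g'⁻¹ * g) o p d hop hd2.symm hd1.symm
          (by rw [mul_smul, e, inv_smul_smul]) (by rw [mul_smul, e, inv_smul_smul])
          (by rw [mul_smul, e, inv_smul_smul]))).symm
      · obtain ⟨g₁, h11, h12⟩ := hpair _ _ hab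
        obtain ⟨g₂, h21, h22⟩ := hpair _ _ hcd
        exact ⟨g₂ * g₁⁻¹, by rw [mul_smul, ← h11, inv_smul_smul, h21],
          by rw [mul_smul, ← h12, inv_smul_smul, h22]⟩
      · intro N hN hNt
        refine ⟨o, fun hbot => hns ?_⟩
        haveI := hN
        have horb : MulAction.orbit N o = Set.univ := by
          rw [Set.eq_univ_iff_forall]
          exact fun q => hNt.exists_smul_eq o q
        have hNodd : Odd (Nat.card N) := by
          have h1 := (congrArg Subgroup.index hbot).symm.trans (MulAction.index_stabilizer (G := N) o)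
          rw [Subgroup.index_bot, horb, Set.ncard_univ, Nat.card_eq_fintype_card (α := G ⧸ M),
            ← hHcard] at h1
          rw [h1]
          exact Even.add_one (even_iff_two_dvd.2 c.even)
        refine solvable_of_cover (N := N) (K := M) (S0205.result hNodd) (ctx_solvable c hH hu huM)
          fun g => ?_
        obtain ⟨n, hn⟩ := hNt.exists_smul_eq o (g • o)
        have hm : (n : G)⁻¹ * g ∈ M := smul_one_eq_iff.1 (by
          show ((n : G)⁻¹ * g) • o = o
          rw [mul_smul, ← hn, Subgroup.smul_def, inv_smul_smul])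
        refine ⟨(n : G)⁻¹ * g, hm, ?_⟩
        rw [show ((n : G)⁻¹ * g)⁻¹ * g = g⁻¹ * n * g⁻¹⁻¹ by group]
        exact hN.conj_mem _ n.2 _
    have hodd : Odd (Nat.card ↥(MulAction.stabilizer G o ⊓ MulAction.stabilizer G p)) := by
      rw [Nat.odd_iff, ← Nat.two_dvd_ne_zero]
      intro h2
      obtain ⟨⟨x, hx12⟩, hx⟩ :=
        exists_prime_orderOf_dvd_card' (G := ↥(MulAction.stabilizer G o ⊓ MulAction.stabilizer G p)) 2 h2
      rw [Subgroup.orderOf_mk] at hx
      obtain ⟨hx1, hx2⟩ := Subgroup.mem_inf.1 hx12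
      have hxD := hstab x hx1 hx2
      exact invo_ne_one hx (c.inf_twoPt huM hxD (c.invo_mem hx hxD.1))
    have hHle : H ≤ MulAction.stabilizer G o := (stabilizer_one M).symm ▸ c.le
    have hHfix : ∀ a ∈ H, a ≠ 1 → ∀ q : G ⧸ M, a • q = q → q = o := by
      intro a ha ha1 q hq
      by_contra hqo
      obtain ⟨b, hb, rfl⟩ := c.orbit hu huM hI hqo
      refine ha1 (mul_right_cancel (b := b) ((one_mul b).symm ▸ ?_))
      exact hreg₀ _ (H.mul_mem ha hb) b hb (by rw [mul_smul, hq])
    rcases Zassenhaus.feit _ G le_rfl hZ hop (Nat.card H) _ hHcard.symm rfl hodd H hHle hHcard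
      hHfix with hbig | ⟨h2, -, -⟩
    · have hreg : ∀ y z : G ⧸ M, y ≠ o → z ≠ o → ∃! a : H, (a : G) • y = z := by
        intro y z hy hz
        obtain ⟨a, ha, rfl⟩ := c.orbit hu huM hI hy
        obtain ⟨b, hb, rfl⟩ := c.orbit hu huM hI hz
        refine ⟨⟨b * a⁻¹, H.mul_mem hb (H.inv_mem ha)⟩, ?_, fun x hx => Subtype.ext ?_⟩
        · show (b * a⁻¹) • a • p = b • p
          rw [smul_smul, inv_mul_cancel_right]
        · show (x : G) = b * a⁻¹
          rw [eq_mul_inv_iff_mul_eq]
          exact hreg₀ _ (H.mul_mem x.2 ha) b hb (by rw [mul_smul]; exact hx)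
      have hHn : (H.subgroupOf (MulAction.stabilizer G o)).Normal :=
        ⟨fun x hx g => Subgroup.mem_subgroupOf.2 (c.conj_mem (smul_one_eq_iff.1 g.2) hx)⟩
      obtain ⟨-, q, f, hq, hexp, -⟩ :=
        Cfsg.Agent.S0738.result hZ hop (by omega) H hHle hHn hreg
      have hq2 : q = 2 := ((Nat.prime_dvd_prime_iff_eq Nat.prime_two hq).1
        (ht ▸ orderOf_dvd_of_pow_eq_one (hexp t htH))).symm
      exact fun x => ⟨1, Subtype.ext (by rw [pow_one, SubmonoidClass.coe_pow, ← hq2]; exact hexp x x.2)⟩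
    · exact h2

/-- A nonsolvable CN-group is a CIT-group. -/
theorem isCIT_of_cn {G : Type u} [Group G] [Finite G] (hCN : Cfsg.IsCNGroup G)
    (hns : ¬ Group.IsSolvable G) : CIT.IsCIT G := by
  intro t ht
  classical
  haveI := Fact.mk Nat.prime_two
  set C := Subgroup.centralizer ({t} : Set G) with hC
  obtain ⟨H, hCH, hmax⟩ :=
    (Set.toFinite {K : Subgroup G | Group.IsNilpotent K}).exists_le_maximal
      (a := C) (hCN t (invo_ne_one ht))
  have hHn : Group.IsNilpotent H := hmax.1
  have hmax' : ∀ K : Subgroup G, Group.IsNilpotent K → H ≤ K → K = H := fun K hK hle =>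
    le_antisymm (hmax.2 hK hle) hle
  by_cases hpp : IsPrimePow (Nat.card H)
  · obtain ⟨q, k, hq, -, hqk⟩ := (isPrimePow_nat_iff _).1 hpp
    have htH : t ∈ H := hCH (Subgroup.mem_centralizer_singleton_iff.2 rfl)
    have h2 : 2 ∣ q ^ k := hqk ▸ ht ▸ Subgroup.orderOf_dvd_natCard H htH
    obtain rfl := ((Nat.prime_dvd_prime_iff_eq Nat.prime_two hq).1 (Nat.prime_two.dvd_of_dvd_pow h2)).symm
    exact (IsPGroup.of_card (n := k) hqk.symm).to_le hCH
  have hconj : ∀ g x : G, x ∈ H → x ≠ 1 → g⁻¹ * x * g ∈ H →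
      H.map (MulAut.conj g).toMonoidHom = H := fun g x hx hx1 hgx =>
    CNSolvable.map_conj_eq_of_meet_max hCN hHn hmax' hpp hx hx1 hgx
  have hti : ∀ g : G, H.map (MulAut.conj g).toMonoidHom ≠ H →
      H ⊓ H.map (MulAut.conj g).toMonoidHom = ⊥ := by
    intro g hg
    rw [Subgroup.eq_bot_iff_forall]
    intro x hx
    by_contra hx1
    exact hg (hconj g x hx.1 hx1 (CNSolvable.mem_of_mem_map_conj hx.2))
  have htH : t ∈ H := hCH (Subgroup.mem_centralizer_singleton_iff.2 rfl)
  have hne : Subgroup.normalizer (H : Set G) ≠ ⊤ := by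
    intro htop
    haveI : H.Normal := Subgroup.normalizer_eq_top_iff.1 htop
    have hodd : Odd (Nat.card (G ⧸ H)) := by
      rw [← Subgroup.index_eq_card, Nat.odd_iff, ← Nat.two_dvd_ne_zero]
      intro h2
      exact Nat.not_coprime_of_dvd_of_dvd one_lt_two (ht ▸ Subgroup.orderOf_dvd_natCard H htH) h2
        (CNSolvable.coprime_index hCN hHn hmax')
    haveI := hHn
    haveI : Group.IsSolvable (G ⧸ H) := S0205.result hodd
    exact hns (Group.isSolvable_of_ker_le_range H.subtype (QuotientGroup.mk' H) (by simp))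
  have c : Ctx H (Subgroup.normalizer (H : Set G)) :=
    { norm := rfl
      ti := fun g hg x hx hgx => by
        by_contra hx1
        have e := hconj g x hx hx1 hgx
        refine hg (Subgroup.mem_normalizer_iff.2 fun z => ⟨fun hz => ?_, fun hz => ?_⟩)
        · exact e ▸ ⟨z, hz, rfl⟩
        · rw [← e] at hz
          obtain ⟨y, hy, hyz⟩ := hz
          exact (MulAut.conj g).injective hyz ▸ hy
      cent := fun x hx hx1 => CNSolvable.centralizer_le_of_ti hCN hHn hmax' hti hx hx1
      cop := CNSolvable.coprime_index hCN hHn hmax'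
      ne_top := hne
      even := ht ▸ Subgroup.orderOf_dvd_natCard H htH }
  exact (ctx_isPGroup_two c hHn hns).to_le hCH

end Cfsg.Agent.Lib.CNStruct
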