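import Cfsg.Agent.Lib.CNStruct.SL2Model

/-!
The natural module of the special linear group of degree two over a field of characteristic two
carries no nonzero equivariant biadditive product.
-/

set_option autoImplicit false
set_option linter.style.haveILetI false
set_option linter.unusedSimpArgs false

namespace Cfsg.Agent.Lib.CNStruct

open Matrix

variable {F : Type*} [Field F]

/-- The displacement by a transvection. -/
def sl2K (b : F) (v : Fin 2 → F) : Fin 2 → F := ![b * v 1, 0]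

theorem sl2T_act (b : F) (v : Fin 2 → F) : sl2Mat F (sl2T b) *ᵥ v = v + sl2K b v := by
  rw [sl2T_mat]
  ext j; fin_cases j <;> simp [sl2K, Matrix.mulVec, dotProduct, Fin.sum_univ_two]

theorem sl2H_act (u : Fˣ) (v : Fin 2 → F) :
    sl2Mat F (sl2H u) *ᵥ v = ![(u : F) * v 0, (u : F)⁻¹ * v 1] := by
  rw [sl2H_mat]
  ext j; fin_cases j <;> simp [Matrix.mulVec, dotProduct, Fin.sum_univ_two]

theorem sl2W_act [CharP F 2] (v : Fin 2 → F) : sl2Mat F sl2W *ᵥ v = ![v 1, v 0] := by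
  rw [sl2W_mat]
  ext j; fin_cases j <;> simp [Matrix.mulVec, dotProduct, Fin.sum_univ_two]

theorem sl2T_fix (b : F) {e : Fin 2 → F} (he : e 1 = 0) : sl2Mat F (sl2T b) *ᵥ e = e := by
  rw [sl2T_act, add_eq_left]
  ext j; fin_cases j <;> simp [sl2K, he]

variable [Fintype F] [CharP F 2] {n : ℕ} (hF : Fintype.card F = 2 ^ n) (hn : 2 ≤ n)
  (β : (Fin 2 → F) →+ (Fin 2 → F) →+ (Fin 2 → F))
  (hβ : ∀ g : Matrix.SpecialLinearGroup (Fin 2) F, ∀ p q,
    β (sl2Mat F g *ᵥ p) (sl2Mat F g *ᵥ q) = sl2Mat F g *ᵥ β p q)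

include hF hn in
omit [CharP F 2] in
theorem exists_unit_ne_one : ∃ u : Fˣ, (u : F) ≠ 1 := by
  haveI : Nontrivial Fˣ := by
    rw [← Finite.one_lt_card_iff_nontrivial, Nat.card_units, Nat.card_eq_fintype_card, hF]
    have : 2 ^ 2 ≤ 2 ^ n := Nat.pow_le_pow_right (by norm_num) hn
    omega
  obtain ⟨u, hu⟩ := exists_ne (1 : Fˣ)
  exact ⟨u, fun e => hu (Units.ext e)⟩

include hβ

omit [Fintype F] [CharP F 2] in
theorem sl2Biadd_line (e : Fin 2 → F) (he : e 1 = 0) :
    ∃ c : F, ∀ z : F, β ![z, 0] e = ![z * c, 0] := by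
  have key : ∀ b x, β ![b * x, 0] e = ![b * β ![0, x] e 1, 0] := by
    intro b x
    have := hβ (sl2T b) ![0, x] e
    rw [sl2T_fix b he, sl2T_act, sl2T_act, map_add, AddMonoidHom.add_apply] at this
    simpa [sl2K] using add_left_cancel this
  exact ⟨β ![0, 1] e 1, fun z => by simpa using key z 1⟩

include hF hn in
omit [CharP F 2] in
theorem sl2Biadd_plus (e e' : Fin 2 → F) (he : e 1 = 0) (he' : e' 1 = 0) : β e e' = 0 := by
  have hflip : ∀ g : Matrix.SpecialLinearGroup (Fin 2) F, ∀ p q,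
      β.flip (sl2Mat F g *ᵥ p) (sl2Mat F g *ᵥ q) = sl2Mat F g *ᵥ β.flip p q :=
    fun g p q => hβ g q p
  choose c hc using fun y : F => sl2Biadd_line β hβ ![y, 0] rfl
  obtain ⟨d, hd⟩ := sl2Biadd_line β.flip hflip ![1, 0] rfl
  have hcy : ∀ y, c y = y * d := fun y => by
    simpa using congrFun ((hc y 1).symm.trans (hd y)) 0
  obtain ⟨u, hu⟩ := exists_unit_ne_one hF hn
  have hd0 : d = 0 := by
    have := congrFun (hβ (sl2H u) ![1, 0] ![1, 0]) 0
    rw [sl2H_act, sl2H_act] at this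
    simp [hc, hcy] at this
    have h2 : ((u : F) - 1) * ((u : F) * d) = 0 := by linear_combination (u : F) * this
    simpa [sub_ne_zero.2 hu] using h2
  have hform : ∀ v : Fin 2 → F, v 1 = 0 → v = ![v 0, 0] := fun v hv => by
    ext j; fin_cases j <;> simp [hv]
  rw [hform e he, hform e' he', hc, hcy, hd0]
  simp

include hF hn in
/-- The natural module carries no nonzero equivariant biadditive product. -/
theorem sl2Biadd_eq_zero (p q : Fin 2 → F) : β p q = 0 := by
  have hflip : ∀ g : Matrix.SpecialLinearGroup (Fin 2) F, ∀ p q,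
      β.flip (sl2Mat F g *ᵥ p) (sl2Mat F g *ᵥ q) = sl2Mat F g *ᵥ β.flip p q :=
    fun g p q => hβ g q p
  have hW : ∀ a b, β (sl2Mat F sl2W *ᵥ a) (sl2Mat F sl2W *ᵥ b) = sl2Mat F sl2W *ᵥ β a b :=
    fun a b => hβ _ a b
  have low : ∀ (β : (Fin 2 → F) →+ (Fin 2 → F) →+ (Fin 2 → F)),
      (∀ g : Matrix.SpecialLinearGroup (Fin 2) F, ∀ p q,
        β (sl2Mat F g *ᵥ p) (sl2Mat F g *ᵥ q) = sl2Mat F g *ᵥ β p q) →
      ∀ z x, β ![z, 0] ![0, x] 1 = 0 := by
    intro β hβ z x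
    have := hβ (sl2T 1) ![z, 0] ![0, x]
    rw [sl2T_fix 1 (show ![z, (0 : F)] 1 = 0 from rfl), sl2T_act, map_add,
      sl2Biadd_plus hF hn β hβ ![z, 0] (sl2K 1 ![0, x]) rfl rfl, add_zero, sl2T_act] at this
    have := congrFun (add_eq_left.1 this.symm) 0
    simpa [sl2K] using this
  have cross : ∀ z x, β ![z, 0] ![0, x] = 0 := by
    intro z x
    have h2 := low β.flip hflip x z
    rw [AddMonoidHom.flip_apply] at h2
    have e1 : sl2Mat F sl2W *ᵥ ![z, (0 : F)] = ![0, z] := by rw [sl2W_act]; simp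
    have e2 : sl2Mat F sl2W *ᵥ ![(0 : F), x] = ![x, 0] := by rw [sl2W_act]; simp
    have h3 := congrFun (hW ![z, 0] ![0, x]) 1
    rw [e1, e2, sl2W_act, h2] at h3
    ext j; fin_cases j
    · simpa using h3.symm
    · simpa using low β hβ z x
  have cross' : ∀ z x, β ![0, x] ![z, 0] = 0 := by
    intro z x
    have e1 : sl2Mat F sl2W *ᵥ ![(0 : F), x] = ![x, 0] := by rw [sl2W_act]; simp
    have e2 : sl2Mat F sl2W *ᵥ ![z, (0 : F)] = ![0, z] := by rw [sl2W_act]; simp
    have h3 := hW ![0, x] ![z, 0]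
    rw [e1, e2, cross, sl2W_act] at h3
    ext j; fin_cases j
    · simpa using (congrFun h3 1).symm
    · simpa using (congrFun h3 0).symm
  have minus : ∀ z x, β ![0, z] ![0, x] = 0 := by
    intro z x
    have e1 : ∀ z : F, sl2Mat F sl2W *ᵥ ![z, (0 : F)] = ![0, z] := fun z => by
      rw [sl2W_act]; simp
    rw [← e1, ← e1, hW, sl2Biadd_plus hF hn β hβ _ _ rfl rfl, Matrix.mulVec_zero]
  have hd : ∀ v : Fin 2 → F, v = ![v 0, 0] + ![0, v 1] := fun v => by
    ext j; fin_cases j <;> simp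
  rw [hd p, hd q]
  simp only [map_add, AddMonoidHom.add_apply, cross, cross', minus,
    sl2Biadd_plus hF hn β hβ _ _ (show (![p 0, 0] : Fin 2 → F) 1 = 0 from rfl)
      (show (![q 0, 0] : Fin 2 → F) 1 = 0 from rfl), add_zero]

end Cfsg.Agent.Lib.CNStruct
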