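import Cfsg.Agent.Lib.CNStruct.SL2Square

/-!
An extension of the natural module of the special linear group of degree two over a field of
characteristic two by itself, of exponent two and with the element of order three fixed-point-free,
splits.
-/

set_option autoImplicit false
set_option linter.style.haveILetI false
set_option linter.unusedSimpArgs false

namespace Cfsg.Agent.Lib.CNStruct

open Matrix Finset
open scoped Classical

section Exponents

variable {n : ℕ}

theorem sl2Exp_D (hn : 3 ≤ n) {k l : ℕ} (hk : k < n) (hl : l < n)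
    (h : P n (k + 1) + P n l = P n 0) : k + 2 = n ∧ l + 1 = n := by
  obtain ⟨h1, h2⟩ := two_one hn h
  rcases mod_eq_cases h1 (by omega) (by omega) with a | a | a | a | a <;>
    rcases mod_eq_cases h2 (by omega) (by omega) with b | b | b | b | b <;> omega

theorem sl2Exp_D_two {k l : ℕ} (hk : k < 2) (hl : l < 2) (h : P 2 (k + 1) + P 2 l = P 2 0) :
    k = 0 ∧ l = 1 := by
  revert h
  interval_cases k <;> interval_cases l <;> simp [P] <;> decide

theorem sl2Exp_G (hn : 3 ≤ n) {k l : ℕ} (hk : k < n) (hl : l < n)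
    (h : P n (k + 1) + P n 0 = P n l) : k + 1 = n ∧ l = 1 := by
  obtain ⟨h1, h2⟩ := two_one hn h
  rcases mod_eq_cases h1 (by omega) (by omega) with a | a | a | a | a <;>
    rcases mod_eq_cases h2 (by omega) (by omega) with b | b | b | b | b <;> omega

theorem sl2Exp_Γ (hn : 2 ≤ n) {k l : ℕ} (hk : k < n) (hl : l < n)
    (h : P n l + P n 0 = P n (k + 1)) : k = 0 ∧ l = 0 := by
  rcases eq_or_lt_of_le hn with rfl | hn3
  · revert h
    interval_cases k <;> interval_cases l <;> simp [P] <;> decide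
  · obtain ⟨h1, h2⟩ := two_one hn3 h
    rcases mod_eq_cases h1 (by omega) (by omega) with a | a | a | a | a <;>
      rcases mod_eq_cases h2 (by omega) (by omega) with b | b | b | b | b <;> omega

end Exponents

section Section

variable {F : Type*} [Field F] [Fintype F] [CharP F 2] {n : ℕ}
  {A : Type*} [AddCommGroup A] [DistribMulAction (Matrix.SpecialLinearGroup (Fin 2) F) A]
  (h2 : ∀ a : A, a + a = 0)
  (p : A →+ (Fin 2 → F)) (hp : Function.Surjective p)
  (hpe : ∀ (g : Matrix.SpecialLinearGroup (Fin 2) F) a, p (g • a) = sl2Mat F g *ᵥ p a)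

include h2 hp hpe

/-- A torus-equivariant additive section over the fixed line. -/
theorem sl2_exists_section :
    ∃ σ : F →+ A, (∀ x, p (σ x) = ![x, 0]) ∧ ∀ (u : Fˣ) x, sl2H u • σ x = σ ((u : F) * x) := by
  classical
  haveI : Fact (Nat.Prime 2) := ⟨Nat.prime_two⟩
  letI : Module (ZMod 2) A := AddCommGroup.zmodModule fun a => by rw [two_nsmul, h2]
  letI : Algebra (ZMod 2) F := ZMod.algebra F 2
  have hodd : ∀ v : Fin 2 → F, ∑ _u : Fˣ, v = v := by
    intro v
    rw [Finset.sum_const, Finset.card_univ]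
    funext j
    rw [Pi.smul_apply, nsmul_eq_mul, Fintype.card_units, Nat.cast_sub Fintype.card_pos,
      FiniteField.cast_card_eq_zero, zero_sub, Nat.cast_one, CharTwo.neg_eq, one_mul]
  let q : A →ₗ[ZMod 2] (Fin 2 → F) := p.toZModLinearMap 2
  obtain ⟨s, hs⟩ := q.exists_rightInverse_of_surjective (LinearMap.range_eq_top.2 hp)
  have hs' : ∀ v, p (s v) = v := fun v => LinearMap.congr_fun hs v
  let e : F →+ (Fin 2 → F) :=
    AddMonoidHom.mk' (fun x => ![x, 0]) fun a b => by ext j; fin_cases j <;> simp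
  let σ : F →+ A := ∑ u : Fˣ,
    (DistribSMul.toAddMonoidHom A (sl2H u)).comp
      (s.toAddMonoidHom.comp (e.comp (AddMonoidHom.mulLeft ((u⁻¹ : Fˣ) : F))))
  have hσ : ∀ x, σ x = ∑ u : Fˣ, sl2H u • s ![((u⁻¹ : Fˣ) : F) * x, 0] := fun x => by
    simp [σ, e]
  refine ⟨σ, fun x => ?_, fun u x => ?_⟩
  · rw [hσ, map_sum]
    refine Eq.trans (Finset.sum_congr rfl fun u _ => ?_) (hodd _)
    rw [hpe, hs', sl2H_act]
    simp
  · rw [hσ, hσ, Finset.smul_sum]
    refine Fintype.sum_equiv (Equiv.mulLeft u) _ _ fun v => ?_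
    rw [Equiv.coe_mulLeft, smul_smul, ← map_mul]
    congr 3
    simp
    field_simp

end Section

section Split

variable {F : Type*} [Field F] [Fintype F] [CharP F 2] {n : ℕ} (hF : Fintype.card F = 2 ^ n)
  (hn : 2 ≤ n) {A : Type*} [AddCommGroup A]
  [DistribMulAction (Matrix.SpecialLinearGroup (Fin 2) F) A]
  (h2 : ∀ a : A, a + a = 0) (ι : (Fin 2 → F) →+ A) (p : A →+ (Fin 2 → F))
  (hι : Function.Injective ι) (hp : Function.Surjective p)
  (hιe : ∀ (g : Matrix.SpecialLinearGroup (Fin 2) F) v, ι (sl2Mat F g *ᵥ v) = g • ι v)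
  (hpe : ∀ (g : Matrix.SpecialLinearGroup (Fin 2) F) a, p (g • a) = sl2Mat F g *ᵥ p a)
  (hpι : ∀ v, p (ι v) = 0) (hker : ∀ a, p a = 0 → a ∈ ι.range)

/-- The displacement of a module element by a transvection. -/
def sl2D (b : F) (a : A) : A := sl2T b • a - a

omit [Fintype F] [CharP F 2] in
theorem sl2D_add (b : F) (a a' : A) : sl2D b (a + a') = sl2D b a + sl2D b a' := by
  simp only [sl2D, smul_add]; abel

omit [Fintype F] [CharP F 2] in
theorem sl2D_comp (a b : F) (z : A) :
    sl2D (a + b) z = sl2D a z + sl2D b z + sl2D a (sl2D b z) := by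
  simp only [sl2D, smul_sub, smul_smul, sl2T_mul]; abel

omit [Fintype F] in
theorem sl2H_smul_D (u : Fˣ) (b : F) (z : A) :
    sl2H u • sl2D b z = sl2D (((u ^ (2 : ℤ) : Fˣ) : F) * b) (sl2H u • z) := by
  simp only [sl2D, smul_sub, smul_smul, sl2H_conj_T]

include hιe in
omit [Fintype F] [CharP F 2] in
theorem sl2D_ι (b : F) (v : Fin 2 → F) : sl2D b (ι v) = ι (sl2K b v) := by
  simp only [sl2D, ← hιe, ← map_sub, sl2T_act, add_sub_cancel_left]

include hpe in
omit [Fintype F] [CharP F 2] in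
theorem sl2D_p (b : F) (z : A) : p (sl2D b z) = sl2K b (p z) := by
  simp only [sl2D, map_sub, hpe, sl2T_act, add_sub_cancel_left]

include h2 in
omit [Fintype F] in
theorem sl2D_sq (b : F) (z : A) : sl2D b (sl2D b z) = 0 := by
  have h1 := sl2D_comp b b z
  rw [CharTwo.add_self_eq_zero, h2, zero_add] at h1
  rw [← h1]
  simp [sl2D, sl2T_zero]

include h2 hι hιe hker hpe hpι hp hF hn

/-- A section over the fixed line that is fixed by all transvections. -/
theorem sl2_exists_fixed_section :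
    ∃ σ : F →+ A, (∀ x, p (σ x) = ![x, 0]) ∧ (∀ (u : Fˣ) x, sl2H u • σ x = σ ((u : F) * x)) ∧
      (∀ (b x : F), sl2T b • σ x = σ x) := by
  classical
  obtain ⟨σ, hσp, hσh⟩ := sl2_exists_section h2 p hp hpe
  have hτh : ∀ (u : Fˣ) x,
      sl2H u • sl2W (F := F) • σ x = sl2W (F := F) • σ (((u⁻¹ : Fˣ) : F) * x) := by
    intro u x
    rw [smul_smul, ← inv_inv u, ← sl2W_mul_sl2H, mul_smul, hσh, inv_inv]
  -- the fixed line is moved into the fixed line of the bottom layer
  have hD' : ∀ (b x : F), ∃ d, sl2D b (σ x) = ι ![d, 0] := by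
    intro b x
    obtain ⟨v, hv⟩ := hker (sl2D b (σ x)) (by
      rw [sl2D_p p hpe, hσp]; exact sl2K_of_plus (show (![x, 0] : Fin 2 → F) 1 = 0 from rfl))
    by_cases hb : b = 0
    · refine ⟨0, ?_⟩
      rw [show (![0, 0] : Fin 2 → F) = 0 by ext j; fin_cases j <;> rfl, map_zero, hb]
      simp [sl2D, sl2T_zero]
    refine ⟨v 0, ?_⟩
    have hv1 : v 1 = 0 := sl2K_eq_zero hb (hι (by
      rw [← sl2D_ι ι hιe, hv, sl2D_sq h2, map_zero]))
    rw [← hv]
    congr 1
    ext j; fin_cases j <;> simp [hv1]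
  choose D hD using hD'
  have line : ∀ {a b : F}, ι ![a, 0] = ι ![b, 0] → a = b := fun e => congrFun (hι e) 0
  have hDl : ∀ a a' x, D (a + a') x = D a x + D a' x := fun a a' x => line (by
    rw [← hD, sl2D_comp, hD, hD, sl2D_ι ι hιe, sl2K_of_plus (show (![D a' x, 0] : Fin 2 → F) 1 = 0
      from rfl), map_zero, add_zero, ← map_add]
    congr 1
    ext j; fin_cases j <;> simp)
  have hDr : ∀ a x x', D a (x + x') = D a x + D a x' := fun a x x' => line (by
    rw [← hD, map_add σ, sl2D_add, hD, hD, ← map_add]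
    congr 1
    ext j; fin_cases j <;> simp)
  have hDu : ∀ (u : Fˣ) (a x : F), D (((u ^ (2 : ℤ) : Fˣ) : F) * a)
      (((u ^ (1 : ℤ) : Fˣ) : F) * x) = ((u ^ (1 : ℤ) : Fˣ) : F) * D a x := fun u a x => line (by
    rw [_root_.zpow_one, ← hD, ← hσh, ← sl2H_smul_D, hD, ← hιe, sl2H_act]
    congr 1
    ext j; fin_cases j <;> simp)
  obtain ⟨cD, hcD, hsD⟩ := support₂ hF 2 1 1 D hDl hDr hDu
  have hsD' : ∀ k l : Fin n, cD k l ≠ 0 → P n ((k : ℕ) + 1) + P n (l : ℕ) = P n 0 := by
    intro k l hkl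
    have := hsD k l hkl
    simp only [P, pow_succ, pow_zero]
    push_cast at this
    linear_combination this
  rcases eq_or_lt_of_le hn with rfl | hn3
  · -- over four elements the section is corrected by a multiple of the square
    set d := cD 0 1 with hd
    have hDval : ∀ b x, D b x = d * (b * x ^ 2) := by
      intro b x
      rw [hcD, Fin.sum_univ_two, Fin.sum_univ_two, Fin.sum_univ_two]
      have z : ∀ k l : Fin 2, ¬ ((k : ℕ) = 0 ∧ (l : ℕ) = 1) → cD k l = 0 := by
        intro k l hkl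
        by_contra hne
        exact hkl (sl2Exp_D_two k.2 l.2 (hsD' k l hne))
      rw [z 0 0 (by decide), z 1 0 (by decide), z 1 1 (by decide)]
      simp [hd]
    have h3 : ∀ u : Fˣ, (u : F) ^ 2 = (u : F)⁻¹ := by
      intro u
      have h4 := FiniteField.pow_card_sub_one_eq_one (u : F) u.ne_zero
      rw [hF, show 2 ^ 2 - 1 = 2 + 1 from rfl, pow_succ] at h4
      exact eq_inv_of_mul_eq_one_left h4
    let τ : F →+ (Fin 2 → F) := AddMonoidHom.mk' (fun x => ![0, d * x ^ 2]) fun a b => by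
      ext j; fin_cases j <;> simp [CharTwo.add_sq, mul_add]
    have hτv : ∀ x, τ x = ![0, d * x ^ 2] := fun x => rfl
    refine ⟨σ + ι.comp τ, fun x => ?_, fun u x => ?_, fun b x => ?_⟩
    · simp [hσp, hpι]
    · rw [AddMonoidHom.add_apply, AddMonoidHom.add_apply, smul_add, hσh, AddMonoidHom.comp_apply,
        AddMonoidHom.comp_apply, ← hιe, sl2H_act, hτv, hτv]
      congr 2
      ext j; fin_cases j
      · simp
      · simp [mul_pow, h3]
        ring
    · rw [← sub_eq_zero]
      show sl2D b _ = 0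
      rw [AddMonoidHom.add_apply, sl2D_add, hD, AddMonoidHom.comp_apply, sl2D_ι ι hιe, ← map_add,
        hDval, hτv, ← map_zero ι]
      congr 1
      ext j; fin_cases j <;> simp [sl2K, mul_left_comm, CharTwo.add_self_eq_zero]
  · -- otherwise the section is fixed already
    refine ⟨σ, hσp, hσh, fun b x => ?_⟩
    have hG' : ∀ (b x : F), ∃ v : Fin 2 → F, sl2D b (sl2W (F := F) • σ x) = σ (b * x) + ι v := by
      intro b x
      obtain ⟨v, hv⟩ := hker (sl2D b (sl2W (F := F) • σ x) - σ (b * x)) (by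
        rw [map_sub, sl2D_p p hpe, hpe, hσp, hσp, sl2W_act, sub_eq_zero]
        ext j; fin_cases j <;> simp [sl2K])
      exact ⟨v, by rw [hv, add_sub_cancel]⟩
    choose G hG using hG'
    set G1 : F → F → F := fun b x => G b x 1 with hG1
    -- the square of a transvection
    have rel : ∀ b x, D b (b * x) + b * G1 b x = 0 := by
      intro b x
      have h1 := sl2D_sq h2 b (sl2W (F := F) • σ x)
      rw [hG, sl2D_add, hD, sl2D_ι ι hιe, ← map_add, map_eq_zero_iff ι hι] at h1
      simpa [sl2K, hG1] using congrFun h1 0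
    have hcomp : ∀ (a b x : F), sl2D a (sl2D b (sl2W (F := F) • σ x)) = ι ![D a (b * x) + a * G1 b x, 0] := by
      intro a b x
      rw [hG, sl2D_add, hD, sl2D_ι ι hιe, ← map_add]
      congr 1
      ext j; fin_cases j <;> simp [sl2K, hG1]
    have hGl : ∀ a a' x, G1 (a + a') x = G1 a x + G1 a' x := by
      intro a a' x
      have h1 := sl2D_comp a a' (sl2W (F := F) • σ x)
      rw [hcomp, hG, hG, hG, add_mul, map_add σ] at h1
      have h2' : ι (G (a + a') x) = ι (G a x + G a' x + ![D a (a' * x) + a * G1 a' x, 0]) := by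
        rw [map_add, map_add]
        refine add_left_cancel (a := σ (a * x) + σ (a' * x)) (h1.trans ?_)
        abel
      simpa [hG1] using congrFun (hι h2') 1
    have hGr : ∀ a x x', G1 a (x + x') = G1 a x + G1 a x' := by
      intro a x x'
      have h1 := hG a (x + x')
      rw [map_add σ, smul_add, sl2D_add, hG, hG, mul_add, map_add σ] at h1
      have h2' : ι (G a x + G a x') = ι (G a (x + x')) := by
        rw [map_add]
        refine add_left_cancel (a := σ (a * x) + σ (a * x')) (Eq.trans ?_ h1)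
        abel
      simpa [hG1] using (congrFun (hι h2') 1).symm
    have hGu : ∀ (u : Fˣ) (a x : F), G1 (((u ^ (2 : ℤ) : Fˣ) : F) * a)
        (((u ^ (-1 : ℤ) : Fˣ) : F) * x) = ((u ^ (-1 : ℤ) : Fˣ) : F) * G1 a x := by
      intro u a x
      rw [_root_.zpow_neg_one]
      have h1 := congrArg (sl2H u • ·) (hG a x)
      simp only [sl2H_smul_D, hτh, smul_add, hσh, ← hιe] at h1
      rw [hG, show ((u ^ (2 : ℤ) : Fˣ) : F) * a * (((u⁻¹ : Fˣ) : F) * x) = (u : F) * (a * x) by
        rw [zpow_two_val, Units.val_inv_eq_inv_val]; field_simp] at h1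
      have := congrFun (hι (add_left_cancel h1)) 1
      rw [sl2H_act] at this
      simpa [hG1] using this
    obtain ⟨cG, hcG, hsG⟩ := support₂ hF 2 (-1) (-1) G1 hGl hGr hGu
    have hsG' : ∀ k l : Fin n, cG k l ≠ 0 → P n ((k : ℕ) + 1) + P n 0 = P n (l : ℕ) := by
      intro k l hkl
      have := hsG k l hkl
      simp only [P, pow_succ, pow_zero]
      push_cast at this
      linear_combination this
    -- comparing the two single monomials
    have hz : ∀ l : Fin n, ∑ k, cD k l + ∑ k, cG k l = 0 := by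
      refine congrFun (coeff_unique₁ hF (c := fun l => ∑ k, cD k l + ∑ k, cG k l)
        (d := fun _ => 0) fun x => ?_)
      have h1 := rel 1 x
      rw [one_mul, one_mul, hcD, hcG, Finset.sum_comm] at h1
      conv at h1 => lhs; arg 2; rw [Finset.sum_comm]
      simp only [one_pow, one_mul] at h1
      simp only [zero_mul, Finset.sum_const_zero, add_mul, Finset.sum_mul]
      rw [Finset.sum_add_distrib]
      exact h1
    have hcD0 : ∀ k l, cD k l = 0 := by
      intro k l
      by_contra hne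
      obtain ⟨hk, hl⟩ := sl2Exp_D hn3 k.2 l.2 (hsD' k l hne)
      have hG0 : ∑ k', cG k' l = 0 := by
        refine Finset.sum_eq_zero fun k' _ => ?_
        by_contra hne'
        have := (sl2Exp_G hn3 k'.2 l.2 (hsG' k' l hne')).2
        omega
      have hDsum : ∑ k', cD k' l = cD k l := by
        refine Finset.sum_eq_single k (fun k' _ hk' => ?_) fun e => absurd (Finset.mem_univ k) e
        by_contra hne'
        have := (sl2Exp_D hn3 k'.2 l.2 (hsD' k' l hne')).1
        exact hk' (Fin.ext (by omega))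
      have := hz l
      rw [hG0, add_zero, hDsum] at this
      exact hne this
    rw [← sub_eq_zero]
    show sl2D b (σ x) = 0
    rw [hD, hcD, Finset.sum_eq_zero fun k _ => Finset.sum_eq_zero fun l _ => by
      rw [hcD0, zero_mul], show (![0, 0] : Fin 2 → F) = 0 by ext j; fin_cases j <;> rfl, map_zero]

/-- The extension splits. -/
theorem sl2_split (_hC : ∀ a : A, ∑ u : Fˣ, sl2H u • a = 0)
    (hy : ∀ a : A, ∑ i ∈ Finset.range 3, (sl2Y (F := F) ^ i) • a = 0) :
    ∃ U : AddSubgroup A, Invt (Matrix.SpecialLinearGroup (Fin 2) F) U ∧ U ≠ ⊥ ∧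
      U ⊓ ι.range = ⊥ := by
  classical
  obtain ⟨σ, hσp, hσh, hσT⟩ := sl2_exists_fixed_section hF hn h2 ι p hι hp hιe hpe hpι hker
  have hσD : ∀ (b x : F), sl2D b (σ x) = 0 := fun b x => by
    show sl2T b • σ x - σ x = 0
    rw [hσT, sub_self]
  have hWW : ∀ a : A, sl2W (F := F) • sl2W (F := F) • a = a := fun a => by
    rw [smul_smul, sl2W_mul_self, one_smul]
  have hτh : ∀ (u : Fˣ) x,
      sl2H u • sl2W (F := F) • σ x = sl2W (F := F) • σ (((u⁻¹ : Fˣ) : F) * x) := by
    intro u x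
    rw [smul_smul, ← inv_inv u, ← sl2W_mul_sl2H, mul_smul, hσh, inv_inv]
  have hΓ' : ∀ (b x : F), ∃ g, sl2D b (sl2W (F := F) • σ x) = σ (b * x) + ι ![g, 0] := by
    intro b x
    obtain ⟨v, hv⟩ := hker (sl2D b (sl2W (F := F) • σ x) - σ (b * x)) (by
      rw [map_sub, sl2D_p p hpe, hpe, hσp, hσp, sl2W_act, sub_eq_zero]
      ext j; fin_cases j <;> simp [sl2K])
    have e1 : sl2D b (sl2W (F := F) • σ x) = σ (b * x) + ι v := by rw [hv, add_sub_cancel]
    by_cases hb : b = 0
    · refine ⟨0, ?_⟩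
      rw [hb, zero_mul, map_zero, zero_add,
        show (![0, 0] : Fin 2 → F) = 0 by ext j; fin_cases j <;> rfl, map_zero]
      simp [sl2D, sl2T_zero]
    have hv1 : v 1 = 0 := sl2K_eq_zero hb (hι (by
      have h1 := sl2D_sq h2 b (sl2W (F := F) • σ x)
      rw [e1, sl2D_add, hσD, zero_add, sl2D_ι ι hιe] at h1
      rw [h1, map_zero]))
    refine ⟨v 0, e1.trans ?_⟩
    congr 2
    ext j; fin_cases j <;> simp [hv1]
  choose Γ hΓ using hΓ'
  have line : ∀ {a b : F}, ι ![a, 0] = ι ![b, 0] → a = b := fun e => congrFun (hι e) 0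
  have hsum : ∀ a b : F, ι ![a + b, 0] = ι ![a, 0] + ι ![b, 0] := fun a b => by
    rw [← map_add]
    congr 1
    ext j; fin_cases j <;> simp
  have hΓl : ∀ a a' x, Γ (a + a') x = Γ a x + Γ a' x := by
    intro a a' x
    have h1 := sl2D_comp a a' (sl2W (F := F) • σ x)
    rw [hΓ, hΓ, hΓ, sl2D_add, hσD, sl2D_ι ι hιe,
      sl2K_of_plus (show (![Γ a' x, 0] : Fin 2 → F) 1 = 0 from rfl), map_zero, add_zero, add_zero,
      add_mul, map_add σ] at h1
    refine line ?_
    rw [hsum]
    refine add_left_cancel (a := σ (a * x) + σ (a' * x)) (h1.trans ?_)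
    abel
  have hΓr : ∀ a x x', Γ a (x + x') = Γ a x + Γ a x' := by
    intro a x x'
    have h1 := hΓ a (x + x')
    rw [map_add σ, smul_add, sl2D_add, hΓ, hΓ, mul_add, map_add σ] at h1
    refine line ?_
    rw [hsum]
    refine add_left_cancel (a := σ (a * x) + σ (a * x')) (h1.symm.trans ?_)
    abel
  have hΓu : ∀ (u : Fˣ) (a x : F), Γ (((u ^ (2 : ℤ) : Fˣ) : F) * a)
      (((u ^ (-1 : ℤ) : Fˣ) : F) * x) = ((u ^ (1 : ℤ) : Fˣ) : F) * Γ a x := by
    intro u a x
    rw [_root_.zpow_neg_one, _root_.zpow_one]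
    have h1 := congrArg (sl2H u • ·) (hΓ a x)
    simp only [sl2H_smul_D, hτh, smul_add, hσh, ← hιe] at h1
    rw [hΓ, show ((u ^ (2 : ℤ) : Fˣ) : F) * a * (((u⁻¹ : Fˣ) : F) * x) = (u : F) * (a * x) by
      rw [zpow_two_val, Units.val_inv_eq_inv_val]; field_simp] at h1
    have := congrFun (hι (add_left_cancel h1)) 0
    rw [sl2H_act] at this
    simpa using this
  obtain ⟨c, hc, hs⟩ := support₂ hF 2 (-1) 1 Γ hΓl hΓr hΓu
  set z : Fin n := ⟨0, by omega⟩ with hz
  set κ := c z z with hκ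
  have hΓval : ∀ b x, Γ b x = κ * (b * x) := by
    intro b x
    have hzero : ∀ k l : Fin n, ¬ (k = z ∧ l = z) → c k l = 0 := by
      intro k l hkl
      by_contra hne
      have hP := hs k l hne
      push_cast at hP
      obtain ⟨hk0, hl0⟩ := sl2Exp_Γ hn k.2 l.2 (by
        simp only [P, pow_succ, pow_zero]
        linear_combination -hP)
      exact hkl ⟨Fin.ext hk0, Fin.ext hl0⟩
    rw [hc, Finset.sum_eq_single z ?_ (fun e => absurd (Finset.mem_univ z) e),
      Finset.sum_eq_single z ?_ (fun e => absurd (Finset.mem_univ z) e)]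
    · simp [hκ, hz]
    · exact fun l _ hl => mul_eq_zero_of_left (hzero z l fun h => hl h.2) _
    · exact fun k _ hk => Finset.sum_eq_zero fun l _ =>
        mul_eq_zero_of_left (hzero k l fun h => hk h.1) _
  -- the element of order three
  have hY : ∀ a : A, sl2Y (F := F) • a = sl2W (F := F) • sl2T (1 : F) • a := fun a => by
    rw [sl2Y, mul_smul]
  have hstep : ∀ x : F, sl2T (1 : F) • sl2W (F := F) • σ x = sl2W (F := F) • σ x + σ x + ι ![κ * x, 0] := by
    intro x
    have h1 := hΓ 1 x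
    rw [hΓval, one_mul, sl2D, sub_eq_iff_eq_add] at h1
    rw [h1]
    abel
  have hκ0 : κ = 0 := by
    have h1 := hy (σ 1)
    rw [Finset.sum_range_succ, Finset.sum_range_succ, Finset.sum_range_one, pow_zero, one_smul,
      pow_one, pow_two, mul_smul, hY, hσT, hY, hstep, smul_add, smul_add, hWW, ← hιe,
      sl2W_act] at h1
    have h2' : ι ![(0 : F), κ] = 0 := by
      rw [← h1]
      have e : ![(![κ * 1, 0] : Fin 2 → F) 1, (![κ * 1, 0] : Fin 2 → F) 0] = ![(0 : F), κ] := by
        ext j; fin_cases j <;> simp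
      rw [e, show ∀ s t r : A, s + t + (s + t + r) = (s + s) + (t + t) + r from
        fun s t r => by abel, h2, h2, zero_add, zero_add]
    simpa using congrFun ((map_eq_zero_iff ι hι).1 h2') 1
  have hTτ : ∀ (b x : F), sl2T b • sl2W (F := F) • σ x = sl2W (F := F) • σ x + σ (b * x) := by
    intro b x
    have h1 := hΓ b x
    rw [hΓval, hκ0, zero_mul, show (![0, 0] : Fin 2 → F) = 0 by ext j; fin_cases j <;> rfl,
      map_zero, add_zero, sl2D, sub_eq_iff_eq_add] at h1
    rw [h1, add_comm]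
  -- the complement
  let U : AddSubgroup A :=
    σ.range ⊔ ((DistribSMul.toAddMonoidHom A (sl2W (F := F))).comp σ).range
  have hU : ∀ a, a ∈ U ↔ ∃ x y, σ x + sl2W (F := F) • σ y = a := by
    intro a
    simp only [U, AddSubgroup.mem_sup, AddMonoidHom.mem_range]
    constructor
    · rintro ⟨_, ⟨x, rfl⟩, _, ⟨y, rfl⟩, rfl⟩
      exact ⟨x, y, rfl⟩
    · rintro ⟨x, y, rfl⟩
      exact ⟨_, ⟨x, rfl⟩, _, ⟨y, rfl⟩, rfl⟩
  have hT : ∀ b : F, ∀ a ∈ U, sl2T b • a ∈ U := by
    intro b a ha
    obtain ⟨x, y, rfl⟩ := (hU a).1 ha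
    exact (hU _).2 ⟨x + b * y, y, by rw [smul_add, hσT, hTτ, map_add]; abel⟩
  have hH : ∀ u : Fˣ, ∀ a ∈ U, sl2H u • a ∈ U := by
    intro u a ha
    obtain ⟨x, y, rfl⟩ := (hU a).1 ha
    exact (hU _).2 ⟨(u : F) * x, ((u⁻¹ : Fˣ) : F) * y, by rw [smul_add, hσh, hτh]⟩
  have hW : ∀ a ∈ U, sl2W (F := F) • a ∈ U := by
    intro a ha
    obtain ⟨x, y, rfl⟩ := (hU a).1 ha
    exact (hU _).2 ⟨y, x, by rw [smul_add, hWW, add_comm]⟩
  refine ⟨U, fun g a ha => ?_, fun e => ?_, ?_⟩
  · rcases sl2_bruhat g with ⟨r, u, rfl⟩ | ⟨r, u, b, rfl⟩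
    · rw [mul_smul]
      exact hT _ _ (hH _ _ ha)
    · rw [mul_smul, mul_smul, mul_smul]
      exact hT _ _ (hH _ _ (hW _ (hT _ _ ha)))
  · have h1 : σ 1 ∈ U := (hU _).2 ⟨1, 0, by rw [map_zero, smul_zero, add_zero]⟩
    rw [e, AddSubgroup.mem_bot] at h1
    have := congrFun (congrArg p h1) 0
    rw [hσp, map_zero] at this
    simp at this
  · rw [AddSubgroup.eq_bot_iff_forall]
    rintro a ⟨ha, v, hv⟩
    obtain ⟨x, y, rfl⟩ := (hU _).1 ha
    have h1 := congrArg p hv
    rw [hpι, map_add, hσp, hpe, hσp, sl2W_act] at h1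
    have hx : x = 0 := by simpa using (congrFun h1 0).symm
    have hy' : y = 0 := by simpa using (congrFun h1 1).symm
    simp [hx, hy']

end Split

end Cfsg.Agent.Lib.CNStruct
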