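import Cfsg.Agent.Lib.CNStruct.SL2Forms

/-!
No abelian group of exponent four whose two layers are natural modules of the special linear group
of degree two over a field of characteristic two.
-/

set_option autoImplicit false
set_option linter.style.haveILetI false
set_option linter.unusedSimpArgs false

namespace Cfsg.Agent.Lib.CNStruct

open Matrix Finset
open scoped Classical

variable {F : Type*} [Field F] [Fintype F] [CharP F 2] {n : ℕ}

omit [Fintype F] [CharP F 2] in
theorem sl2K_eq_zero {b : F} (hb : b ≠ 0) {v : Fin 2 → F} (hv : sl2K b v = 0) : v 1 = 0 := by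
  simpa [sl2K, hb] using congrFun hv 0

omit [Fintype F] [CharP F 2] in
theorem sl2K_of_plus {b : F} {v : Fin 2 → F} (hv : v 1 = 0) : sl2K b v = 0 := by
  ext j; fin_cases j <;> simp [sl2K, hv]

omit [Fintype F] [CharP F 2] in
theorem zpow_two_val (u : Fˣ) : ((u ^ (2 : ℤ) : Fˣ) : F) = (u : F) ^ 2 := by
  rw [show (2 : ℤ) = ((2 : ℕ) : ℤ) from rfl, zpow_natCast, Units.val_pow_eq_pow_val]

omit [Fintype F] in
theorem sl2H_conj_T (u : Fˣ) (b : F) :
    sl2H u * sl2T b = sl2T (((u ^ (2 : ℤ) : Fˣ) : F) * b) * sl2H u := by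
  rw [sl2H_mul_sl2T, zpow_two_val]

theorem zmod_two_pow_eq (hn : 2 ≤ n) {k l : ℕ} (hk : k < n) (hl : l < n)
    (h : P n (k + 1) + P n (l + 1) = P n 1) : k + 1 = n ∧ l + 1 = n := by
  rcases eq_or_lt_of_le hn with rfl | hn3
  · revert h
    interval_cases k <;> interval_cases l <;> simp [P] <;> decide
  · obtain ⟨h1, h2⟩ := two_one hn3 h
    rcases mod_eq_cases h1 (by omega) (by omega) with a | a | a | a | a <;>
      rcases mod_eq_cases h2 (by omega) (by omega) with b | b | b | b | b <;> omega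

variable (hF : Fintype.card F = 2 ^ n) (hn : 2 ≤ n)
  {A : Type*} [AddCommGroup A] [Finite A]
  [DistribMulAction (Matrix.SpecialLinearGroup (Fin 2) F) A]

include hF hn

omit [Finite A] in
/-- The squaring map of such an abelian group would be an equivariant form without fixed points. -/
theorem sl2_no_square (ι : (Fin 2 → F) →+ A) (p : A →+ (Fin 2 → F))
    (hι : Function.Injective ι) (hp : Function.Surjective p)
    (hιe : ∀ (g : Matrix.SpecialLinearGroup (Fin 2) F) v, ι (sl2Mat F g *ᵥ v) = g • ι v)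
    (hpe : ∀ (g : Matrix.SpecialLinearGroup (Fin 2) F) a, p (g • a) = sl2Mat F g *ᵥ p a)
    (hker : ∀ a, p a = 0 → a ∈ ι.range) (hsq : ∀ a, a + a = ι (p a))
    (hC : ∀ a : A, ∑ u : Fˣ, sl2H u • a = 0) : False := by
  classical
  set K : F → A → A := fun b z => sl2T b • z - z with hK
  have Kι : ∀ b v, K b (ι v) = ι (sl2K b v) := fun b v => by
    simp only [hK, ← hιe, ← map_sub, sl2T_act, add_sub_cancel_left]
  have Kp : ∀ b z, p (K b z) = sl2K b (p z) := fun b z => by
    simp only [hK, map_sub, hpe, sl2T_act, add_sub_cancel_left]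
  have Kadd : ∀ b z z', K b (z + z') = K b z + K b z' := fun b z z' => by
    simp only [hK, smul_add]; abel
  have Kbb : ∀ a b z, K (a + b) z = K a z + K b z + K a (K b z) := fun a b z => by
    simp only [hK, smul_sub, smul_smul, sl2T_mul]
    abel
  have K0 : ∀ b, K b 0 = 0 := fun b => by simp [hK]
  have Kzero : ∀ z, K 0 z = 0 := fun z => by simp [hK, sl2T_zero]
  -- doubling a translation
  have Ksq : ∀ b z, K b (K b z) = ι (sl2K b (p z)) := by
    intro b z
    have h1 := Kbb b b z
    rw [CharTwo.add_self_eq_zero, Kzero, hsq, Kp] at h1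
    rw [eq_neg_of_add_eq_zero_right h1.symm, ← map_neg]
    congr 1
    exact funext fun j => CharTwo.neg_eq _
  -- lifts of fixed vectors are moved into fixed vectors
  have Kplus : ∀ b z, p z 1 = 0 → ∃ v : Fin 2 → F, v 1 = 0 ∧ K b z = ι v := by
    intro b z hz
    by_cases hb : b = 0
    · exact ⟨0, rfl, by rw [hb, Kzero, map_zero]⟩
    obtain ⟨v, hv⟩ := hker (K b z) (by rw [Kp, sl2K_of_plus hz])
    refine ⟨v, sl2K_eq_zero hb (hι ?_), hv.symm⟩
    rw [← Kι, hv, Ksq, sl2K_of_plus hz]
  choose R hR using fun x : F => hp ![0, x]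
  have hG' : ∀ a b x, ∃ v : Fin 2 → F, v 1 = 0 ∧ K a (K b (R x)) = ι v := fun a b x =>
    Kplus a _ (by rw [Kp]; rfl)
  choose G hG1 hG2 using hG'
  have huniq : ∀ a b x z, p z = ![0, x] → K a (K b z) = ι (G a b x) := by
    intro a b x z hz
    obtain ⟨v, hv⟩ := hker (z - R x) (by rw [map_sub, hz, hR, sub_self])
    rw [← hG2 a b x, show z = R x + ι v by rw [hv, add_sub_cancel], Kadd, Kadd, Kι, Kι,
      sl2K_of_plus (show sl2K b v 1 = 0 from rfl), map_zero, add_zero]
  have kill : ∀ c a b x, K c (K a (K b (R x))) = 0 := fun c a b x => by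
    rw [hG2, Kι, sl2K_of_plus (hG1 a b x), map_zero]
  set B : F → F → F → F := fun a b x => G a b x 0 with hB
  obtain ⟨c, hc⟩ := expand₃ hF B
    (fun a a' b x => by
      simp only [hB]
      have : G (a + a') b x = G a b x + G a' b x :=
        hι (by rw [map_add, ← hG2, ← hG2, ← hG2, Kbb, kill, add_zero])
      rw [this]; rfl)
    (fun a b b' x => by
      simp only [hB]
      have : G a (b + b') x = G a b x + G a b' x :=
        hι (by rw [map_add, ← hG2, ← hG2, ← hG2, Kbb, Kadd, Kadd, kill, add_zero])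
      rw [this]; rfl)
    (fun a b x x' => by
      simp only [hB]
      have : G a b (x + x') = G a b x + G a b x' :=
        hι (by
          rw [map_add, ← huniq a b (x + x') (R x + R x')
            (by rw [map_add, hR, hR]; ext j; fin_cases j <;> simp), Kadd, Kadd, hG2, hG2])
      rw [this]; rfl)
  -- equivariance
  have hconj : ∀ (u : Fˣ) b z,
      sl2H u • K b z = K (((u ^ (2 : ℤ) : Fˣ) : F) * b) (sl2H u • z) := by
    intro u b z
    simp only [hK, smul_sub, smul_smul, sl2H_conj_T]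
  have hpR : ∀ (u : Fˣ) x,
      p (sl2H u • R x) = ![0, ((u ^ (-1 : ℤ) : Fˣ) : F) * x] := by
    intro u x
    rw [hpe, hR, sl2H_act, _root_.zpow_neg_one, Units.val_inv_eq_inv_val]
    simp
  have hBu : ∀ (u : Fˣ) a b x,
      B (((u ^ (2 : ℤ) : Fˣ) : F) * a) (((u ^ (2 : ℤ) : Fˣ) : F) * b)
        (((u ^ (-1 : ℤ) : Fˣ) : F) * x) = ((u ^ (1 : ℤ) : Fˣ) : F) * B a b x := by
    intro u a b x
    have h1 : ι (sl2Mat F (sl2H u) *ᵥ G a b x) = ι (G (((u ^ (2 : ℤ) : Fˣ) : F) * a)
        (((u ^ (2 : ℤ) : Fˣ) : F) * b) (((u ^ (-1 : ℤ) : Fˣ) : F) * x)) := by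
      rw [hιe, ← hG2, hconj, hconj]
      exact huniq _ _ _ _ (hpR u x)
    simp only [hB, ← hι h1]
    rw [sl2H_act, _root_.zpow_one]
    simp
  -- the monomials
  have hsupp : ∀ k l j : Fin n, (j : ℕ) = 0 → c k l j ≠ 0 →
      (k : ℕ) + 1 = n ∧ (l : ℕ) + 1 = n := by
    intro k l j hj hne
    have hz := zmod_eq_zero_of_forall hF
      (E := 2 * 2 ^ (k : ℕ) + 2 * 2 ^ (l : ℕ) + (-1) * 2 ^ (j : ℕ) - 1) fun u => by
      have e := congrFun (congrFun (congrFun (coeff_unique₃ hF
        (c := fun k l j => c k l j * ((u ^ (2 * 2 ^ (k : ℕ) + 2 * 2 ^ (l : ℕ) +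
          (-1 : ℤ) * 2 ^ (j : ℕ)) : Fˣ) : F))
        (d := fun k l j => ((u ^ (1 : ℤ) : Fˣ) : F) * c k l j) fun a b x => ?_) k) l) j
      · rw [_root_.zpow_sub, mul_inv_eq_one]
        refine Units.ext (mul_left_cancel₀ hne ?_)
        rw [e, mul_comm]
      · have := hBu u a b x
        rw [hc, hc, Finset.mul_sum] at this
        refine Eq.trans (Finset.sum_congr rfl fun k _ => Finset.sum_congr rfl fun l _ =>
          Finset.sum_congr rfl fun j _ => ?_) (this.trans (Finset.sum_congr rfl fun k _ => ?_))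
        · rw [zpow_pow_frob, zpow_pow_frob, zpow_pow_frob, _root_.zpow_add, _root_.zpow_add,
            Units.val_mul, Units.val_mul]
          ring
        · simp only [Finset.mul_sum]
          exact Finset.sum_congr rfl fun l _ => Finset.sum_congr rfl fun j _ => by ring
    push_cast [hj, pow_zero, mul_one] at hz
    refine zmod_two_pow_eq hn k.2 l.2 ?_
    simp only [P, pow_succ, pow_zero]
    linear_combination hz
  -- the torus relation kills the only possible diagonal monomial
  set mf : Fin n := ⟨n - 1, by omega⟩ with hmf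
  set zf : Fin n := ⟨0, by omega⟩ with hzf
  have hc0 : c mf mf zf = 0 := by
    have hs : ∀ a b x : F, ∑ u : Fˣ,
        B a (((u ^ (2 : ℤ) : Fˣ) : F) * b) (((u ^ (-1 : ℤ) : Fˣ) : F) * x) = 0 := by
      intro a b x
      have h0 : K a (∑ u : Fˣ, sl2H u • K b (R x)) = 0 := by rw [hC, K0]
      have hKs : ∀ (s : Finset Fˣ) (f : Fˣ → A), K a (∑ u ∈ s, f u) = ∑ u ∈ s, K a (f u) :=
        fun s f => map_sum (AddMonoidHom.mk' (K a) (Kadd a)) f s
      rw [hKs] at h0
      have hterm : ∀ u : Fˣ, K a (sl2H u • K b (R x)) =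
          ι (G a (((u ^ (2 : ℤ) : Fˣ) : F) * b) (((u ^ (-1 : ℤ) : Fˣ) : F) * x)) := by
        intro u
        rw [hconj]
        exact huniq _ _ _ _ (hpR u x)
      simp only [hterm, ← map_sum] at h0
      have := congrFun ((map_eq_zero_iff ι hι).1 h0) 0
      simpa [hB, Finset.sum_apply] using this
    have e := congrFun (congrFun (congrFun (coeff_unique₃ hF
      (c := fun k l j => c k l j *
        ∑ u : Fˣ, ((u ^ (2 * 2 ^ (l : ℕ) + (-1 : ℤ) * 2 ^ (j : ℕ)) : Fˣ) : F))
      (d := fun _ _ _ => 0) fun a b x => ?_) mf) mf) zf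
    · have hE : ∀ u : Fˣ, u ^ (2 * 2 ^ (n - 1) + (-1 : ℤ) * 2 ^ 0) = 1 := by
        intro u
        refine orderOf_dvd_iff_zpow_eq_one.1 ?_
        refine dvd_trans (Int.natCast_dvd_natCast.2 (orderOf_dvd_natCard u)) ?_
        rw [Nat.card_units, Nat.card_eq_fintype_card, hF, ← ZMod.intCast_zmod_eq_zero_iff_dvd]
        push_cast
        rw [show (2 : ZMod (2 ^ n - 1)) * 2 ^ (n - 1) = P n n by
          rw [P, ← pow_succ', show n - 1 + 1 = n by omega], P_period]
        ring
      simp only [hmf, hzf, hE, Units.val_one, Finset.sum_const, Finset.card_univ,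
        Fintype.card_units, nsmul_one] at e
      rw [Nat.cast_sub Fintype.card_pos, FiniteField.cast_card_eq_zero, zero_sub, Nat.cast_one,
        CharTwo.neg_eq, mul_one] at e
      exact e
    · simp only [zero_mul, Finset.sum_const_zero]
      rw [← hs a b x]
      simp only [hc]
      rw [Finset.sum_comm (γ := Fˣ)]
      refine Finset.sum_congr rfl fun k _ => ?_
      rw [Finset.sum_comm (γ := Fˣ)]
      refine Finset.sum_congr rfl fun l _ => ?_
      rw [Finset.sum_comm (γ := Fˣ)]
      refine Finset.sum_congr rfl fun j _ => ?_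
      rw [Finset.mul_sum, Finset.sum_mul]
      refine Finset.sum_congr rfl fun u _ => ?_
      rw [zpow_pow_frob, zpow_pow_frob, _root_.zpow_add, Units.val_mul]
      ring
  -- but the diagonal is the doubling map
  have hd : ∀ x : F, ∑ k, ∑ l, ∑ j : Fin n,
      c k l j * ((1 : F) ^ 2 ^ (k : ℕ) * ((1 : F) ^ 2 ^ (l : ℕ) * x ^ 2 ^ (j : ℕ))) = x := by
    intro x
    rw [← hc]
    have : G 1 1 x = sl2K 1 ![0, x] := hι (by rw [← hG2, Ksq, hR])
    simp [hB, this, sl2K]
  have e := congrFun (coeff_unique₁ hF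
    (c := fun j => ∑ k, ∑ l, c k l j) (d := fun j => if j = zf then 1 else 0) fun x => ?_) zf
  · rw [if_pos rfl, Finset.sum_eq_zero fun k _ => Finset.sum_eq_zero fun l _ => ?_] at e
    · exact zero_ne_one e
    · by_contra hne
      obtain ⟨hk, hl⟩ := hsupp k l zf rfl hne
      exact hne (by
        rw [show k = mf from Fin.ext (show (k : ℕ) = n - 1 by omega),
          show l = mf from Fin.ext (show (l : ℕ) = n - 1 by omega)]
        exact hc0)
  · rw [show ∑ j : Fin n, (if j = zf then (1 : F) else 0) * x ^ 2 ^ (j : ℕ) = x by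
      simp [ite_mul, hzf]]
    conv_rhs => rw [← hd x]
    simp only [one_pow, one_mul, Finset.sum_mul]
    rw [Finset.sum_comm]
    exact Finset.sum_congr rfl fun k _ => Finset.sum_comm

end Cfsg.Agent.Lib.CNStruct
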