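import Mathlib
import Cfsg.Agent.Lib.FieldAut.Span

/-!
Additive maps of a finite field of characteristic two as combinations of the maps `x ↦ x ^ 2 ^ k`,
and the exponents that survive equivariance under the multiplicative group.
-/

set_option autoImplicit false
set_option linter.style.haveILetI false

namespace Cfsg.Agent.Lib.CNStruct

open Finset

section Expand

variable {F : Type*} [Field F] [Fintype F] {n : ℕ}

theorem charP_two (h : Fintype.card F = 2 ^ n) : CharP F 2 := by
  have h2 : (2 : F) = 0 := by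
    have h1 : ((Fintype.card F : ℕ) : F) = 0 := Nat.cast_card_eq_zero F
    rw [h] at h1
    push_cast at h1
    exact eq_zero_of_pow_eq_zero h1
  exact CharTwo.of_one_ne_zero_of_two_eq_zero one_ne_zero h2

theorem pow_two_pow_injective (h : Fintype.card F = 2 ^ n) {i j : ℕ} (hi : i < n) (hj : j < n)
    (he : ∀ x : F, x ^ 2 ^ i = x ^ 2 ^ j) : i = j := by
  obtain ⟨g, hg⟩ := IsCyclic.exists_ofOrder_eq_natCard (α := Fˣ)
  have hord : orderOf g = 2 ^ n - 1 := by
    rw [hg, Nat.card_units, Nat.card_eq_fintype_card, h]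
  rcases Nat.lt_or_ge n 2 with hn2 | hn2
  · omega
  have hb : ∀ {k : ℕ}, k < n → 2 ^ k < orderOf g := by
    intro k hk
    rw [hord]
    have h1 : 2 ^ (k + 1) ≤ 2 ^ n := Nat.pow_le_pow_right (by norm_num) hk
    have h2 : 2 ^ 2 ≤ 2 ^ n := Nat.pow_le_pow_right (by norm_num) hn2
    rw [pow_succ] at h1
    omega
  have : g ^ 2 ^ i = g ^ 2 ^ j := Units.ext (by simpa using he g)
  exact Nat.pow_right_injective le_rfl
    (pow_injOn_Iio_orderOf (Set.mem_Iio.2 (hb hi)) (Set.mem_Iio.2 (hb hj)) this)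

theorem coeff_unique₁ (h : Fintype.card F = 2 ^ n) {c d : Fin n → F}
    (he : ∀ x : F, ∑ k, c k * x ^ 2 ^ (k : ℕ) = ∑ k, d k * x ^ 2 ^ (k : ℕ)) : c = d := by
  have hli : LinearIndependent F (fun k : Fin n => fun x : F => x ^ 2 ^ (k : ℕ)) := by
    refine (linearIndependent_monoidHom F F).comp
      (fun k : Fin n => powMonoidHom (2 ^ (k : ℕ))) ?_
    intro i j hij
    exact Fin.ext (pow_two_pow_injective h i.2 j.2 fun x => DFunLike.congr_fun hij x)
  funext k
  exact sub_eq_zero.1 (Fintype.linearIndependent_iff.mp hli (fun l => c l - d l) (by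
    funext x
    simp only [Finset.sum_apply, Pi.smul_apply, smul_eq_mul, sub_mul, Finset.sum_sub_distrib,
      Pi.zero_apply, sub_eq_zero]
    exact he x) k)

theorem aut_eq_pow (h : Fintype.card F = 2 ^ n) (σ : F ≃+* F) :
    ∃ k : Fin n, ∀ x : F, σ x = x ^ 2 ^ (k : ℕ) := by
  haveI := charP_two h
  haveI : Fact (Nat.Prime 2) := ⟨Nat.prime_two⟩
  letI : Algebra (ZMod 2) F := ZMod.algebra F 2
  let f : Fin n → (F ≃+* F) := fun k => RingEquiv.ofBijective (iterateFrobenius F 2 k)
    ((Finite.injective_iff_bijective).1 (RingHom.injective _))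
  have hf : ∀ k : Fin n, ∀ x : F, f k x = x ^ 2 ^ (k : ℕ) := fun k x => by
    simp [f, iterateFrobenius_def]
  have hinj : Function.Injective f := fun i j e => Fin.ext (pow_two_pow_injective h i.2 j.2
    fun x => by rw [← hf, ← hf, e])
  have hn : Module.finrank (ZMod 2) F = n := by
    have h1 := Module.natCard_eq_pow_finrank (K := ZMod 2) (V := F)
    rw [Nat.card_eq_fintype_card, h, Nat.card_zmod] at h1
    exact (Nat.pow_right_injective le_rfl h1).symm
  haveI : Finite (F ≃+* F) := Finite.of_injective (fun σ => (σ : F → F)) DFunLike.coe_injective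
  obtain ⟨k, hk⟩ := (hinj.bijective_of_nat_card_le (by
    rw [FieldAut.card_aut 2, hn, Nat.card_fin])).2 σ
  exact ⟨k, fun x => by rw [← hk, hf]⟩

theorem expand₁ (h : Fintype.card F = 2 ^ n) (f : F →+ F) :
    ∃ c : Fin n → F, ∀ x : F, f x = ∑ k, c k * x ^ 2 ^ (k : ℕ) := by
  classical
  haveI := charP_two h
  haveI : Fact (Nat.Prime 2) := ⟨Nat.prime_two⟩
  haveI : Finite (F ≃+* F) := Finite.of_injective (fun σ => (σ : F → F)) DFunLike.coe_injective
  letI := Fintype.ofFinite (F ≃+* F)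
  obtain ⟨c, hc⟩ := FieldAut.exists_coeff 2 f
  choose K hK using aut_eq_pow h
  refine ⟨fun k => ∑ σ with K σ = k, c σ, fun x => ?_⟩
  rw [hc x, ← Finset.sum_fiberwise Finset.univ K]
  refine Finset.sum_congr rfl fun k _ => ?_
  rw [Finset.sum_mul]
  exact Finset.sum_congr rfl fun σ hσ => by rw [hK σ x, (Finset.mem_filter.1 hσ).2]

/-- Coefficients depending additively on a parameter. -/
theorem coeff_add (h : Fintype.card F = 2 ^ n) {α : Type*} [Add α] {f : α → F → F}
    {c : α → Fin n → F} (hc : ∀ a x, f a x = ∑ k, c a k * x ^ 2 ^ (k : ℕ))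
    (hadd : ∀ a b x, f (a + b) x = f a x + f b x) (a b : α) : c (a + b) = c a + c b := by
  refine coeff_unique₁ h fun x => ?_
  rw [← hc, hadd, hc, hc, ← Finset.sum_add_distrib]
  simp [add_mul]

theorem expand₂ (h : Fintype.card F = 2 ^ n) (B : F → F → F)
    (hl : ∀ a a' x, B (a + a') x = B a x + B a' x) (hr : ∀ a x x', B a (x + x') = B a x + B a x') :
    ∃ c : Fin n → Fin n → F,
      ∀ a x : F, B a x = ∑ k, ∑ l, c k l * (a ^ 2 ^ (k : ℕ) * x ^ 2 ^ (l : ℕ)) := by
  choose c hc using fun a => expand₁ h (AddMonoidHom.mk' (B a) (hr a))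
  have hca := coeff_add h (f := B) hc hl
  choose d hd using fun l => expand₁ h (AddMonoidHom.mk' (fun a => c a l) fun a b => by
    rw [hca]; rfl)
  refine ⟨fun k l => d l k, fun a x => ?_⟩
  rw [Finset.sum_comm]
  refine (hc a x).trans (Finset.sum_congr rfl fun l _ => ?_)
  have h1 : c a l = ∑ k, d l k * a ^ 2 ^ (k : ℕ) := hd l a
  rw [h1, Finset.sum_mul]
  exact Finset.sum_congr rfl fun k _ => by ring

theorem coeff_unique₂ (h : Fintype.card F = 2 ^ n) {c d : Fin n → Fin n → F}
    (he : ∀ a x : F, ∑ k, ∑ l, c k l * (a ^ 2 ^ (k : ℕ) * x ^ 2 ^ (l : ℕ)) =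
      ∑ k, ∑ l, d k l * (a ^ 2 ^ (k : ℕ) * x ^ 2 ^ (l : ℕ))) : c = d := by
  funext k l
  refine congrFun (coeff_unique₁ h (c := fun k => c k l) (d := fun k => d k l) fun a => ?_) k
  refine congrFun (coeff_unique₁ h (c := fun l => ∑ k, c k l * a ^ 2 ^ (k : ℕ))
    (d := fun l => ∑ k, d k l * a ^ 2 ^ (k : ℕ)) fun x => ?_) l
  have := he a x
  rw [Finset.sum_comm] at this
  conv at this => rhs; rw [Finset.sum_comm]
  simpa only [Finset.sum_mul, mul_assoc] using this

theorem expand₃ (h : Fintype.card F = 2 ^ n) (B : F → F → F → F)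
    (h1 : ∀ a a' b x, B (a + a') b x = B a b x + B a' b x)
    (h2 : ∀ a b b' x, B a (b + b') x = B a b x + B a b' x)
    (h3 : ∀ a b x x', B a b (x + x') = B a b x + B a b x') :
    ∃ c : Fin n → Fin n → Fin n → F, ∀ a b x : F, B a b x =
      ∑ k, ∑ l, ∑ j, c k l j * (a ^ 2 ^ (k : ℕ) * (b ^ 2 ^ (l : ℕ) * x ^ 2 ^ (j : ℕ))) := by
  choose c hc using fun a => expand₂ h (B a) (h2 a) (h3 a)
  have hca : ∀ a a', c (a + a') = c a + c a' := by
    intro a a'
    refine coeff_unique₂ h fun b x => ?_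
    rw [← hc, h1, hc, hc]
    simp [add_mul, Finset.sum_add_distrib]
  choose d hd using fun l j => expand₁ h (AddMonoidHom.mk' (fun a => c a l j) fun a a' => by
    rw [hca]; rfl)
  refine ⟨fun k l j => d l j k, fun a b x => ?_⟩
  rw [hc a b x]
  refine Eq.trans ?_ Finset.sum_comm
  refine Finset.sum_congr rfl fun l _ => ?_
  refine Eq.trans ?_ Finset.sum_comm
  refine Finset.sum_congr rfl fun j _ => ?_
  have hd' : c a l j = ∑ k, d l j k * a ^ 2 ^ (k : ℕ) := hd l j a
  rw [hd', Finset.sum_mul]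
  exact Finset.sum_congr rfl fun k _ => by ring

theorem coeff_unique₃ (h : Fintype.card F = 2 ^ n) {c d : Fin n → Fin n → Fin n → F}
    (he : ∀ a b x : F,
      ∑ k, ∑ l, ∑ j, c k l j * (a ^ 2 ^ (k : ℕ) * (b ^ 2 ^ (l : ℕ) * x ^ 2 ^ (j : ℕ))) =
      ∑ k, ∑ l, ∑ j, d k l j * (a ^ 2 ^ (k : ℕ) * (b ^ 2 ^ (l : ℕ) * x ^ 2 ^ (j : ℕ)))) :
    c = d := by
  funext k l j
  refine congrFun (coeff_unique₁ h (c := fun k => c k l j) (d := fun k => d k l j) fun a => ?_) k
  refine congrFun (congrFun (coeff_unique₂ h (c := fun l j => ∑ k, c k l j * a ^ 2 ^ (k : ℕ))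
    (d := fun l j => ∑ k, d k l j * a ^ 2 ^ (k : ℕ)) fun b x => ?_) l) j
  have e : ∀ c : Fin n → Fin n → Fin n → F,
      ∑ l, ∑ j, (∑ k, c k l j * a ^ 2 ^ (k : ℕ)) * (b ^ 2 ^ (l : ℕ) * x ^ 2 ^ (j : ℕ)) =
      ∑ k, ∑ l, ∑ j, c k l j * (a ^ 2 ^ (k : ℕ) * (b ^ 2 ^ (l : ℕ) * x ^ 2 ^ (j : ℕ))) := by
    intro c
    rw [Finset.sum_comm (γ := Fin n) (s := Finset.univ) (t := Finset.univ)
      (f := fun k l => ∑ j, c k l j * (a ^ 2 ^ (k : ℕ) * (b ^ 2 ^ (l : ℕ) * x ^ 2 ^ (j : ℕ))))]
    refine Finset.sum_congr rfl fun l _ => ?_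
    rw [Finset.sum_comm]
    refine Finset.sum_congr rfl fun j _ => ?_
    rw [Finset.sum_mul]
    exact Finset.sum_congr rfl fun k _ => by ring
  rw [e c, e d]
  exact he a b x

/-- An exponent killing the multiplicative group is divisible by its order. -/
theorem zmod_eq_zero_of_forall (h : Fintype.card F = 2 ^ n) {E : ℤ}
    (he : ∀ u : Fˣ, u ^ E = 1) : (E : ZMod (2 ^ n - 1)) = 0 := by
  obtain ⟨g, hg⟩ := IsCyclic.exists_ofOrder_eq_natCard (α := Fˣ)
  rw [Nat.card_units, Nat.card_eq_fintype_card, h] at hg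
  rw [ZMod.intCast_zmod_eq_zero_iff_dvd, ← hg]
  exact orderOf_dvd_iff_zpow_eq_one.2 (he g)

omit [Fintype F] in
theorem zpow_pow_frob (u : Fˣ) (A : ℤ) (a : F) (k : ℕ) :
    (((u ^ A : Fˣ) : F) * a) ^ 2 ^ k = ((u ^ (A * 2 ^ k) : Fˣ) : F) * a ^ 2 ^ k := by
  rw [mul_pow, zpow_mul, show ((2 : ℤ) ^ k) = ((2 ^ k : ℕ) : ℤ) by push_cast; rfl, zpow_natCast,
    Units.val_pow_eq_pow_val]

/-- The monomials of an equivariant biadditive map. -/
theorem support₂ (h : Fintype.card F = 2 ^ n) (A S T : ℤ) (B : F → F → F)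
    (hl : ∀ a a' x, B (a + a') x = B a x + B a' x) (hr : ∀ a x x', B a (x + x') = B a x + B a x')
    (heq : ∀ (u : Fˣ) (a x : F),
      B (((u ^ A : Fˣ) : F) * a) (((u ^ S : Fˣ) : F) * x) = ((u ^ T : Fˣ) : F) * B a x) :
    ∃ c : Fin n → Fin n → F,
      (∀ a x : F, B a x = ∑ k, ∑ l, c k l * (a ^ 2 ^ (k : ℕ) * x ^ 2 ^ (l : ℕ))) ∧
      ∀ k l, c k l ≠ 0 →
        (A : ZMod (2 ^ n - 1)) * 2 ^ (k : ℕ) + (S : ZMod (2 ^ n - 1)) * 2 ^ (l : ℕ) = T := by
  obtain ⟨c, hc⟩ := expand₂ h B hl hr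
  refine ⟨c, hc, fun k l hkl => ?_⟩
  have hz := zmod_eq_zero_of_forall h (E := A * 2 ^ (k : ℕ) + S * 2 ^ (l : ℕ) - T) fun u => by
    have huniq := congrFun (congrFun (coeff_unique₂ h
      (c := fun k l => c k l * ((u ^ (A * 2 ^ (k : ℕ) + S * 2 ^ (l : ℕ)) : Fˣ) : F))
      (d := fun k l => ((u ^ T : Fˣ) : F) * c k l) fun a x => ?_) k) l
    · rw [zpow_sub, mul_inv_eq_one]
      refine Units.ext (mul_left_cancel₀ hkl ?_)
      rw [huniq, mul_comm]
    · have := heq u a x
      rw [hc, hc, Finset.mul_sum] at this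
      refine Eq.trans (Finset.sum_congr rfl fun k _ => Finset.sum_congr rfl fun l _ => ?_)
        (this.trans (Finset.sum_congr rfl fun k _ => ?_))
      · rw [zpow_pow_frob, zpow_pow_frob, zpow_add, Units.val_mul]; ring
      · rw [Finset.mul_sum]
        exact Finset.sum_congr rfl fun l _ => by ring
  rw [← sub_eq_zero]
  push_cast at hz
  exact hz

end Expand

/-! ### Sums of powers of two modulo `2 ^ n - 1` -/

section Bits

/-- A power of two modulo `2 ^ n - 1`. -/
def P (n i : ℕ) : ZMod (2 ^ n - 1) := 2 ^ i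

variable {n : ℕ}

theorem P_add (i j : ℕ) : P n (i + j) = P n i * P n j := pow_add _ _ _

theorem P_zero : P n 0 = 1 := pow_zero _

theorem P_double (i : ℕ) : P n i + P n i = P n (i + 1) := by
  rw [P, P, pow_succ]; ring

theorem P_period : P n n = 1 := by
  have h : ((2 ^ n - 1 : ℕ) : ZMod (2 ^ n - 1)) = 0 := ZMod.natCast_self _
  rw [Nat.cast_sub Nat.one_le_two_pow, sub_eq_zero] at h
  simpa [P] using h

theorem P_mod (i : ℕ) : P n (i % n) = P n i := by
  conv_rhs => rw [← Nat.mod_add_div i n, P_add]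
  rw [show P n (n * (i / n)) = (P n n) ^ (i / n) from pow_mul _ _ _, P_period, one_pow, mul_one]

theorem mod_eq_cases {i j : ℕ} (h : i % n = j % n) (hi : i < 3 * n) (hj : j < 3 * n) :
    i = j ∨ i = j + n ∨ j = i + n ∨ i = j + 2 * n ∨ j = i + 2 * n := by
  have h1 := Nat.mod_add_div i n
  have h2 := Nat.mod_add_div j n
  have hi' : i / n < 3 := Nat.div_lt_of_lt_mul (by omega)
  have hj' : j / n < 3 := Nat.div_lt_of_lt_mul (by omega)
  interval_cases hq : i / n <;> interval_cases hr : j / n <;> omega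

theorem sum_P_eq {S T : Finset ℕ} (hS : ∀ i ∈ S, i < n) (hT : ∀ i ∈ T, i < n) (hSc : S.card < n)
    (hTc : T.card < n) (h : ∑ i ∈ S, P n i = ∑ i ∈ T, P n i) : S = T := by
  have lt : ∀ {U : Finset ℕ}, (∀ i ∈ U, i < n) → U.card < n → ∑ i ∈ U, 2 ^ i < 2 ^ n - 1 := by
    intro U hU hUc
    rw [show 2 ^ n - 1 = ∑ i ∈ Finset.range n, 2 ^ i by simp [Nat.geomSum_eq le_rfl]]
    · have hsub : U ⊆ Finset.range n := fun i hi => Finset.mem_range.2 (hU i hi)
      obtain ⟨j, hj, hjU⟩ := Finset.exists_of_ssubset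
        (Finset.ssubset_iff_subset_ne.2 ⟨hsub, fun e => by rw [e, Finset.card_range] at hUc; omega⟩)
      exact Finset.sum_lt_sum_of_subset hsub hj hjU (Nat.two_pow_pos j) fun _ _ _ => Nat.zero_le _
  have h' : ((∑ i ∈ S, 2 ^ i : ℕ) : ZMod (2 ^ n - 1)) = ((∑ i ∈ T, 2 ^ i : ℕ) : ZMod (2 ^ n - 1)) := by
    push_cast
    exact h
  rw [ZMod.natCast_eq_natCast_iff'] at h'
  rw [Nat.mod_eq_of_lt (lt hS hSc), Nat.mod_eq_of_lt (lt hT hTc)] at h'
  exact Finset.geomSum_injective le_rfl h'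

theorem sum_P_image {l : List ℕ} (hn : (l.map (· % n)).Nodup) :
    ∑ i ∈ (l.map (· % n)).toFinset, P n i = (l.map (P n)).sum := by
  rw [List.sum_toFinset _ hn, List.map_map]
  congr 1
  exact List.map_congr_left fun i _ => P_mod i

theorem list_P_eq {l₁ l₂ : List ℕ} (hn : 0 < n) (h1 : (l₁.map (· % n)).Nodup)
    (h2 : (l₂.map (· % n)).Nodup) (hc1 : l₁.length < n) (hc2 : l₂.length < n)
    (h : (l₁.map (P n)).sum = (l₂.map (P n)).sum) :
    (l₁.map (· % n)).toFinset = (l₂.map (· % n)).toFinset := by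
  refine sum_P_eq ?_ ?_ ?_ ?_ (by rw [sum_P_image h1, sum_P_image h2, h])
  · intro i hi
    obtain ⟨j, -, rfl⟩ := List.mem_map.1 (List.mem_toFinset.1 hi)
    exact Nat.mod_lt _ hn
  · intro i hi
    obtain ⟨j, -, rfl⟩ := List.mem_map.1 (List.mem_toFinset.1 hi)
    exact Nat.mod_lt _ hn
  · rw [List.toFinset_card_of_nodup h1, List.length_map]; exact hc1
  · rw [List.toFinset_card_of_nodup h2, List.length_map]; exact hc2

theorem one_one (hn : 2 ≤ n) {i j : ℕ} (h : P n i = P n j) : i % n = j % n := by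
  have := list_P_eq (n := n) (l₁ := [i]) (l₂ := [j]) (by omega) (by simp) (by simp)
    (by simp only [List.length_cons, List.length_nil]; omega) (by simp only [List.length_cons, List.length_nil]; omega) (by simpa using h)
  simpa [Finset.singleton_inj] using this

theorem two_one (hn : 3 ≤ n) {i j p : ℕ} (h : P n i + P n j = P n p) :
    i % n = j % n ∧ (i + 1) % n = p % n := by
  by_cases hij : i % n = j % n
  · refine ⟨hij, one_one (by omega) ?_⟩
    rw [← P_double, ← h]
    congr 1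
    rw [← P_mod i, hij, P_mod]
  · exfalso
    have := list_P_eq (n := n) (l₁ := [i, j]) (l₂ := [p]) (by omega) (by simp [hij]) (by simp)
      (by simp only [List.length_cons, List.length_nil]; omega) (by simp only [List.length_cons, List.length_nil]; omega) (by simpa using h)
    have hc := congrArg Finset.card this
    simp [hij] at hc

theorem two_two (hn : 3 ≤ n) {i j p q : ℕ} (hij : i % n ≠ j % n) (h : P n i + P n j = P n p + P n q) :
    (p % n = i % n ∧ q % n = j % n) ∨ (p % n = j % n ∧ q % n = i % n) := by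
  by_cases hpq : p % n = q % n
  · exfalso
    have e : P n q = P n p := by rw [← P_mod q, ← hpq, P_mod]
    rw [e, P_double] at h
    exact hij (two_one hn h).1
  have := list_P_eq (n := n) (l₁ := [i, j]) (l₂ := [p, q]) (by omega) (by simp [hij]) (by simp [hpq])
    (by simp only [List.length_cons, List.length_nil]; omega) (by simp only [List.length_cons, List.length_nil]; omega) (by simpa using h)
  simp only [List.map_cons, List.map_nil, List.toFinset_cons, List.toFinset_nil,
    insert_empty_eq] at this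
  have hp : p % n ∈ ({i % n, j % n} : Finset ℕ) := this ▸ Finset.mem_insert_self _ _
  have hq : q % n ∈ ({i % n, j % n} : Finset ℕ) :=
    this ▸ Finset.mem_insert_of_mem (Finset.mem_singleton_self _)
  simp only [Finset.mem_insert, Finset.mem_singleton] at hp hq
  rcases hp with hp | hp <;> rcases hq with hq | hq
  · exact absurd (hp.trans hq.symm) hpq
  · exact Or.inl ⟨hp, hq⟩
  · exact Or.inr ⟨hp, hq⟩
  · exact absurd (hp.trans hq.symm) hpq

/-- Three powers adding to one: two are equal, the third is their double. -/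
theorem three_one (hn : 3 ≤ n) {i j l p : ℕ} (h : P n i + P n j + P n l = P n p) :
    (i % n = j % n ∧ (i + 1) % n = l % n ∧ (l + 1) % n = p % n) ∨
    (i % n = l % n ∧ (i + 1) % n = j % n ∧ (j + 1) % n = p % n) ∨
    (j % n = l % n ∧ (j + 1) % n = i % n ∧ (i + 1) % n = p % n) := by
  have key : ∀ {a b c : ℕ}, a % n = b % n → P n a + P n b + P n c = P n p →
      a % n = b % n ∧ (a + 1) % n = c % n ∧ (c + 1) % n = p % n := by
    intro a b c hab h
    rw [show P n b = P n a by rw [← P_mod b, ← hab, P_mod], P_double] at h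
    obtain ⟨h1, h2⟩ := two_one hn h
    refine ⟨hab, h1, ?_⟩
    rw [← h2, Nat.add_mod, ← h1, ← Nat.add_mod]
  by_cases hij : i % n = j % n
  · exact Or.inl (key hij h)
  by_cases hil : i % n = l % n
  · exact Or.inr (Or.inl (key hil (by rw [← h]; ring)))
  by_cases hjl : j % n = l % n
  · exact Or.inr (Or.inr (key hjl (by rw [← h]; ring)))
  exfalso
  rcases eq_or_lt_of_le hn with rfl | hn4
  · -- all three bits, so the sum vanishes
    have : P 3 i + P 3 j + P 3 l = 0 := by
      rw [← P_mod i, ← P_mod j, ← P_mod l]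
      have := Nat.mod_lt i (show 3 > 0 by norm_num)
      have := Nat.mod_lt j (show 3 > 0 by norm_num)
      have := Nat.mod_lt l (show 3 > 0 by norm_num)
      generalize i % 3 = a, j % 3 = b, l % 3 = c at *
      interval_cases a <;> interval_cases b <;> interval_cases c <;>
        first | omega | decide
    rw [this] at h
    have hp : P 3 (p % 3) = 0 := by rw [P_mod]; exact h.symm
    have := Nat.mod_lt p (show 3 > 0 by norm_num)
    generalize p % 3 = a at *
    interval_cases a <;> revert hp <;> decide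
  · have := list_P_eq (n := n) (l₁ := [i, j, l]) (l₂ := [p]) (by omega) (by simp [hij, hil, hjl]) (by simp)
      (by simp only [List.length_cons, List.length_nil]; omega) (by simp only [List.length_cons, List.length_nil]; omega) (by simpa [add_assoc] using h)
    have hc := congrArg Finset.card this
    simp [hij, hil, hjl] at hc

end Bits

end Cfsg.Agent.Lib.CNStruct
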