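import Mathlib
import Cfsg.Agent.Lib.CNStruct.Exponent

/-!
Modules in characteristic two for a group with a split Bruhat decomposition in which an element of
order three or five and the torus act without fixed points: an irreducible one is the natural module.
-/

set_option autoImplicit false
set_option linter.style.haveILetI false

namespace Cfsg.Agent.Lib.CNStruct

open Finset Matrix
open scoped Classical

/-- Invariance of a subgroup of a module. -/
def Invt (X : Type*) {W : Type*} [Group X] [AddCommGroup W] [DistribMulAction X W]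
    (U : AddSubgroup W) : Prop := ∀ (x : X), ∀ v ∈ U, x • v ∈ U

/-- The module has exactly the two trivial invariant subgroups. -/
def Irred (X W : Type*) [Group X] [AddCommGroup W] [DistribMulAction X W] : Prop :=
  Nontrivial W ∧ ∀ U : AddSubgroup W, Invt X U → U = ⊥ ∨ U = ⊤

section Functional

variable {X W F : Type*} [Group X] [AddCommGroup W] [Finite W] [DistribMulAction X W]
  [Field F] [Fintype F] {n : ℕ}

theorem exists_fixed_ne_zero (h2 : ∀ v : W, v + v = 0) [Nontrivial W] {S : Subgroup X}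
    (hS : IsPGroup 2 S) : ∃ v : W, v ≠ 0 ∧ ∀ s ∈ S, s • v = v := by
  haveI := Fact.mk Nat.prime_two
  obtain ⟨a, ha⟩ := exists_ne (0 : W)
  have hd : 2 ∣ Nat.card W := by
    have ho : addOrderOf a = 2 := addOrderOf_eq_prime (by rw [two_nsmul, h2]) ha
    exact ho ▸ addOrderOf_dvd_natCard a
  obtain ⟨b, hb, hb0⟩ := hS.exists_fixed_point_of_prime_dvd_card_of_fixed_point W hd
    (a := (0 : W)) (fun s => smul_zero _)
  exact ⟨b, fun e => hb0 e.symm, fun s hs => hb ⟨s, hs⟩⟩

theorem sum_units_pow (hF : Fintype.card F = 2 ^ n) (v : Fˣ) :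
    ∑ j ∈ Finset.range (Fintype.card F - 1), ((v ^ j : Fˣ) : F) = if v = 1 then 1 else 0 := by
  split_ifs with hv
  · subst hv
    haveI := charP_two hF
    simp only [one_pow, Units.val_one, Finset.sum_const, Finset.card_range, nsmul_one]
    rw [Nat.cast_sub Fintype.card_pos, FiniteField.cast_card_eq_zero, zero_sub, Nat.cast_one,
      CharTwo.neg_eq]
  · have h1 : (v : F) ≠ 1 := fun e => hv (Units.ext e)
    have h := geom_sum_mul (v : F) (Fintype.card F - 1)
    rw [FiniteField.pow_card_sub_one_eq_one _ v.ne_zero, sub_self] at h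
    simp only [Units.val_pow_eq_pow_val]
    exact (mul_eq_zero.1 h).resolve_right (sub_ne_zero.2 h1)

theorem exists_eigen_functional (h2 : ∀ v : W, v + v = 0) [Nontrivial W]
    (hF : Fintype.card F = 2 ^ n) {S : Subgroup X} (hS : IsPGroup 2 S) (h : Fˣ →* X)
    (hnorm : ∀ (u : Fˣ), ∀ s ∈ S, (h u)⁻¹ * s * h u ∈ S ∧ h u * s * (h u)⁻¹ ∈ S)
    (hC : ∀ v : W, ∑ u : Fˣ, h u • v = 0) :
    ∃ ℓ : W →+ F, ℓ ≠ 0 ∧ (∀ s ∈ S, ∀ v, ℓ (s • v) = ℓ v) ∧
      ∃ χ : Fˣ →* Fˣ, (∀ u v, ℓ (h u • v) = (χ u : F) * ℓ v) ∧ ∃ u, χ u ≠ 1 := by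
  classical
  haveI := Fact.mk Nat.prime_two
  haveI := charP_two hF
  letI : Module (ZMod 2) W := AddCommGroup.zmodModule fun v => by rw [two_nsmul, h2]
  letI : Algebra (ZMod 2) F := ZMod.algebra F 2
  obtain ⟨a, ha⟩ := exists_ne (0 : W)
  obtain ⟨φ, hφ⟩ : ∃ φ : W →+ F, φ a ≠ 0 := by
    obtain ⟨f, hf⟩ : ∃ f : Module.Dual (ZMod 2) W, f a ≠ 0 := by
      by_contra! hall
      exact ha ((Module.forall_dual_apply_eq_zero_iff (ZMod 2) a).1 hall)
    exact ⟨((Algebra.linearMap (ZMod 2) F).comp f).toAddMonoidHom, fun e =>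
      hf ((map_eq_zero_iff _ (algebraMap (ZMod 2) F).injective).1 e)⟩
  -- an `S`-invariant nonzero functional
  letI : DistribMulAction X (W →+ F) :=
    { smul := fun x f => f.comp (DistribSMul.toAddMonoidHom W x⁻¹)
      one_smul := fun f => AddMonoidHom.ext fun v => by
        show f ((1 : X)⁻¹ • v) = f v
        simp
      mul_smul := fun x y f => AddMonoidHom.ext fun v => by
        show f ((x * y)⁻¹ • v) = f (y⁻¹ • x⁻¹ • v)
        rw [smul_smul, _root_.mul_inv_rev]
      smul_zero := fun x => rfl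
      smul_add := fun x f g => rfl }
  haveI : Nontrivial (W →+ F) := ⟨φ, 0, fun e => hφ (by rw [e]; rfl)⟩
  haveI : Finite (W →+ F) := Finite.of_injective _ DFunLike.coe_injective
  obtain ⟨g, hg0, hgS⟩ := exists_fixed_ne_zero (W := W →+ F)
    (fun f => AddMonoidHom.ext fun v => CharTwo.add_self_eq_zero (f v)) hS
  have hgS' : ∀ s ∈ S, ∀ v, g (s • v) = g v := fun s hs v => by
    have := DFunLike.congr_fun (hgS s⁻¹ (S.inv_mem hs)) v
    rwa [show (s⁻¹ • g : W →+ F) v = g (s⁻¹⁻¹ • v) from rfl, inv_inv] at this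
  -- split it into eigen functionals for the torus
  set N := Fintype.card F - 1 with hN
  let proj : ℕ → W →+ F := fun j => ∑ u : Fˣ,
    (AddMonoidHom.mulLeft (((u ^ j)⁻¹ : Fˣ) : F)).comp (g.comp (DistribSMul.toAddMonoidHom W (h u)))
  have hproj : ∀ j v, proj j v = ∑ u : Fˣ, (((u ^ j)⁻¹ : Fˣ) : F) * g (h u • v) := by
    intro j v
    simp [proj]
  have hsum : ∀ v, ∑ j ∈ Finset.range N, proj j v = g v := by
    intro v
    simp only [hproj]
    rw [Finset.sum_comm]
    simp only [← Finset.sum_mul, ← inv_pow, sum_units_pow hF, hN, inv_eq_one]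
    simp
  obtain ⟨j, -, hj⟩ : ∃ j ∈ Finset.range N, proj j ≠ 0 := by
    by_contra! hall
    exact hg0 (AddMonoidHom.ext fun v => by
      rw [← hsum]; exact Finset.sum_eq_zero fun j hj => by rw [hall j hj]; rfl)
  have heig : ∀ u v, proj j (h u • v) = ((powMonoidHom j u : Fˣ) : F) * proj j v := by
    intro u v
    rw [hproj, hproj, Finset.mul_sum]
    refine Fintype.sum_equiv (Equiv.mulRight u) _ _ fun w => ?_
    simp only [Equiv.coe_mulRight, powMonoidHom_apply, smul_smul, ← map_mul]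
    rw [← mul_assoc, ← Units.val_mul]
    congr 2
    rw [mul_pow, mul_inv]
    simp [mul_comm]
  refine ⟨proj j, hj, fun s hs v => ?_, powMonoidHom j, heig, ?_⟩
  · rw [hproj, hproj]
    refine Finset.sum_congr rfl fun u _ => ?_
    rw [smul_smul, show h u * s = (h u * s * (h u)⁻¹) * h u by group, ← smul_smul,
      hgS' _ (hnorm u s hs).2]
  · by_contra! hall
    refine hj (AddMonoidHom.ext fun v => ?_)
    have h1 := congrArg (proj j) (hC v)
    rw [map_sum, map_zero] at h1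
    simp only [heig, hall, Units.val_one, one_mul, Finset.sum_const, Finset.card_univ] at h1
    rw [Fintype.card_units, nsmul_eq_mul, Nat.cast_sub Fintype.card_pos,
      FiniteField.cast_card_eq_zero, zero_sub, Nat.cast_one, CharTwo.neg_eq, one_mul] at h1
    exact h1

end Functional

/-- A matrix group with a split Bruhat decomposition and a test element `y` with `k` powers. -/
structure Model (X F : Type*) [Group X] [Field F] [Fintype F] (d k : ℕ) where
  mat : X →* Matrix (Fin d) (Fin d) F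
  S : Subgroup X
  h : Fˣ →* X
  w : X
  y : X
  o : Fin d
  z : Fin d
  c : Fˣ ≃* Fˣ
  k_pos : 0 < k
  isPGroup : IsPGroup 2 S
  norm : ∀ (u : Fˣ), ∀ s ∈ S, (h u)⁻¹ * s * h u ∈ S ∧ h u * s * (h u)⁻¹ ∈ S
  wh : ∀ u, w * h u = h u⁻¹ * w
  bruhat : ∀ g, (∃ s ∈ S, ∃ u, g = s * h u) ∨ ∃ s ∈ S, ∃ u, ∃ t ∈ S, g = s * h u * w * t
  entry_B : ∀ s ∈ S, ∀ u, mat (s * h u) z o = 0
  entry_W : ∀ s ∈ S, ∀ u, ∀ t ∈ S, mat (s * h u * w * t) z o = (c u : F)
  entry_y : ∀ i, 0 < i → i < k → mat (y ^ i) z o ≠ 0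
  functional : ∀ Χ : F → F, Χ 0 = 0 → Χ 1 = 1 → (∀ a b, Χ (a * b) = Χ a * Χ b) →
    (∀ g, ∑ i ∈ Finset.range k, Χ (mat (g * y ^ i) z o) = 0) → ∀ x, Χ (1 + x) = 1 + Χ x
  rows : ∀ p : Fin d → F, (∀ g, (mat g *ᵥ p) z = 0) → p = 0
  irred : ∀ U : AddSubgroup (Fin d → F), (∀ g, ∀ p ∈ U, mat g *ᵥ p ∈ U) → U = ⊥ ∨ U = ⊤

namespace Model

variable {X F : Type*} [Group X] [Field F] [Fintype F] {d k n : ℕ}

/-- An irreducible module on which `y` and the torus are fixed-point-free is the natural one. -/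
theorem exists_equiv (D : Model X F d k) (hF : Fintype.card F = 2 ^ n)
    {W : Type*} [AddCommGroup W] [Finite W] [DistribMulAction X W] (hW : Irred X W)
    (h2 : ∀ v : W, v + v = 0) (hy : ∀ v : W, ∑ i ∈ Finset.range k, (D.y ^ i) • v = 0)
    (hC : ∀ v : W, ∑ u : Fˣ, D.h u • v = 0) :
    ∃ e : W ≃+ (Fin d → F), ∀ x v, e (x • v) = D.mat x *ᵥ e v := by
  classical
  haveI := charP_two hF
  haveI := hW.1
  obtain ⟨ℓ, hℓ0, hℓS, χ, hℓC, u₀, hu₀⟩ :=
    exists_eigen_functional h2 hF D.isPGroup D.h D.norm hC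
  -- the map to functions on the group is injective
  have hinj : ∀ v : W, (∀ g : X, ℓ (g • v) = 0) → v = 0 := by
    let K : AddSubgroup W :=
      { carrier := {v | ∀ g : X, ℓ (g • v) = 0}
        add_mem' := fun {a b} ha hb g => by rw [smul_add, map_add, ha g, hb g, add_zero]
        zero_mem' := fun g => by rw [smul_zero, map_zero]
        neg_mem' := fun {a} ha g => by rw [smul_neg, map_neg, ha g, neg_zero] }
    have hK : Invt X K := fun x v hv g => by rw [smul_smul]; exact hv _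
    rcases hW.2 K hK with e | e
    · exact fun v hv => (AddSubgroup.mem_bot.1 (e ▸ (show v ∈ K from hv)))
    · exact absurd (AddMonoidHom.ext fun v => by
        simpa using (show v ∈ K from e ▸ AddSubgroup.mem_top v) 1) hℓ0
  obtain ⟨v₀, hv₀, hv₀S⟩ := exists_fixed_ne_zero h2 D.isPGroup (W := W)
  set α := ℓ v₀
  set β := ℓ (D.w • v₀)
  set M : X → F := fun g => D.mat g D.z D.o with hM
  -- the function of the translated fixed vector
  have hfB : ∀ s ∈ D.S, ∀ a u, ℓ ((s * D.h a) • D.h u • v₀) = (χ a : F) * ((χ u : F) * α) := by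
    intro s hs a u
    rw [mul_smul, hℓS s hs, hℓC, hℓC]
  have hfW : ∀ s ∈ D.S, ∀ a, ∀ t ∈ D.S, ∀ u,
      ℓ ((s * D.h a * D.w * t) • D.h u • v₀) = (χ a : F) * (((χ u)⁻¹ : Fˣ) * β) := by
    intro s hs a t ht u
    rw [smul_smul, show s * D.h a * D.w * t * D.h u =
      s * (D.h a * (D.w * D.h u)) * ((D.h u)⁻¹ * t * D.h u) by group, D.wh, mul_smul,
      hv₀S _ (D.norm u t ht).1, mul_smul, hℓS s hs, mul_smul, mul_smul, hℓC, hℓC, map_inv]
  -- the two parts of the orbit relation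
  set Χ : F → F := fun x => if hx : x = 0 then 0 else (χ (D.c.symm (Units.mk0 x hx)) : F) with hΧ
  have hΧc : ∀ a, Χ (D.c a : F) = (χ a : F) := by
    intro a
    simp only [hΧ, dif_neg (Units.ne_zero _)]
    rw [show Units.mk0 ((D.c a : Fˣ) : F) (Units.ne_zero _) = D.c a from Units.ext rfl,
      MulEquiv.symm_apply_apply]
  let A : X → F := fun g => if M g = 0 then ℓ (g • v₀) else 0
  have hdec : ∀ g u, ℓ (g • D.h u • v₀) = (χ u : F) * A g + (((χ u)⁻¹ : Fˣ) : F) * (β * Χ (M g)) := by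
    intro g u
    rcases D.bruhat g with ⟨s, hs, a, rfl⟩ | ⟨s, hs, a, t, ht, rfl⟩
    · have h0 : M (s * D.h a) = 0 := D.entry_B s hs a
      rw [hfB s hs a u, show A (s * D.h a) = ℓ ((s * D.h a) • v₀) from if_pos h0, mul_smul s,
        hℓS s hs, hℓC, h0, show Χ 0 = 0 from dif_pos rfl, mul_zero, mul_zero, add_zero]
      ring
    · have h0 : M (s * D.h a * D.w * t) = (D.c a : F) := D.entry_W s hs a t ht
      rw [hfW s hs a t ht u, show A (s * D.h a * D.w * t) = 0 from
        if_neg (by rw [h0]; exact Units.ne_zero _), h0, hΧc]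
      ring
  obtain ⟨u₁, hu₁⟩ : ∃ u, (χ u : F) ≠ (((χ u)⁻¹ : Fˣ) : F) := by
    refine ⟨u₀, fun e => hu₀ ?_⟩
    have e1 : χ u₀ * χ u₀ = 1 := mul_eq_one_iff_eq_inv.2 (Units.ext e)
    have e2 : (χ u₀ : F) * (χ u₀ : F) = 1 := by rw [← Units.val_mul, e1, Units.val_one]
    refine Units.ext ?_
    have : ((χ u₀ : F) - 1) ^ 2 = 0 := by
      rw [sub_sq, one_pow, mul_one, pow_two, e2, show (2 : F) = 0 from CharTwo.two_eq_zero,
        zero_mul, sub_zero, CharTwo.add_self_eq_zero]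
    rw [Units.val_one]
    exact sub_eq_zero.1 ((pow_eq_zero_iff two_ne_zero).1 this)
  have hrel : ∀ g, ∑ i ∈ Finset.range k, A (g * D.y ^ i) = 0 ∧
      β * ∑ i ∈ Finset.range k, Χ (M (g * D.y ^ i)) = 0 := by
    intro g
    have h1 : ∀ u, (χ u : F) * ∑ i ∈ Finset.range k, A (g * D.y ^ i) +
        (((χ u)⁻¹ : Fˣ) : F) * (β * ∑ i ∈ Finset.range k, Χ (M (g * D.y ^ i))) = 0 := by
      intro u
      have := congrArg (fun v => ℓ (g • v)) (hy (D.h u • v₀))
      simp only [Finset.smul_sum, map_sum, smul_zero, map_zero] at this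
      rw [Finset.mul_sum, Finset.mul_sum, Finset.mul_sum, ← Finset.sum_add_distrib, ← this]
      exact Finset.sum_congr rfl fun i _ => by rw [← hdec, mul_smul]
    have e1 := h1 1
    rw [map_one, inv_one, Units.val_one, one_mul, one_mul] at e1
    have e2 := h1 u₁
    have hA : ((χ u₁ : F) - (((χ u₁)⁻¹ : Fˣ) : F)) * ∑ i ∈ Finset.range k, A (g * D.y ^ i) = 0 := by
      linear_combination e2 - (((χ u₁)⁻¹ : Fˣ) : F) * e1
    have hA0 := (mul_eq_zero.1 hA).resolve_left (sub_ne_zero.2 hu₁)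
    rw [hA0, zero_add] at e1
    exact ⟨hA0, e1⟩
  have hα : α = 0 := by
    have h1 := (hrel 1).1
    rw [Finset.sum_eq_single 0 ?_ (fun e => absurd (Finset.mem_range.2 D.k_pos) e)] at h1
    · have h0 : M 1 = 0 := by
        show D.mat 1 D.z D.o = 0
        have := D.entry_B 1 D.S.one_mem 1
        rwa [map_one D.h, mul_one] at this
      simpa [A, h0] using h1
    · intro i hi hi0
      rw [one_mul]
      exact if_neg (D.entry_y i (Nat.pos_of_ne_zero hi0) (Finset.mem_range.1 hi))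
  have hform : ∀ g, ℓ (g • v₀) = β * Χ (M g) := by
    intro g
    have := hdec g 1
    rw [map_one, map_one, one_smul, inv_one, Units.val_one, one_mul, one_mul] at this
    rw [this]
    have hA : A g = 0 := by
      rcases D.bruhat g with ⟨s, hs, a, rfl⟩ | ⟨s, hs, a, t, ht, rfl⟩
      · have h0 : M (s * D.h a) = 0 := D.entry_B s hs a
        simp only [A, if_pos h0, mul_smul, hℓS s hs, hℓC]
        exact mul_eq_zero_of_right _ hα
      · exact if_neg (by rw [show M _ = (D.c a : F) from D.entry_W s hs a t ht]; exact Units.ne_zero _)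
    rw [hA, zero_add]
  have hβ : β ≠ 0 := fun e => hv₀ (hinj v₀ fun g => by rw [hform, e, zero_mul])
  have hΧ0 : Χ 0 = 0 := dif_pos rfl
  have hΧ1 : Χ 1 = 1 := by simpa using hΧc 1
  have hΧm : ∀ a b, Χ (a * b) = Χ a * Χ b := by
    intro a b
    by_cases ha : a = 0
    · rw [ha, zero_mul, hΧ0, zero_mul]
    by_cases hb : b = 0
    · rw [hb, mul_zero, hΧ0, mul_zero]
    obtain ⟨p, hp⟩ := D.c.surjective (Units.mk0 a ha)
    obtain ⟨q, hq⟩ := D.c.surjective (Units.mk0 b hb)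
    rw [show a = (D.c p : F) by rw [hp]; rfl, show b = (D.c q : F) by rw [hq]; rfl, ← Units.val_mul,
      ← map_mul, hΧc, hΧc, hΧc, map_mul, Units.val_mul]
  have hΧone : ∀ x, Χ (1 + x) = 1 + Χ x := D.functional Χ hΧ0 hΧ1 hΧm fun g =>
    (mul_eq_zero.1 (hrel g).2).resolve_left hβ
  have hΧa : ∀ a b, Χ (a + b) = Χ a + Χ b := by
    intro a b
    by_cases ha : a = 0
    · rw [ha, zero_add, hΧ0, zero_add]
    · rw [show a + b = a * (1 + b / a) by rw [mul_add, mul_one, mul_div_cancel₀ _ ha], hΧm, hΧone,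
        mul_add, mul_one, ← hΧm, mul_div_cancel₀ _ ha]
  let σ : F →+* F :=
    { toFun := Χ, map_zero' := hΧ0, map_one' := hΧ1, map_mul' := hΧm, map_add' := hΧa }
  -- every function of the module is given by a vector
  let K : AddSubgroup W :=
    { carrier := {v | ∃ p, ∀ g, ℓ (g • v) = β * σ ((D.mat g *ᵥ p) D.z)}
      add_mem' := fun {a b} ⟨p, hp⟩ ⟨q, hq⟩ => ⟨p + q, fun g => by
        rw [smul_add, map_add, hp, hq, Matrix.mulVec_add, Pi.add_apply, map_add, mul_add]⟩
      zero_mem' := ⟨0, fun g => by simp⟩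
      neg_mem' := fun {a} ⟨p, hp⟩ => ⟨-p, fun g => by
        rw [smul_neg, map_neg, hp, Matrix.mulVec_neg, Pi.neg_apply, map_neg, mul_neg]⟩ }
  have hK : Invt X K := by
    intro x v hv
    obtain ⟨p, hp⟩ := hv
    refine ⟨D.mat x *ᵥ p, fun g => ?_⟩
    rw [smul_smul, hp, map_mul, Matrix.mulVec_mulVec]
  have hv₀K : v₀ ∈ K := ⟨Pi.single D.o 1, fun g => by
    rw [hform g, Matrix.mulVec_single_one]; rfl⟩
  have hKtop : K = ⊤ := (hW.2 K hK).resolve_left fun e => hv₀ (AddSubgroup.mem_bot.1 (e ▸ hv₀K))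
  have hall : ∀ v, ∃ p, ∀ g, ℓ (g • v) = β * σ ((D.mat g *ᵥ p) D.z) := fun v =>
    (hKtop ▸ AddSubgroup.mem_top v : v ∈ K)
  choose P hP using hall
  have huniq : ∀ v p, (∀ g, ℓ (g • v) = β * σ ((D.mat g *ᵥ p) D.z)) → P v = p := by
    intro v p hp
    rw [← sub_eq_zero]
    refine D.rows _ fun g => ?_
    rw [Matrix.mulVec_sub, Pi.sub_apply, sub_eq_zero]
    exact σ.injective (mul_left_cancel₀ hβ ((hP v g).symm.trans (hp g)))
  let Θ : W →+ (Fin d → F) := AddMonoidHom.mk' P fun a b => huniq _ _ fun g => by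
    rw [smul_add, map_add, hP, hP, Matrix.mulVec_add, Pi.add_apply, map_add, mul_add]
  have hΘ : ∀ x v, Θ (x • v) = D.mat x *ᵥ Θ v := fun x v => huniq _ _ fun g => by
    rw [smul_smul, hP, map_mul, Matrix.mulVec_mulVec]; rfl
  have hΘi : Function.Injective Θ := (injective_iff_map_eq_zero Θ).2 fun v hv => hinj v fun g => by
    rw [hP, show P v = 0 from hv]; simp
  have hΘs : Function.Surjective Θ := by
    have : Θ.range = ⊤ := by
      refine (D.irred Θ.range fun g p ⟨v, hv⟩ => ⟨g • v, by rw [hΘ, hv]⟩).resolve_left fun e => ?_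
      exact hv₀ (hΘi (by rw [map_zero]; exact AddSubgroup.mem_bot.1 (e ▸ ⟨v₀, rfl⟩)))
    exact AddMonoidHom.range_eq_top.1 this
  exact ⟨AddEquiv.ofBijective Θ ⟨hΘi, hΘs⟩, hΘ⟩

end Model

end Cfsg.Agent.Lib.CNStruct
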