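import Cfsg.Agent.Lib.Suzuki.Group
import Cfsg.Agent.Lib.CNStruct.Rep

/-!
The Suzuki group in its natural representation as a model for `Rep`.
-/

set_option autoImplicit false
set_option linter.style.haveILetI false
set_option linter.unusedSimpArgs false

namespace Cfsg.Agent.Lib.CNStruct

open Matrix Cfsg.Agent.Lib.Suzuki

variable {F : Type*} [Field F] [Fintype F] {m : ℕ} (h : Hyp F m)

/-- The matrix of an element. -/
def szMat : Cfsg.Sz F m →* Matrix (Fin 4) (Fin 4) F where
  toFun g := ((g : Matrix.SpecialLinearGroup (Fin 4) F) : Matrix (Fin 4) (Fin 4) F)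
  map_one' := rfl
  map_mul' _ _ := rfl

/-- The torus. -/
def szTorus : Fˣ →* Cfsg.Sz F m where
  toFun := szH h
  map_one' := szH_one h
  map_mul' u v := (szH_mul h u v).symm

/-- The unipotent radical of the Borel subgroup. -/
def szS : Subgroup (Cfsg.Sz F m) where
  carrier := Set.range fun p : F × F => szT h p.1 p.2
  one_mem' := ⟨(0, 0), szT_one h⟩
  mul_mem' := by
    rintro _ _ ⟨p, rfl⟩ ⟨q, rfl⟩
    exact ⟨(p.1 + q.1, p.2 + q.2 + theta m p.1 * q.1), (szT_mul h p.1 p.2 q.1 q.2).symm⟩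
  inv_mem' := by
    rintro _ ⟨p, rfl⟩
    exact ⟨(p.1, p.2 + theta m p.1 * p.1), (szT_inv h p.1 p.2).symm⟩

/-- The map `u ↦ (u θ(u))⁻¹` on units. -/
noncomputable def szC : Fˣ ≃* Fˣ :=
  MulEquiv.ofBijective
    ({ toFun := fun u => (u * u ^ 2 ^ (m + 1))⁻¹
       map_one' := by simp
       map_mul' := fun u v => by rw [mul_pow, mul_mul_mul_comm, mul_inv] } : Fˣ →* Fˣ)
    (Finite.injective_iff_bijective.1 ((injective_iff_map_eq_one _).2 fun u hu => by
      have e : u * u ^ 2 ^ (m + 1) = 1 := inv_eq_one.1 hu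
      refine Units.ext (h.eq_one_of_theta_mul u.ne_zero ?_)
      have := congrArg Units.val e
      simp only [Units.val_mul, Units.val_pow_eq_pow_val, Units.val_one] at this
      exact this))

theorem szC_val (u : Fˣ) : ((szC h u : Fˣ) : F) = ((u : F) * theta m (u : F))⁻¹ := by
  simp [szC, theta]

/-- The first columns of the powers of the test element. -/
def colY (F : Type*) [Field F] : ℕ → Fin 4 → F
  | 0 => ![1, 0, 0, 0]
  | 1 => ![0, 0, 0, 1]
  | 2 => ![1, 0, 1, 1]
  | 3 => ![1, 1, 1, 1]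
  | _ => ![1, 1, 0, 1]

/-- The test element. -/
def szY : Cfsg.Sz F m := szW h * szT h 0 1

theorem szT_col (a b : F) : szMat (szT h a b) = !![1, a, b + a * theta m a, ovFun m a b;
    0, 1, theta m a, b; 0, 0, 1, a; 0, 0, 0, 1] := rfl

theorem szH_mat (u : Fˣ) : szMat (szH h u) = !![(u : F) * theta m (u : F), 0, 0, 0; 0, (u : F), 0, 0;
    0, 0, (u : F)⁻¹, 0; 0, 0, 0, ((u : F) * theta m (u : F))⁻¹] := rfl

theorem szW_mat : szMat (szW h) = !![0, 0, 0, 1; 0, 0, 1, 0; 0, 1, 0, 0; 1, 0, 0, 0] := rfl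

theorem szY_col : ∀ i : ℕ, i < 5 → ∀ j, szMat (szY h ^ i) j 0 = colY F i j := by
  haveI := h.charP
  have hY : ∀ v : Fin 4 → F, szMat (szY h) *ᵥ v =
      ![v 3, v 2, v 1 + v 3, v 0 + v 2 + v 3] := by
    intro v
    rw [szY, map_mul, szW_mat, szT_col]
    ext j; fin_cases j <;>
      simp [Matrix.mulVec, dotProduct, Fin.sum_univ_four, theta_zero, ovFun_eq, theta_one]
  have hstep : ∀ i, (fun j => szMat (szY h ^ (i + 1)) j 0) =
      szMat (szY h) *ᵥ (fun j => szMat (szY h ^ i) j 0) := by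
    intro i
    funext j
    rw [pow_succ', map_mul]
    rfl
  have h0 : (fun j => szMat (szY h ^ 0) j 0) = ![(1 : F), 0, 0, 0] := by
    funext j; fin_cases j <;> simp
  have h1 : (fun j => szMat (szY h ^ 1) j 0) = ![(0 : F), 0, 0, 1] := by
    rw [hstep 0, h0, hY]; ext j; fin_cases j <;> simp
  have h2 : (fun j => szMat (szY h ^ 2) j 0) = ![(1 : F), 0, 1, 1] := by
    rw [hstep 1, h1, hY]; ext j; fin_cases j <;> simp
  have h3 : (fun j => szMat (szY h ^ 3) j 0) = ![(1 : F), 1, 1, 1] := by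
    rw [hstep 2, h2, hY]; ext j; fin_cases j <;> simp [CharTwo.add_self_eq_zero]
  have h4 : (fun j => szMat (szY h ^ 4) j 0) = ![(1 : F), 1, 0, 1] := by
    rw [hstep 3, h3, hY]; ext j; fin_cases j <;> simp [CharTwo.add_self_eq_zero]
  intro i hi j
  interval_cases i
  · exact congrFun h0 j
  · exact congrFun h1 j
  · exact congrFun h2 j
  · exact congrFun h3 j
  · exact congrFun h4 j

theorem szRow (a b : F) : (fun j => szMat (szW h * szT h a b) 3 j) =
    ![1, a, b + a * theta m a, ovFun m a b] := by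
  funext j
  rw [map_mul, szW_mat, szT_col]
  fin_cases j <;> simp [Matrix.mul_apply, Fin.sum_univ_four]

include h in
theorem szNatural_irred (U : AddSubgroup (Fin 4 → F))
    (hU : ∀ g : Cfsg.Sz F m, ∀ p ∈ U, szMat g *ᵥ p ∈ U) : U = ⊥ ∨ U = ⊤ := by
  haveI := h.charP
  refine or_iff_not_imp_left.2 fun hne => ?_
  obtain ⟨p, hp, hp0⟩ : ∃ p ∈ U, p ≠ 0 := by
    by_contra! hall
    exact hne ((AddSubgroup.eq_bot_iff_forall U).2 hall)
  -- a vector of the first axis
  obtain ⟨q, hq, hq0⟩ : ∃ q ∈ U, q ≠ 0 ∧ q 2 = 0 ∧ q 3 = 0 := by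
    by_cases hp23 : p 2 = 0 ∧ p 3 = 0
    · exact ⟨p, hp, hp0, hp23⟩
    · obtain ⟨b, hb⟩ := h.exists_theta_ne
      have hmem : ∀ b, szMat (szT h 0 b) *ᵥ p - p ∈ U := fun b => U.sub_mem (hU _ p hp) hp
      have hval : ∀ b, szMat (szT h 0 b) *ᵥ p - p =
          ![b * p 2 + theta m b * p 3, b * p 3, 0, 0] := by
        intro b
        rw [szT_col]
        ext j; fin_cases j <;>
          simp [Matrix.mulVec, dotProduct, Fin.sum_univ_four, theta_zero, ovFun_eq, add_assoc]
      by_cases hp3 : p 3 = 0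
      · refine ⟨_, hmem 1, ?_, by rw [hval]; rfl, by rw [hval]; rfl⟩
        rw [hval]
        intro e
        have := congrFun e 0
        simp [hp3, theta_one] at this
        exact hp23 ⟨this, hp3⟩
      · refine ⟨_, hmem 1, ?_, by rw [hval]; rfl, by rw [hval]; rfl⟩
        rw [hval]
        intro e
        have := congrFun e 1
        simp at this
        exact hp3 this
  obtain ⟨z, hz0, hz⟩ : ∃ z : F, z ≠ 0 ∧ ![z, 0, 0, 0] ∈ U := by
    by_cases hq1 : q 1 = 0
    · refine ⟨q 0, fun e => hq0.1 ?_, ?_⟩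
      · ext j; fin_cases j <;> simp [e, hq1, hq0.2.1, hq0.2.2]
      · convert hq using 1
        ext j; fin_cases j <;> simp [hq1, hq0.2.1, hq0.2.2]
    · refine ⟨q 1, hq1, ?_⟩
      convert U.sub_mem (hU (szT h 1 0) q hq) hq using 1
      rw [szT_col]
      ext j; fin_cases j <;>
        simp [Matrix.mulVec, dotProduct, Fin.sum_univ_four, hq0.2.1, hq0.2.2]
  have h0 : ∀ x : F, ![x, 0, 0, 0] ∈ U := by
    intro x
    by_cases hx : x = 0
    · convert U.zero_mem using 1
      ext j; fin_cases j <;> simp [hx]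
    obtain ⟨u, hu⟩ := (szC h).surjective (Units.mk0 (z / x) (div_ne_zero hz0 hx))
    convert hU (szH h u) _ hz using 1
    have hu' : ((u : F) * theta m (u : F))⁻¹ = z / x := by rw [← szC_val h, hu]; rfl
    rw [szH_mat]
    ext j; fin_cases j <;> simp [Matrix.mulVec, dotProduct, Fin.sum_univ_four]
    rw [inv_eq_iff_eq_inv, inv_div] at hu'
    rw [hu', div_mul_cancel₀ _ hz0]
  have h3 : ∀ x : F, ![0, 0, 0, x] ∈ U := by
    intro x
    convert hU (szW h) _ (h0 x) using 1
    rw [szW_mat]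
    ext j; fin_cases j <;> simp [Matrix.mulVec, dotProduct, Fin.sum_univ_four]
  have h1 : ∀ x : F, ![0, x, 0, 0] ∈ U := by
    intro x
    convert U.sub_mem (U.sub_mem (hU (szT h 0 x) _ (h3 1)) (h3 1)) (h0 (theta m x)) using 1
    rw [szT_col]
    ext j; fin_cases j <;>
      simp [Matrix.mulVec, dotProduct, Fin.sum_univ_four, Matrix.vecHead, Matrix.vecTail, ovFun_eq, theta_zero]
  have h2 : ∀ x : F, ![0, 0, x, 0] ∈ U := by
    intro x
    convert hU (szW h) _ (h1 x) using 1
    rw [szW_mat]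
    ext j; fin_cases j <;> simp [Matrix.mulVec, dotProduct, Fin.sum_univ_four]
  refine (AddSubgroup.eq_top_iff' U).2 fun v => ?_
  convert U.add_mem (U.add_mem (h0 (v 0)) (h1 (v 1))) (U.add_mem (h2 (v 2)) (h3 (v 3))) using 1
  ext j; fin_cases j <;> simp

/-- The Suzuki model. -/
noncomputable def szModel : Model (Cfsg.Sz F m) F 4 5 where
  mat := szMat
  S := szS h
  h := szTorus h
  w := szW h
  y := szY h
  o := 0
  z := 3
  c := szC h
  k_pos := by norm_num
  isPGroup := fun x => by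
    refine ⟨2, Subtype.ext ?_⟩
    obtain ⟨p, hp⟩ := x.2
    have hp' : (x : Cfsg.Sz F m) = szT h p.1 p.2 := hp.symm
    haveI := h.charP
    rw [SubmonoidClass.coe_pow, OneMemClass.coe_one, hp', show 2 ^ 2 = 2 * 2 from rfl, pow_mul,
      pow_two (szT h p.1 p.2), szT_mul, pow_two, szT_mul]
    simp [CharTwo.add_self_eq_zero, theta_zero, szT_one]
  norm := fun u s hs => by
    obtain ⟨p, rfl⟩ := hs
    have e : ∀ (v : Fˣ) (a b : F), szH h v * szT h a b * (szH h v)⁻¹ ∈ szS h := fun v a b =>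
      ⟨(_, _), (mul_inv_eq_iff_eq_mul.2 (szH_mul_szT h v a b)).symm⟩
    refine ⟨?_, e u _ _⟩
    show (szH h u)⁻¹ * szT h p.1 p.2 * szH h u ∈ szS h
    have := e u⁻¹ p.1 p.2
    rwa [← szH_inv, inv_inv] at this
  wh := szW_mul_szH h
  bruhat := fun g => by
    rcases sz_decomp h g with ⟨a, b, u, rfl⟩ | ⟨x, y, a, b, u, rfl⟩
    · exact Or.inl ⟨_, ⟨(a, b), rfl⟩, u, rfl⟩
    · refine Or.inr ⟨_, ⟨(x, y), rfl⟩, u⁻¹, (szH h u)⁻¹ * szT h a b * szH h u, ?_, ?_⟩
      · exact ⟨(_, _), (by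
          rw [szH_inv, show szH h u = (szH h u⁻¹)⁻¹ by rw [szH_inv, inv_inv]]
          exact (mul_inv_eq_iff_eq_mul.2 (szH_mul_szT h u⁻¹ a b)).symm)⟩
      · show _ = szT h x y * szH h u⁻¹ * szW h * _
        rw [← szH_inv, mul_assoc (szT h x y) (szH h u)⁻¹,
          show (szH h u)⁻¹ * szW h = szW h * szH h u by rw [szW_mul_szH, szH_inv]]
        group
  entry_B := by
    rintro _ ⟨⟨a, b⟩, rfl⟩ u
    show szMat (szT h a b * szH h u) 3 0 = 0
    rw [map_mul, szT_col, szH_mat]
    simp [Matrix.mul_apply, Fin.sum_univ_four]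
  entry_W := by
    rintro _ ⟨⟨a, b⟩, rfl⟩ u _ ⟨⟨a', b'⟩, rfl⟩
    show szMat (szT h a b * szH h u * szW h * szT h a' b') 3 0 = _
    rw [map_mul, map_mul, map_mul, szT_col, szT_col, szH_mat, szW_mat, szC_val]
    simp [Matrix.mul_apply, Fin.sum_univ_four]
  entry_y := fun i hi hi5 => by
    rw [szY_col h i hi5]
    interval_cases i <;> simp [colY]
  functional := fun Χ _ hΧ1 _ hrel x => by
    haveI := h.charP
    obtain ⟨b, rfl⟩ := h.theta_surjective x
    have hM : ∀ i < 5, szMat (szW h * szT h 0 b * szY h ^ i) 3 0 = ∑ j, (![1, 0, b, theta m b] : Fin 4 → F) j * colY F i j := by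
      intro i hi
      rw [map_mul, Matrix.mul_apply]
      refine Finset.sum_congr rfl fun j _ => ?_
      rw [szY_col h i hi, congrFun (szRow h 0 b) j]
      simp [theta_zero, ovFun_eq]
    have := hrel (szW h * szT h 0 b)
    simp only [Finset.sum_range_succ, Finset.sum_range_zero, zero_add,
      hM 0 (by norm_num), hM 1 (by norm_num), hM 2 (by norm_num), hM 3 (by norm_num),
      hM 4 (by norm_num)] at this
    simp [colY, Fin.sum_univ_four, hΧ1, add_assoc, CharTwo.add_self_eq_zero] at this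
    rw [← add_assoc] at this
    exact (CharTwo.add_eq_zero.1 this).symm
  rows := fun p hp => by
    have hrow : ∀ a b, p 0 + a * p 1 + (b + a * theta m a) * p 2 + ovFun m a b * p 3 = 0 := by
      intro a b
      have := hp (szW h * szT h a b)
      rw [Matrix.mulVec, dotProduct, Fin.sum_univ_four] at this
      simp only [congrFun (szRow h a b)] at this
      simpa using this
    have h3 : p 3 = 0 := by simpa [Matrix.mulVec, dotProduct, Fin.sum_univ_four] using hp 1
    have h0 : p 0 = 0 := by simpa [h3, theta_zero, ovFun_eq] using hrow 0 0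
    have h2 : p 2 = 0 := by simpa [h3, h0, theta_zero] using hrow 0 1
    have h1 : p 1 = 0 := by simpa [h3, h0, h2] using hrow 1 0
    ext j; fin_cases j <;> simp [h0, h1, h2, h3]
  irred := szNatural_irred h

end Cfsg.Agent.Lib.CNStruct
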