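import Cfsg.Agent.Lib.Suzuki.Simple
import Cfsg.Agent.Lib.CNStruct.SzModel

/-!
The central translations, the torus and the inversion generate a Suzuki group.
-/

set_option autoImplicit false
set_option linter.style.haveILetI false

namespace Cfsg.Agent.Lib.CNStruct

open Cfsg.Agent.Lib.Suzuki

variable {F : Type*} [Field F] [Fintype F] {m : ℕ} (h : Hyp F m)

include h

theorem sz_generate (H : Subgroup (Cfsg.Sz F m)) (hw : szW h ∈ H) (hT : ∀ b, szT h 0 b ∈ H) :
    H = ⊤ := by
  classical
  haveI := h.charP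
  haveI := isSimpleGroup_Sz h
  -- every point of the ovoid is moved to infinity by an element of `H`
  have hsurj : ∀ x : F, x ≠ 0 → ∃ b : F, b ≠ 0 ∧ b / theta m b = x := by
    intro x hx
    let f : {b : F // b ≠ 0} → {b : F // b ≠ 0} :=
      fun b => ⟨b.1 / theta m b.1, div_ne_zero b.2 (theta_ne_zero b.2)⟩
    have hf : Function.Injective f := by
      rintro ⟨b, hb⟩ ⟨c, hc⟩ e
      have e' : b / theta m b = c / theta m c := congrArg Subtype.val e
      have hfix : theta m (b / c) = b / c := by
        rw [div_eq_mul_inv b c, theta_mul, theta_inv]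
        have := theta_ne_zero (m := m) hb
        have := theta_ne_zero (m := m) hc
        field_simp at e' ⊢
        linear_combination -e'
      have h2 := congrArg (theta m) hfix
      rw [h.theta_theta, hfix, pow_two] at h2
      have : b / c = 1 := (mul_eq_left₀ (div_ne_zero hb hc)).1 h2
      exact Subtype.ext ((div_eq_one_iff_eq hc).1 this)
    obtain ⟨⟨b, hb⟩, e⟩ := Finite.injective_iff_surjective.1 hf ⟨x, hx⟩
    exact ⟨b, hb, congrArg Subtype.val e⟩
  have htrans : ∀ g : Cfsg.Sz F m, ∃ η ∈ H, η • ovInf F m = g • ovInf F m := by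
    intro g
    rcases ovPt_cases (g • ovInf F m) with e | ⟨x, y, e⟩
    · exact ⟨1, H.one_mem, by rw [one_smul, e]⟩
    · by_cases hx : x = 0
      · exact ⟨szT h 0 y * szW h, H.mul_mem (hT y) hw, by
          rw [e, mul_smul, szW_inf, szT_zero_pt, hx]⟩
      · obtain ⟨b, hb, hbx⟩ := hsurj x hx
        refine ⟨szT h 0 y * (szW h * szT h 0 b * szW h), H.mul_mem (hT y)
          (H.mul_mem (H.mul_mem hw (hT b)) hw), ?_⟩
        rw [e, mul_smul, mul_smul, szW_inf, mul_smul, szT_zero_pt]
        have hov : ovFun m (0 : F) b = theta m b := by simp [ovFun_eq, theta_zero]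
        have hw' : szW h • ovAff m (0 : F) b = ovAff m x 0 := Subtype.ext (by
          refine (slW_apt h (by rw [hov]; exact theta_ne_zero hb)).trans ?_
          rw [hov, hbx, zero_div]
          rfl)
        rw [hw', szT_aff]
        simp [theta_zero]
  -- so all conjugates of a translation lie in `H`
  have hconj : ∀ g : Cfsg.Sz F m, g * szT h 0 1 * g⁻¹ ∈ H := by
    intro g
    obtain ⟨η, hη, he⟩ := htrans g
    obtain ⟨a, c, u, hu⟩ := eq_szT_szH_of_fix h (g := η⁻¹ * g)
      (by rw [mul_smul, ← he, inv_smul_smul])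
    have hg : g = η * (szT h a c * szH h u) := by rw [← hu, mul_inv_cancel_left]
    have hB : (szT h a c * szH h u) * szT h 0 1 * (szT h a c * szH h u)⁻¹ =
        szT h 0 ((u : F) ^ 2 * theta m (u : F)) := by
      rw [mul_assoc (szT h a c), szH_mul_szT, _root_.mul_inv_rev,
        show ∀ t k : Cfsg.Sz F m, szT h a c * (t * k) * (k⁻¹ * (szT h a c)⁻¹) =
          szT h a c * t * (szT h a c)⁻¹ from fun t k => by group,
        szT_inv, szT_mul, szT_mul]
      simp only [mul_zero, mul_one, add_zero]
      congr 1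
      · exact h.add_self a
      · linear_combination h.add_self c + h.add_self (theta m a * a)
    rw [hg, show η * (szT h a c * szH h u) * szT h 0 1 * (η * (szT h a c * szH h u))⁻¹ =
      η * ((szT h a c * szH h u) * szT h 0 1 * (szT h a c * szH h u)⁻¹) * η⁻¹ by group, hB]
    exact H.mul_mem (H.mul_mem hη (hT _)) (H.inv_mem hη)
  have hle : Subgroup.normalClosure ({szT h 0 1} : Set (Cfsg.Sz F m)) ≤ H := by
    rw [Subgroup.normalClosure, Subgroup.closure_le]
    intro x hx
    obtain ⟨_, rfl, hc⟩ := Group.mem_conjugatesOfSet_iff.1 hx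
    obtain ⟨g, rfl⟩ := isConj_iff.1 hc
    exact hconj g
  rcases (Subgroup.normalClosure_normal
    (s := ({szT h 0 1} : Set (Cfsg.Sz F m)))).eq_bot_or_eq_top with e | e
  · exfalso
    have h1 := Subgroup.subset_normalClosure (s := ({szT h 0 1} : Set (Cfsg.Sz F m))) rfl
    rw [e, SetLike.mem_coe, Subgroup.mem_bot, ← szT_one h] at h1
    exact one_ne_zero (szT_inj h h1).2
  · exact top_le_iff.1 (e ▸ hle)

end Cfsg.Agent.Lib.CNStruct
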