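import Cfsg.Agent.Lib.CNStruct.SzDefect
import Cfsg.Agent.Lib.CNStruct.SzGen

/-!
An elementary extension of the natural Suzuki module by itself in which the element of order five is
fixed-point-free splits.
-/

set_option autoImplicit false
set_option linter.style.haveILetI false
set_option linter.unusedSimpArgs false

namespace Cfsg.Agent.Lib.CNStruct

open Matrix Finset Cfsg.Agent.Lib.Suzuki
open scoped Classical

variable {F : Type*} [Field F] [Fintype F] {m : ℕ} {h : Hyp F m}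
  {A : Type*} [AddCommGroup A] [DistribMulAction (Cfsg.Sz F m) A] {E : SzExt h A}

omit [Fintype F] in
theorem szK_two (b x : F) :
    szK m b (Pi.single (2 : Fin 4) x) = Pi.single (0 : Fin 4) (b * x) := by
  ext j; fin_cases j <;> simp [szK]

omit [Fintype F] in
theorem szK_three (b x : F) : szK m b (Pi.single (3 : Fin 4) x) =
    Pi.single (0 : Fin 4) (theta m b * x) + Pi.single (1 : Fin 4) (b * x) := by
  ext j; fin_cases j <;> simp [szK]

namespace SzSec

variable (L : SzSec E)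

/-- The relations from squaring a translation. -/
theorem eq_two (b x : F) :
    L.comp 0 0 b (b * x) + (b * L.comp 2 2 b x + theta m b * L.comp 2 3 b x) = 0 ∧
    L.comp 0 1 b (b * x) + b * L.comp 2 3 b x = 0 := by
  have e := L.δ_sq b (Pi.single 2 x)
  rw [szK_two] at e
  exact ⟨by simpa [szK, comp] using congrFun e 0, by simpa [szK, comp] using congrFun e 1⟩

theorem eq_three (b x : F) :
    L.comp 0 0 b (theta m b * x) + L.comp 1 0 b (b * x) +
      (b * L.comp 3 2 b x + theta m b * L.comp 3 3 b x) = 0 ∧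
    L.comp 0 1 b (theta m b * x) + L.comp 1 1 b (b * x) + b * L.comp 3 3 b x = 0 := by
  have e := L.δ_sq b (Pi.single 3 x)
  rw [szK_three, L.δ_add] at e
  exact ⟨by simpa [szK, comp] using congrFun e 0, by simpa [szK, comp] using congrFun e 1⟩

/-- Normalised sections: two gauge freedoms are used when `m = 1`. -/
def Norm : Prop := m = 1 → ∀ b x, L.comp 0 0 b x = 0 ∧ L.comp 1 1 b x = 0

theorem comp_zero {i j : Fin 4} (_hij : (i = 0 ∨ i = 1) ∨ (j = 2 ∨ j = 3))
    (hz : ∀ b x, b ≠ 0 → L.comp i j b x = 0) (b x : F) : L.comp i j b x = 0 := by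
  by_cases hb : b = 0
  · subst hb
    show L.δ 0 (Pi.single i x) j = 0
    rw [L.δ_zero]; rfl
  · exact hz b x hb

theorem vanish_top (hN : L.Norm) :
    (∀ b x, L.comp 0 0 b x = 0) ∧ (∀ b x, L.comp 0 1 b x = 0) ∧ (∀ b x, L.comp 1 1 b x = 0) ∧
      (∀ b x, L.comp 2 2 b x = 0) ∧ (∀ b x, L.comp 2 3 b x = 0) := by
  haveI := h.charP
  rcases eq_or_lt_of_le h.hm with hm1 | hm2
  · -- the smallest group
    obtain rfl : m = 1 := hm1.symm
    have h00 : ∀ b x, L.comp 0 0 b x = 0 := fun b x => (hN rfl b x).1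
    obtain ⟨p, p', h01⟩ := sz_mono₂ h (L.comp_eqv 0 1 (by simp)) 1 1 2 0 (by norm_num) (by norm_num)
      (by norm_num) (by norm_num) (by norm_num) fun k l hkl => (szCong_one hkl).2.1 ⟨rfl, rfl⟩
    obtain ⟨q, q', h23⟩ := sz_mono₂ h (L.comp_eqv 2 3 (by simp)) 0 2 2 0 (by norm_num) (by norm_num)
      (by norm_num) (by norm_num) (by norm_num) fun k l hkl => (szCong_one hkl).2.2.2.2 ⟨rfl, rfl⟩
    obtain ⟨a₃, h22⟩ := sz_mono₁ h (L.comp_eqv 2 2 (by simp)) 2 2 (by norm_num) (by norm_num)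
      fun k l hkl => (szCong_one hkl).2.2.2.1 ⟨rfl, rfl⟩
    have e1 := coeff_unique₁ h.hF (c := ![p' + q', p, q]) (d := fun _ => 0) fun x => by
      have := (L.eq_two 1 x).2
      rw [h01, h23] at this
      simp [Fin.sum_univ_three] at this ⊢
      linear_combination this
    have hp : p = 0 := congrFun e1 1
    have hq : q = 0 := congrFun e1 2
    have hpq : p' + q' = 0 := congrFun e1 0
    have e0 := coeff_unique₁ h.hF (c := ![q', 0, a₃]) (d := fun _ => 0) fun x => by
      have := (L.eq_two 1 x).1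
      rw [h00, h22, h23, hq] at this
      simp [Fin.sum_univ_three, theta_one] at this ⊢
      linear_combination this
    have hq' : q' = 0 := congrFun e0 0
    have ha₃ : a₃ = 0 := congrFun e0 2
    refine ⟨h00, fun b x => ?_, fun b x => (hN rfl b x).2, fun b x => ?_, fun b x => ?_⟩
    · rw [h01, hp, show p' = 0 by simpa [hq'] using hpq]; simp
    · rw [h22, ha₃]; simp
    · rw [h23, hq, hq']; simp
  · have h01 := sz_mono₀ h (L.comp_eqv 0 1 (by simp)) fun k l => szCong_01 hm2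
    have h11 := sz_mono₀ h (L.comp_eqv 1 1 (by simp)) fun k l => szCong_11 hm2
    have h22 := sz_mono₀ h (L.comp_eqv 2 2 (by simp)) fun k l => szCong_22 hm2
    have h23 := sz_mono₀ h (L.comp_eqv 2 3 (by simp)) fun k l => szCong_23 hm2
    refine ⟨L.comp_zero (by simp) fun b x hb => ?_, h01, h11, h22, h23⟩
    have := (L.eq_two b (x / b)).1
    rwa [h22, h23, mul_zero, mul_zero, add_zero, add_zero, mul_div_cancel₀ _ hb] at this

theorem vanish (hN : L.Norm) (b : F) (v : Fin 4 → F) :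
    L.δ b v 2 = 0 ∧ L.δ b v 3 = 0 ∧ (szPlus v → L.δ b v = 0) := by
  haveI := h.charP
  obtain ⟨h00, h01, h11, h22, h23⟩ := L.vanish_top hN
  have h33 : ∀ b x, L.comp 3 3 b x = 0 := L.comp_zero (by simp) fun b x hb => by
    have := (L.eq_three b x).2
    rw [h01, h11, zero_add, zero_add] at this
    exact (mul_eq_zero.1 this).resolve_left hb
  have hplus : ∀ i : Fin 4, (i = 0 ∨ i = 1) → ∀ b x,
      L.comp i 2 b x = 0 ∧ L.comp i 3 b x = 0 := by
    intro i hi b x
    have hp : szPlus (Pi.single (M := fun _ => F) i x) := by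
      rcases hi with rfl | rfl <;> constructor <;> simp
    exact L.δ_plus hp b
  obtain ⟨c, h10⟩ := sz_mono₁ h (L.comp_eqv 1 0 (by simp)) (2 * m) m (by omega) (by omega)
    fun k l hkl => szCong_10 h.hm hkl
  obtain ⟨g, h32⟩ := sz_mono₁ h (L.comp_eqv 3 2 (by simp)) m (m + 1) (by omega)
    (by have := h.hm; omega) fun k l hkl => szCong_32 h.hm hkl
  have hcg : c = 0 ∧ g = 0 := by
    have e1 : ∀ x : F, c * x ^ 2 ^ m + g * x ^ 2 ^ (m + 1) = 0 := fun x => by
      have := (L.eq_three 1 x).1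
      rw [h00, h10, h32, h33] at this
      simpa using this
    have hc : c = g := by
      have := e1 1
      simp at this
      exact CharTwo.add_eq_zero.1 this
    obtain ⟨t, ht⟩ := h.exists_theta_ne
    set X := t ^ 2 ^ m with hX
    have hX2 : t ^ 2 ^ (m + 1) = X * X := by rw [hX, pow_succ, pow_mul, pow_two]
    have h2 := e1 t
    rw [hc, hX2, ← mul_add] at h2
    rcases mul_eq_zero.1 h2 with e | e
    · exact ⟨hc.trans e, e⟩
    · exfalso
      rw [show X + X * X = X * (1 + X) by ring] at e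
      rcases mul_eq_zero.1 e with e' | e'
      · have ht0 := (pow_eq_zero_iff (Nat.two_pow_pos m).ne').1 (hX ▸ e')
        exact ht (by rw [ht0, theta_zero])
      · have hX1 : X = 1 := (CharTwo.add_eq_zero.1 e').symm
        have ht1 : t = 1 := iterateFrobenius_inj F 2 m (by
          simp only [iterateFrobenius_def, one_pow]
          exact hX ▸ hX1)
        exact ht (by rw [ht1, theta_one])
  have h10' : ∀ b x, L.comp 1 0 b x = 0 := fun b x => by rw [h10, hcg.1, zero_mul]
  have h32' : ∀ b x, L.comp 3 2 b x = 0 := fun b x => by rw [h32, hcg.2, zero_mul]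
  refine ⟨?_, ?_, fun hv => ?_⟩
  · rw [L.δ_eq_sum, (hplus 0 (by simp) _ _).1, (hplus 1 (by simp) _ _).1, h22, h32']
    simp
  · rw [L.δ_eq_sum, (hplus 0 (by simp) _ _).2, (hplus 1 (by simp) _ _).2, h23, h33]
    simp
  · funext j
    have hz : ∀ i, L.comp i j b 0 = 0 := fun i => by
      show L.δ b (Pi.single i 0) j = 0
      rw [Pi.single_zero, show L.δ b 0 = 0 from L.δ_unique (by simp [szK_zero_right])]; rfl
    rw [L.δ_eq_sum, hv.1, hv.2, hz, hz, add_zero, add_zero]
    have hp0 := hplus 0 (by simp) b (v 0)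
    have hp1 := hplus 1 (by simp) b (v 1)
    fin_cases j
    · simpa using by rw [h00, h10', add_zero]
    · simpa using by rw [h01, h11, add_zero]
    · simpa using by rw [hp0.1, hp1.1, add_zero]
    · simpa using by rw [hp0.2, hp1.2, add_zero]

/-- Once the defect maps into the fixed vectors it is biadditive. -/
theorem δ_add_left (hN : L.Norm) (a b : F) (v : Fin 4 → F) :
    L.δ (a + b) v = L.δ a v + L.δ b v := by
  rw [L.δ_cocycle, (L.vanish hN a _).2.2 (szK_plus _ _),
    szK_of_plus ⟨(L.vanish hN b v).1, (L.vanish hN b v).2.1⟩, add_zero, add_zero]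

theorem comp_eqv' (hN : L.Norm) (i j : Fin 4) : SzEqv m i j (L.comp i j) := by
  refine ⟨fun a a' x => ?_, fun a x x' => ?_, fun u a x => ?_⟩
  · simp only [comp, L.δ_add_left hN, Pi.add_apply]
  · simp only [comp, Pi.single_add, L.δ_add, Pi.add_apply]
  · simp only [comp]
    rw [← szH_single h, L.δ_h, szH_wt h]

/-- The relation of the element of order five leaves one parameter. -/
theorem form (hN : L.Norm) (hy : ∀ a : A, ∑ i ∈ Finset.range 5, (szY h ^ i) • a = 0) :
    ∃ κ : F, ∀ b v, L.δ b v = ![κ * b * v 2, κ * b * v 3, 0, 0] := by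
  haveI := h.charP
  have hm := h.hm
  obtain ⟨B₀, h20⟩ := sz_mono₁ h (L.comp_eqv' hN 2 0) 0 0 (by omega) (by omega)
    fun k l hkl => szCong_20 hm hkl
  obtain ⟨A₀, h30⟩ := sz_mono₁ h (L.comp_eqv' hN 3 0) (m + 1) 0 (by omega) (by omega)
    fun k l hkl => szCong_30 hm hkl
  obtain ⟨C₀, h31⟩ := sz_mono₁ h (L.comp_eqv' hN 3 1) 0 0 (by omega) (by omega)
    fun k l hkl => szCong_31 hm hkl
  obtain ⟨d₁, d₂, h21⟩ := sz_mono₂ h (L.comp_eqv' hN 2 1) (2 * m) m m (m + 1) (by omega) (by omega)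
    (by omega) (by omega) (by omega) fun k l hkl => szCong_21 hm hkl
  have hz : ∀ i j : Fin 4, (i = 0 ∨ i = 1) → ∀ b x, L.comp i j b x = 0 := by
    intro i j hi b x
    have hp : szPlus (Pi.single (M := fun _ => F) i x) := by
      rcases hi with rfl | rfl <;> constructor <;> simp
    show L.δ b (Pi.single i x) j = 0
    rw [(L.vanish hN b _).2.2 hp]; rfl
  have hδ : ∀ b v, L.δ b v =
      ![B₀ * (b * v 2) + A₀ * (theta m b * v 3),
        d₁ * (b ^ 2 ^ (2 * m) * v 2 ^ 2 ^ m) + d₂ * (b ^ 2 ^ m * v 2 ^ 2 ^ (m + 1)) +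
          C₀ * (b * v 3), 0, 0] := by
    intro b v
    funext j
    fin_cases j
    · simp [L.δ_eq_sum, hz, h20, h30, theta]
    · simp [L.δ_eq_sum, hz, h21, h31, theta]
    · exact (L.vanish hN b v).1
    · exact (L.vanish hN b v).2.1
  -- the relation
  set W : (Fin 4 → F) → (Fin 4 → F) := fun v => szMat (szW h) *ᵥ v with hW
  set P : (Fin 4 → F) → (Fin 4 → F) := fun e => szK m 1 (W e) with hP
  set M : (Fin 4 → F) → (Fin 4 → F) := fun e => L.δ 1 (W e) with hM
  have hyinv : (szY h)⁻¹ = szT h 0 1 * szW h := by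
    rw [szY, _root_.mul_inv_rev, szW_inv, szT_inv]
    simp [theta_zero]
  set Z : A → A := fun a => szY h • a + (szY h)⁻¹ • a with hZ
  have hZadd : ∀ a a', Z (a + a') = Z a + Z a' := fun a a' => by
    simp only [hZ, smul_add]; abel
  have hZZ : ∀ a, Z (Z a) + Z a + a = 0 := by
    intro a
    have e := hy ((szY h)⁻¹ • (szY h)⁻¹ • a)
    simp only [Finset.sum_range_succ, Finset.sum_range_zero, zero_add, smul_smul] at e
    simp only [hZ, smul_add, smul_smul, mul_inv_cancel, inv_mul_cancel, one_smul]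
    rw [show szY h ^ 0 * ((szY h)⁻¹ * (szY h)⁻¹) = (szY h)⁻¹ * (szY h)⁻¹ by group,
      show szY h ^ 1 * ((szY h)⁻¹ * (szY h)⁻¹) = (szY h)⁻¹ by group,
      show szY h ^ 2 * ((szY h)⁻¹ * (szY h)⁻¹) = 1 by group,
      show szY h ^ 3 * ((szY h)⁻¹ * (szY h)⁻¹) = szY h by group,
      show szY h ^ 4 * ((szY h)⁻¹ * (szY h)⁻¹) = szY h * szY h by rw [← pow_two (szY h)]; group,
      one_smul] at e
    calc _ = ((szY h)⁻¹ * (szY h)⁻¹) • a + (szY h)⁻¹ • a + a + szY h • a +
          (szY h * szY h) • a + (a + a) := by abel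
      _ = 0 := by rw [e, E.two, add_zero]
  have hZσ : ∀ e, szPlus e → Z (L.σ e) = L.σ (P e) + E.ι (M e) := by
    intro e he
    have h1 : szY h • L.σ e = L.σ (W e) := by
      rw [szY, mul_smul, L.act, szK_of_plus he, (L.vanish hN 1 e).2.2 he, map_zero, map_zero,
        add_zero, add_zero, ← L.hw]
    have h2 : (szY h)⁻¹ • L.σ e = L.σ (W e) + L.σ (P e) + E.ι (M e) := by
      rw [hyinv, mul_smul, ← L.hw, L.act]
    simp only [hZ, h1, h2]
    rw [← add_assoc, ← add_assoc, E.two, zero_add]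
  have hZι : ∀ e, szPlus e → Z (E.ι e) = E.ι (P e) := by
    intro e he
    have h1 : szY h • E.ι e = E.ι (W e) := by
      rw [szY, mul_smul, ← E.ιe, he.act h, ← E.ιe]
    have h2 : (szY h)⁻¹ • E.ι e = E.ι (W e) + E.ι (P e) := by
      rw [hyinv, mul_smul, ← E.ιe, ← E.ιe, szT_act, map_add]
    simp only [hZ, h1, h2]
    rw [← add_assoc, E.two, zero_add]
  have hMp : ∀ e, szPlus (M e) := fun e => ⟨(L.vanish hN 1 _).1, (L.vanish hN 1 _).2.1⟩
  have hrel : ∀ e, szPlus e → M (P e) + P (M e) + M e = 0 := by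
    intro e he
    have := hZZ (L.σ e)
    rw [hZσ e he, hZadd, hZσ _ (szK_plus _ _), hZι _ (hMp e)] at this
    have h1 := congrArg E.p this
    simp only [map_add, L.sec, E.pι, add_zero, map_zero] at h1
    rw [show L.σ (P (P e)) + E.ι (M (P e)) + E.ι (P (M e)) + (L.σ (P e) + E.ι (M e)) + L.σ e =
      L.σ (P (P e) + P e + e) + E.ι (M (P e) + P (M e) + M e) by simp only [map_add]; abel,
      h1, map_zero, zero_add] at this
    exact (map_eq_zero_iff E.ι E.inj).1 this
  have hPv : ∀ x₁ x₂ : F, P ![x₁, x₂, 0, 0] = ![x₂ + x₁, x₁, 0, 0] := fun x₁ x₂ => by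
    simp only [hP, hW, szW_act]
    ext j; fin_cases j <;> simp [szK, theta_one]
  have hMv : ∀ x₁ x₂ : F, M ![x₁, x₂, 0, 0] =
      ![B₀ * x₂ + A₀ * x₁, d₁ * x₂ ^ 2 ^ m + d₂ * x₂ ^ 2 ^ (m + 1) + C₀ * x₁, 0, 0] :=
    fun x₁ x₂ => by
    simp only [hM, hW, szW_act, hδ]
    ext j; fin_cases j <;> simp [theta_one]
  have e20 : A₀ + B₀ + C₀ = 0 := by
    have e := congrFun (hrel ![1, 0, 0, 0] ⟨rfl, rfl⟩) 0
    rw [hPv, hMv, hMv, hPv] at e
    simp [Nat.two_pow_pos] at e
    linear_combination e - A₀ * h.two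
  have hD : ∀ x : F, d₁ * x ^ 2 ^ m + d₂ * x ^ 2 ^ (m + 1) = A₀ * x := by
    intro x
    have e := congrFun (hrel ![0, x, 0, 0] ⟨rfl, rfl⟩) 0
    rw [hPv, hMv, hMv, hPv] at e
    simp at e
    linear_combination e - B₀ * x * h.two - A₀ * x * h.two
  have e3 := coeff_unique₁ h.hF
    (c := fun k : Fin (2 * m + 1) => if (k : ℕ) = m then d₁ else if (k : ℕ) = m + 1 then d₂ else 0)
    (d := fun k : Fin (2 * m + 1) => if (k : ℕ) = 0 then A₀ else 0) fun x => by
    rw [Finset.sum_eq_add (⟨m, by omega⟩ : Fin (2 * m + 1)) ⟨m + 1, by omega⟩ (by simp)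
      (fun k _ hk => by
        rw [if_neg fun e => hk.1 (Fin.ext e), if_neg fun e => hk.2 (Fin.ext e), zero_mul])
      (by simp) (by simp),
      Finset.sum_eq_single (⟨0, by omega⟩ : Fin (2 * m + 1))
        (fun k _ hk => by rw [if_neg fun e => hk (Fin.ext e), zero_mul]) (by simp)]
    simpa using hD x
  have hA : A₀ = 0 := by
    have := congrFun e3 ⟨0, by omega⟩
    simpa [show ¬ 0 = m by omega] using this.symm
  have hd1 : d₁ = 0 := by
    have := congrFun e3 ⟨m, by omega⟩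
    simpa [show ¬ m = 0 by omega] using this
  have hd2 : d₂ = 0 := by
    have := congrFun e3 ⟨m + 1, by omega⟩
    simpa using this
  have hBC : C₀ = B₀ := by
    rw [hA, zero_add] at e20
    exact (CharTwo.add_eq_zero.1 e20).symm
  refine ⟨B₀, fun b v => ?_⟩
  rw [hδ, hA, hd1, hd2, hBC]
  ext j; fin_cases j <;> simp <;> ring

end SzSec

theorem exists_norm (E : SzExt h A) : ∃ L : SzSec E, L.Norm := by
  obtain ⟨L⟩ := E.nonempty_sec
  haveI := h.charP
  rcases eq_or_lt_of_le h.hm with hm1 | hm2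
  swap
  · exact ⟨L, fun e => absurd e (by omega)⟩
  obtain rfl : m = 1 := hm1.symm
  obtain ⟨c, h00⟩ := sz_mono₁ h (L.comp_eqv 0 0 (by simp)) 0 2 (by norm_num) (by norm_num)
    fun k l hkl => (szCong_one hkl).1 ⟨rfl, rfl⟩
  obtain ⟨d, h11⟩ := sz_mono₁ h (L.comp_eqv 1 1 (by simp)) 0 1 (by norm_num) (by norm_num)
    fun k l hkl => (szCong_one hkl).2.2.1 ⟨rfl, rfl⟩
  have h4 : ∀ x y : F, (x + y) ^ 4 = x ^ 4 + y ^ 4 := fun x y => add_pow_char_pow x y 2 2
  let η : (Fin 4 → F) →+ (Fin 4 → F) :=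
    AddMonoidHom.mk' (fun v => ![d * v 2 ^ 2, c * v 3 ^ 4, c * v 0 ^ 4, d * v 1 ^ 2]) fun v v' => by
      ext j; fin_cases j <;> simp [CharTwo.add_sq, h4, mul_add]
  have hu7 : ∀ u : Fˣ, (u : F) ^ 7 = 1 := fun u => by
    have := FiniteField.pow_card_sub_one_eq_one _ u.ne_zero
    rwa [h.hF] at this
  have hηh : ∀ u v, η (szMat (szH h u) *ᵥ v) = szMat (szH h u) *ᵥ η v := by
    intro u v
    have hu := u.ne_zero
    have ht : theta 1 (u : F) = (u : F) ^ 4 := rfl
    have h7 := hu7 u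
    rw [szH_act, szH_act]
    ext j
    fin_cases j <;> simp [η, ht] <;> field_simp
    · linear_combination (-(d * v 2 ^ 2)) * h7
    · linear_combination (-(c * v 3 ^ 4) * ((u : F) ^ 14 + (u : F) ^ 7 + 1)) * h7
    · linear_combination (c * v 0 ^ 4 * ((u : F) ^ 14 + (u : F) ^ 7 + 1)) * h7
    · linear_combination (d * v 1 ^ 2) * h7
  have hηw : ∀ v, η (szMat (szW h) *ᵥ v) = szMat (szW h) *ᵥ η v := by
    intro v
    rw [szW_act, szW_act]
    ext j; fin_cases j <;> simp [η]
  refine ⟨L.gauge η hηh hηw, fun _ b x => ⟨?_, ?_⟩⟩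
  · show (L.gauge η hηh hηw).δ b (Pi.single 0 x) 0 = 0
    rw [L.gauge_δ, szK_of_plus (show szPlus (Pi.single (M := fun _ => F) (0 : Fin 4) x) by
      constructor <;> simp), map_zero, add_zero, Pi.add_apply,
      show L.δ b (Pi.single 0 x) 0 = L.comp 0 0 b x from rfl, h00]
    simp [η, szK]
    linear_combination (c * b * x ^ 4) * h.two
  · show (L.gauge η hηh hηw).δ b (Pi.single 1 x) 1 = 0
    rw [L.gauge_δ, szK_of_plus (show szPlus (Pi.single (M := fun _ => F) (1 : Fin 4) x) by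
      constructor <;> simp), map_zero, add_zero, Pi.add_apply,
      show L.δ b (Pi.single 1 x) 1 = L.comp 1 1 b x from rfl, h11]
    simp [η, szK]
    linear_combination (d * b * x ^ 2) * h.two

/-- The extension splits. -/
theorem sz_split (E : SzExt h A) (hy : ∀ a : A, ∑ i ∈ Finset.range 5, (szY h ^ i) • a = 0) :
    ∃ U : AddSubgroup A, Invt (Cfsg.Sz F m) U ∧ U ≠ ⊥ ∧ U ⊓ E.ι.range = ⊥ := by
  haveI := h.charP
  obtain ⟨L, hN⟩ := exists_norm E
  obtain ⟨κ, hκ⟩ := L.form hN hy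
  let η : (Fin 4 → F) →+ (Fin 4 → F) :=
    AddMonoidHom.mk' (fun v => ![κ * v 0, 0, 0, κ * v 3]) fun v v' => by
      ext j; fin_cases j <;> simp [mul_add]
  have hηh : ∀ u v, η (szMat (szH h u) *ᵥ v) = szMat (szH h u) *ᵥ η v := by
    intro u v
    rw [szH_act, szH_act]
    ext j; fin_cases j <;> simp [η] <;> ring
  have hηw : ∀ v, η (szMat (szW h) *ᵥ v) = szMat (szW h) *ᵥ η v := by
    intro v
    rw [szW_act, szW_act]
    ext j; fin_cases j <;> simp [η]
  set M := L.gauge η hηh hηw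
  have hM : ∀ b v, szT h 0 b • M.σ v = M.σ (szMat (szT h 0 b) *ᵥ v) := by
    intro b v
    rw [M.act, L.gauge_δ, hκ, szT_act, map_add M.σ, add_eq_left]
    refine (map_eq_zero_iff E.ι E.inj).2 ?_
    ext j; fin_cases j <;> simp [η, szK]
    · linear_combination (κ * b * v 2 + κ * theta m b * v 3) * h.two
    · linear_combination (κ * b * v 3) * h.two
  let H : Subgroup (Cfsg.Sz F m) :=
    { carrier := {g | ∀ v, g • M.σ v = M.σ (szMat g *ᵥ v)}
      one_mem' := fun v => by simp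
      mul_mem' := fun {g g'} hg hg' v => by
        rw [mul_smul, hg', hg, map_mul, Matrix.mulVec_mulVec]
      inv_mem' := fun {g} hg v => by
        rw [inv_smul_eq_iff, hg, Matrix.mulVec_mulVec, ← map_mul, mul_inv_cancel, map_one,
          Matrix.one_mulVec] }
  have htop : H = ⊤ := sz_generate h H (fun v => (M.hw v).symm) hM
  refine ⟨M.σ.range, fun g a ha => ?_, fun e => ?_, ?_⟩
  · obtain ⟨v, rfl⟩ := ha
    exact ⟨_, ((htop ▸ Subgroup.mem_top g : g ∈ H) v).symm⟩
  · have h1 : M.σ (Pi.single 0 1) = 0 := AddSubgroup.mem_bot.1 (e ▸ ⟨_, rfl⟩)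
    have h2 := M.sec (Pi.single 0 1)
    rw [h1, map_zero] at h2
    simpa using congrFun h2 0
  · rw [AddSubgroup.eq_bot_iff_forall]
    rintro a ⟨⟨v, rfl⟩, w, hw⟩
    have := congrArg E.p hw
    rw [E.pι, M.sec] at this
    rw [← this, map_zero]

end Cfsg.Agent.Lib.CNStruct
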