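import Cfsg.Agent.Lib.CNStruct.SzSquare
import Cfsg.Agent.Lib.CNStruct.SzSplit
import Cfsg.Agent.Lib.CNStruct.SL2Forms
import Cfsg.Agent.Lib.CNStruct.SL2Square
import Cfsg.Agent.Lib.CNStruct.SL2Split

/-!
What the structure theorem needs to know about a natural module, for both families.
-/

set_option autoImplicit false
set_option linter.style.haveILetI false
set_option linter.unusedSimpArgs false

namespace Cfsg.Agent.Lib.CNStruct

open Matrix Finset
open scoped Classical

universe u

/-- The facts about a natural module that force a normal 2-subgroup to have exponent two. -/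
structure Pack (X F : Type*) [Group X] [Field F] [Fintype F] (d k : ℕ) where
  D : Model X F d k
  n : ℕ
  hF : Fintype.card F = 2 ^ n
  hn : 2 ≤ n
  k_odd : Odd k
  y_pow : D.y ^ k = 1
  y_ne : D.y ≠ 1
  h_inj : Function.Injective D.h
  biadd : ∀ β : (Fin d → F) →+ (Fin d → F) →+ (Fin d → F),
    (∀ g, ∀ p q, β (D.mat g *ᵥ p) (D.mat g *ᵥ q) = D.mat g *ᵥ β p q) → ∀ p q, β p q = 0
  square : ∀ {A : Type u} [AddCommGroup A] [Finite A] [DistribMulAction X A]
    (ι : (Fin d → F) →+ A) (p : A →+ (Fin d → F)), Function.Injective ι → Function.Surjective p →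
    (∀ g v, ι (D.mat g *ᵥ v) = g • ι v) → (∀ (g : X) a, p (g • a) = D.mat g *ᵥ p a) →
    (∀ a, p a = 0 → a ∈ ι.range) → (∀ a, a + a = ι (p a)) →
    (∀ a : A, ∑ t : Fˣ, D.h t • a = 0) → False
  split : ∀ {A : Type u} [AddCommGroup A] [Finite A] [DistribMulAction X A]
    (ι : (Fin d → F) →+ A) (p : A →+ (Fin d → F)), (∀ a : A, a + a = 0) →
    Function.Injective ι → Function.Surjective p → (∀ v, p (ι v) = 0) →
    (∀ g v, ι (D.mat g *ᵥ v) = g • ι v) → (∀ (g : X) a, p (g • a) = D.mat g *ᵥ p a) →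
    (∀ a, p a = 0 → a ∈ ι.range) → (∀ a : A, ∑ t : Fˣ, D.h t • a = 0) →
    (∀ a : A, ∑ i ∈ Finset.range k, (D.y ^ i) • a = 0) →
    ∃ U : AddSubgroup A, Invt X U ∧ U ≠ ⊥ ∧ U ⊓ ι.range = ⊥

section SL2

variable {F : Type*} [Field F] [Fintype F] [CharP F 2] {n : ℕ}

omit [Fintype F] in
theorem sl2Y_pow_three : (sl2Y (F := F)) ^ 3 = 1 := by
  refine sl2Mat_inj ?_
  rw [map_pow, map_one, sl2Y_mat]
  ext i j
  fin_cases i <;> fin_cases j <;>
    simp [pow_succ, Matrix.mul_apply, Fin.sum_univ_two, CharTwo.add_self_eq_zero]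

omit [Fintype F] in
theorem sl2Y_ne_one : (sl2Y (F := F)) ≠ 1 := fun e => by
  have := congrArg (fun g => sl2Mat F g 0 0) e
  simp [sl2Y_mat] at this

omit [Fintype F] in
omit [CharP F 2] in
theorem sl2H_injective : Function.Injective (sl2H (F := F)) := fun u v e => by
  have := congrArg (fun g => sl2Mat F g 0 0) e
  simp [sl2H_mat] at this
  exact Units.ext this

/-- The pack of `SL₂` in characteristic two. -/
noncomputable def sl2Pack (hF : Fintype.card F = 2 ^ n) (hn : 2 ≤ n) :
    Pack.{u} (Matrix.SpecialLinearGroup (Fin 2) F) F 2 3 where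
  D := sl2Model hF hn
  n := n
  hF := hF
  hn := hn
  k_odd := by decide
  y_pow := sl2Y_pow_three
  y_ne := sl2Y_ne_one
  h_inj := sl2H_injective
  biadd := fun β hβ p q => sl2Biadd_eq_zero hF hn β hβ p q
  square := fun ι p hι hp hιe hpe hker hsq hC => sl2_no_square hF hn ι p hι hp hιe hpe hker hsq hC
  split := fun ι p h2 hι hp hpι hιe hpe hker hC hy =>
    sl2_split hF hn h2 ι p hι hp hιe hpe hpι hker hC hy

end SL2

section Sz

open Cfsg.Agent.Lib.Suzuki

variable {F : Type*} [Field F] [Fintype F] {m : ℕ} (h : Hyp F m)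

include h in
theorem szY_mat : szMat (szY h) = !![0, 0, 0, 1; 0, 0, 1, 0; 0, 1, 0, 1; 1, 0, 1, 1] := by
  rw [szY, map_mul, szW_mat, szT_col]
  ext i j; fin_cases i <;> fin_cases j <;>
    simp [Matrix.mul_apply, Fin.sum_univ_four, theta_zero, ovFun_eq, theta_one]

include h in
theorem szY_pow_five : szY h ^ 5 = 1 := by
  haveI := h.charP
  refine Subtype.ext (Subtype.ext ?_)
  show szMat (szY h ^ 5) = szMat (1 : Cfsg.Sz F m)
  rw [map_pow, map_one, szY_mat h]
  ext i j
  fin_cases i <;> fin_cases j <;>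
    simp [pow_succ, Matrix.mul_apply, Fin.sum_univ_four, CharTwo.add_self_eq_zero]

include h in
theorem szY_ne_one : szY h ≠ 1 := fun e => by
  have := congrArg (fun g => szMat g 0 0) e
  simp [szY_mat h] at this

/-- The pack of a Suzuki group. -/
noncomputable def szPack : Pack.{u} (Cfsg.Sz F m) F 4 5 where
  D := szModel h
  n := 2 * m + 1
  hF := h.hF
  hn := by have := h.hm; omega
  k_odd := by decide
  y_pow := szY_pow_five h
  y_ne := szY_ne_one h
  h_inj := szH_injective h
  biadd := fun β hβ p q => szBiadd_eq_zero h β hβ p q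
  square := fun ι p hι hp hιe hpe hker hsq hC => sz_no_square h ι p hι hp hιe hpe hker hsq hC
  split := fun ι p h2 hι hp hpι hιe hpe hker _ hy =>
    sz_split (⟨ι, p, h2, hι, hp, hpι, hker, hιe, hpe⟩ : SzExt h _) hy

end Sz

end Cfsg.Agent.Lib.CNStruct
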