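import Cfsg.Agent.Lib.CNStruct.Layer
import Cfsg.Agent.Lib.CNStruct.Pack

/-!
A normal 2-subgroup with quotient `SL₂` in characteristic two or a Suzuki group, on which the
elements of odd order are fixed-point-free, has exponent two.
-/

set_option autoImplicit false
set_option linter.style.haveILetI false

namespace Cfsg.Agent.Lib.CNStruct

open Matrix Finset
open scoped Classical

universe u

section Aux

variable {G : Type u} [Group G]

theorem inf_centralizer_normal (R N : Subgroup G) [R.Normal] [N.Normal] :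
    (R ⊓ Subgroup.centralizer (N : Set G)).Normal := by
  refine ⟨fun x hx g => Subgroup.mem_inf.2 ⟨‹R.Normal›.conj_mem x hx.1 g, ?_⟩⟩
  refine Subgroup.mem_centralizer_iff.2 fun n hn => ?_
  have h := Subgroup.mem_centralizer_iff.1 hx.2 (g⁻¹ * n * g)
    (by simpa using ‹N.Normal›.conj_mem n hn g⁻¹)
  calc n * (g * x * g⁻¹) = g * ((g⁻¹ * n * g) * x) * g⁻¹ := by group
    _ = g * x * g⁻¹ * n := by rw [h]; group

theorem exists_minimal_normal [Finite G] {Z R : Subgroup G} [R.Normal] (h : Z < R) :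
    ∃ N : Subgroup G, N.Normal ∧ Z < N ∧ N ≤ R ∧
      ∀ M : Subgroup G, M.Normal → Z ≤ M → M ≤ N → M = Z ∨ M = N := by
  obtain ⟨N, ⟨hN, hZN, hNR⟩, hmin⟩ := (Set.toFinite {N : Subgroup G | N.Normal ∧ Z < N ∧ N ≤ R}
    ).exists_minimal ⟨R, inferInstance, h, le_rfl⟩
  refine ⟨N, hN, hZN, hNR, fun M hM hZM hMN => or_iff_not_imp_left.2 fun hne => ?_⟩
  exact le_antisymm hMN (hmin ⟨hM, lt_of_le_of_ne hZM (Ne.symm hne), hMN.trans hNR⟩ hMN)

theorem comm_mem {R U : Subgroup G} [U.Normal] (h : ∀ r ∈ R, r * r ∈ U) {a b : G} (ha : a ∈ R)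
    (hb : b ∈ R) : a * b * a⁻¹ * b⁻¹ ∈ U := by
  rw [show a * b * a⁻¹ * b⁻¹ = (a * b * (a * b)) * (b⁻¹ * (a * a)⁻¹ * b) * (b * b)⁻¹ by group]
  refine U.mul_mem (U.mul_mem (h _ (R.mul_mem ha hb)) ?_) (U.inv_mem (h b hb))
  simpa using ‹U.Normal›.conj_mem _ (U.inv_mem (h a ha)) b⁻¹

end Aux

variable {X F : Type*} [Group X] [Field F] [Fintype F] {d k : ℕ}

theorem Pack.exp_two (T : Pack.{u} X F d k) : ∀ (c : ℕ) {G : Type u} [Group G] [Finite G]
    (φ : G →* X) (R : Subgroup G) [R.Normal], Nat.card R = c → Function.Surjective φ → φ.ker = R →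
    IsPGroup 2 R → Fpf R → ∀ r ∈ R, r * r = 1 := by
  intro c
  induction c using Nat.strong_induction_on with
  | _ c ih =>
  intro G _ _ φ R _ hc hs hker hR hfpf
  haveI := Fact.mk Nat.prime_two
  haveI := charP_two T.hF
  by_cases hR1 : R = ⊥
  · intro r hr
    rw [hR1, Subgroup.mem_bot] at hr
    rw [hr, one_mul]
  -- squares lie in every nontrivial normal subgroup below
  have hquot : ∀ U : Subgroup G, U.Normal → U ≠ ⊥ → U ≤ R → ∀ r ∈ R, r * r ∈ U := by
    intro U hU hU1 hUR r hr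
    haveI := hU
    haveI : (R.map (QuotientGroup.mk' U)).Normal :=
      Subgroup.Normal.map inferInstance _ (QuotientGroup.mk'_surjective U)
    set π := QuotientGroup.mk' U
    have hlt : Nat.card (R.map π) < c := by
      rw [← hc]
      refine lt_of_le_of_ne (Nat.card_le_card_of_surjective _ (π.subgroupMap_surjective R)) fun e => ?_
      have hb := (Nat.bijective_iff_surjective_and_card _).2 ⟨π.subgroupMap_surjective R, e.symm⟩
      obtain ⟨z, hz, hz1⟩ := (Subgroup.bot_or_exists_ne_one U).resolve_left hU1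
      exact hz1 (congrArg Subtype.val (hb.1 (a₁ := ⟨z, hUR hz⟩) (a₂ := 1)
        (Subtype.ext (by simpa [π] using hz))))
    have := ih _ hlt (G := G ⧸ U) (QuotientGroup.lift U φ (hker.symm ▸ hUR)) (R.map π) rfl
      (fun x => by obtain ⟨g, rfl⟩ := hs x; exact ⟨π g, rfl⟩) ?_ (hR.map π) (hfpf.quotient U hUR)
      (π r) ⟨r, hr, rfl⟩
    · rw [← map_mul] at this
      exact (QuotientGroup.eq_one_iff _).1 this
    · ext q
      obtain ⟨g, rfl⟩ := QuotientGroup.mk'_surjective U q
      rw [MonoidHom.mem_ker]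
      show φ g = 1 ↔ _
      rw [← MonoidHom.mem_ker, hker]
      refine ⟨fun h => ⟨g, h, rfl⟩, fun ⟨r, hr, e⟩ => ?_⟩
      simpa using R.mul_mem hr (hUR (QuotientGroup.eq.1 e))
  -- a central chief factor
  set Zc := R ⊓ Subgroup.centralizer (R : Set G) with hZc
  haveI : Zc.Normal := inf_centralizer_normal R R
  have hcen : ∀ z ∈ Zc, ∀ r ∈ R, r * z = z * r := fun z hz r hr =>
    Subgroup.mem_centralizer_iff.1 hz.2 r hr
  let A₀ : Subgroup G :=
    { carrier := {z | z ∈ Zc ∧ z * z = 1}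
      one_mem' := ⟨Zc.one_mem, one_mul 1⟩
      mul_mem' := fun {a b} ha hb => ⟨Zc.mul_mem ha.1 hb.1, by
        calc a * b * (a * b) = a * (b * a) * b := by group
          _ = a * (a * b) * b := by rw [hcen a ha.1 b hb.1.1]
          _ = (a * a) * (b * b) := by group
          _ = 1 := by rw [ha.2, hb.2, one_mul]⟩
      inv_mem' := fun {a} ha => ⟨Zc.inv_mem ha.1, by rw [← _root_.mul_inv_rev, ha.2, inv_one]⟩ }
  haveI : A₀.Normal := ⟨fun x hx g => ⟨‹Zc.Normal›.conj_mem x hx.1 g, by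
    rw [show g * x * g⁻¹ * (g * x * g⁻¹) = g * (x * x) * g⁻¹ by group, hx.2, mul_one,
      mul_inv_cancel]⟩⟩
  have hA₀ : ⊥ < A₀ := by
    haveI : Nontrivial R := (Subgroup.nontrivial_iff_ne_bot _).2 hR1
    haveI := hR.center_nontrivial
    obtain ⟨n, hn0, hn⟩ := (hR.to_subgroup (Subgroup.center R)).nontrivial_iff_card.1 inferInstance
    obtain ⟨z, hz⟩ := exists_prime_orderOf_dvd_card' (G := Subgroup.center R) 2
      (hn ▸ dvd_pow_self 2 hn0.ne')
    refine bot_lt_iff_ne_bot.2 fun e => ?_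
    have hmem : ((z : R) : G) ∈ A₀ := by
      refine ⟨⟨(z : R).2, Subgroup.mem_centralizer_iff.2 fun r hr =>
        congrArg Subtype.val (Subgroup.mem_center_iff.1 z.2 ⟨r, hr⟩)⟩, ?_⟩
      have := pow_orderOf_eq_one z
      rw [hz, pow_two] at this
      exact congrArg (fun x : Subgroup.center R => ((x : R) : G)) this
    rw [e, Subgroup.mem_bot] at hmem
    rw [show z = 1 from Subtype.ext (Subtype.ext hmem), orderOf_one] at hz
    exact absurd hz (by norm_num)
  obtain ⟨U, hU, hU1, hUA, hUmin⟩ := exists_minimal_normal hA₀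
  haveI := hU
  have hUZ : U ≤ Zc := fun x hx => (hUA hx).1
  have hUR : U ≤ R := hUZ.trans inf_le_left
  have hsqU := hquot U hU hU1.ne' hUR
  obtain ⟨LU⟩ := exists_layer T.D T.hF T.hn T.k_odd T.y_pow T.y_ne T.h_inj hs hker hfpf ⊥ U hU1 hUR
    hUmin (fun a ha => Subgroup.mem_bot.2 (hUA ha).2) fun a ha r hr => Subgroup.mem_bot.2 (by
      rw [hcen a (hUZ ha) r hr, mul_inv_cancel_right, mul_inv_cancel])
  have hLUinj : Function.Injective LU.f := by
    intro a b e
    have h1 : LU.f (a * b⁻¹) = 0 := by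
      have h2 := LU.mul (a * b⁻¹) b
      rw [inv_mul_cancel_right, e] at h2
      exact add_eq_right.1 h2.symm
    exact mul_inv_eq_one.1 (Subtype.ext (Subgroup.mem_bot.1 ((LU.ker _).1 h1)))
  -- `R` is abelian
  have habel : Zc = R := by
    by_contra hne
    obtain ⟨N, hN, hZN, hNR, hNmin⟩ := exists_minimal_normal (lt_of_le_of_ne (inf_le_left) hne)
    haveI := hN
    set K := R ⊓ Subgroup.centralizer (N : Set G) with hK
    haveI : K.Normal := inf_centralizer_normal R N
    have hKR : K < R := by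
      refine lt_of_le_of_ne inf_le_left fun e => hZN.not_ge fun x hx => ?_
      exact Subgroup.mem_inf.2 ⟨hNR hx, Subgroup.mem_centralizer_iff.2 fun r hr =>
        (Subgroup.mem_centralizer_iff.1 (e.symm ▸ hr : r ∈ K).2 x hx).symm⟩
    obtain ⟨M, hM, hKM, hMR, hMmin⟩ := exists_minimal_normal hKR
    haveI := hM
    have hZK : Zc ≤ K := fun z hz => Subgroup.mem_inf.2 ⟨hz.1,
      Subgroup.mem_centralizer_iff.2 fun x hx => hcen z hz x (hNR hx)⟩
    obtain ⟨LN⟩ := exists_layer T.D T.hF T.hn T.k_odd T.y_pow T.y_ne T.h_inj hs hker hfpf Zc N hZN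
      hNR hNmin (fun a ha => hUZ (hsqU a (hNR ha))) fun a ha r hr =>
        hUZ (comm_mem hsqU hr (hNR ha))
    obtain ⟨LM⟩ := exists_layer T.D T.hF T.hn T.k_odd T.y_pow T.y_ne T.h_inj hs hker hfpf K M hKM
      hMR hMmin (fun a ha => hZK (hUZ (hsqU a (hMR ha)))) fun a ha r hr =>
        hZK (hUZ (comm_mem hsqU hr (hMR ha)))
    -- the commutator pairing
    let B : N → M → (Fin d → F) := fun a b =>
      LU.f ⟨(a : G) * b * (a : G)⁻¹ * (b : G)⁻¹, comm_mem hsqU (hNR a.2) (hMR b.2)⟩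
    have hBl : ∀ a a' b, B (a * a') b = B a b + B a' b := by
      intro a a' b
      simp only [B]
      rw [add_comm (LU.f _), ← LU.mul]
      refine congrArg LU.f (Subtype.ext ?_)
      show (a : G) * a' * b * ((a : G) * a')⁻¹ * (b : G)⁻¹ =
        (a' : G) * b * (a' : G)⁻¹ * (b : G)⁻¹ * ((a : G) * b * (a : G)⁻¹ * (b : G)⁻¹)
      have hc := hcen _ (hUZ (comm_mem hsqU (hNR a'.2) (hMR b.2))) a (hNR a.2)
      calc _ = ((a : G) * ((a' : G) * b * (a' : G)⁻¹ * (b : G)⁻¹)) * (b * (a : G)⁻¹ * (b : G)⁻¹) := by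
            group
        _ = _ := by rw [hc]; group
    have hBr : ∀ a b b', B a (b * b') = B a b + B a b' := by
      intro a b b'
      simp only [B]
      rw [← LU.mul]
      refine congrArg LU.f (Subtype.ext ?_)
      show (a : G) * (b * b') * (a : G)⁻¹ * ((b : G) * b')⁻¹ =
        (a : G) * b * (a : G)⁻¹ * (b : G)⁻¹ * ((a : G) * b' * (a : G)⁻¹ * (b' : G)⁻¹)
      have hc := hcen _ (hUZ (comm_mem hsqU (hNR a.2) (hMR b'.2))) b (hMR b.2)
      calc _ = ((a : G) * b * (a : G)⁻¹ * (b : G)⁻¹) *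
            (((b : G) * ((a : G) * b' * (a : G)⁻¹ * (b' : G)⁻¹)) * (b : G)⁻¹) := by group
        _ = _ := by rw [hc]; group
    have hBzero : ∀ (a : N) (b : M), ((a : G) ∈ Zc ∨ (b : G) ∈ K) → B a b = 0 := by
      intro a b hab
      refine (LU.ker _).2 (Subgroup.mem_bot.2 ?_)
      show (a : G) * b * (a : G)⁻¹ * (b : G)⁻¹ = 1
      have e : (a : G) * b = b * a := by
        rcases hab with h | h
        · exact (hcen a h b (hMR b.2)).symm
        · exact Subgroup.mem_centralizer_iff.1 h.2 a a.2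
      rw [e]; group
    choose sN hsN using LN.surj
    choose sM hsM using LM.surj
    have hBeq : ∀ a b, B a b = B (sN (LN.f a)) (sM (LM.f b)) := by
      intro a b
      have h1 : ∀ {N' Z' : Subgroup G} [N'.Normal] (L : Layer φ T.D.mat Z' N') (x y : N'),
          L.f x = L.f y → ((y⁻¹ * x : N') : G) ∈ Z' := by
        intro N' Z' _ L x y e
        refine (L.ker _).1 ?_
        have h2 := L.mul y (y⁻¹ * x)
        rw [mul_inv_cancel_left, e] at h2
        exact (add_eq_left.1 h2.symm)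
      have ha := h1 LN a (sN (LN.f a)) (hsN _).symm
      have hb := h1 LM b (sM (LM.f b)) (hsM _).symm
      calc B a b = B (sN (LN.f a) * ((sN (LN.f a))⁻¹ * a)) b := by rw [mul_inv_cancel_left]
        _ = B (sN (LN.f a)) b := by rw [hBl, hBzero _ _ (Or.inl ha), add_zero]
        _ = B (sN (LN.f a)) (sM (LM.f b) * ((sM (LM.f b))⁻¹ * b)) := by rw [mul_inv_cancel_left]
        _ = _ := by rw [hBr, hBzero _ _ (Or.inr hb), add_zero]
    let β : (Fin d → F) →+ (Fin d → F) →+ (Fin d → F) :=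
      AddMonoidHom.mk' (fun p => AddMonoidHom.mk' (fun q => B (sN p) (sM q)) fun q q' => by
        rw [← hBr, hBeq (sN p) (sM q * sM q'), LM.mul, hsM, hsM, hsN]) fun p p' => by
        refine AddMonoidHom.ext fun q => ?_
        show B (sN (p + p')) (sM q) = B (sN p) (sM q) + B (sN p') (sM q)
        rw [← hBl, hBeq (sN p * sN p') (sM q), LN.mul, hsN, hsN, hsM]
    have hβ : ∀ x, ∀ p q, β (T.D.mat x *ᵥ p) (T.D.mat x *ᵥ q) = T.D.mat x *ᵥ β p q := by
      intro x p q
      obtain ⟨g, rfl⟩ := hs x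
      show B (sN _) (sM _) = _ *ᵥ B (sN p) (sM q)
      have e := hBeq ⟨g * sN p * g⁻¹, hN.conj_mem _ (sN p).2 g⟩ ⟨g * sM q * g⁻¹, hM.conj_mem _ (sM q).2 g⟩
      rw [LN.eqv, LM.eqv, hsN, hsM] at e
      rw [← e]
      simp only [B]
      rw [← LU.eqv]
      refine congrArg LU.f (Subtype.ext ?_)
      show g * sN p * g⁻¹ * (g * sM q * g⁻¹) * (g * sN p * g⁻¹)⁻¹ * (g * sM q * g⁻¹)⁻¹ =
        g * ((sN p : G) * sM q * (sN p : G)⁻¹ * (sM q : G)⁻¹) * g⁻¹
      group
    refine hKM.not_ge fun b hb => Subgroup.mem_inf.2 ⟨hMR hb, Subgroup.mem_centralizer_iff.2 fun a ha => ?_⟩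
    have h0 : B ⟨a, ha⟩ ⟨b, hb⟩ = 0 := (hBeq _ _).trans (T.biadd β hβ _ _)
    have h1 : a * b * a⁻¹ * b⁻¹ = 1 := Subgroup.mem_bot.1 ((LU.ker _).1 h0)
    rw [mul_inv_eq_one, mul_inv_eq_iff_eq_mul] at h1
    exact h1
  have hcomm : ∀ a ∈ R, ∀ r ∈ R, r * a = a * r := fun a ha r hr => hcen a (habel.symm ▸ ha) r hr
  -- the elements of order two
  let Q : Subgroup G :=
    { carrier := {z | z ∈ R ∧ z * z = 1}
      one_mem' := ⟨R.one_mem, one_mul 1⟩
      mul_mem' := fun {a b} ha hb => ⟨R.mul_mem ha.1 hb.1, by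
        calc a * b * (a * b) = a * (b * a) * b := by group
          _ = a * (a * b) * b := by rw [hcomm a ha.1 b hb.1]
          _ = (a * a) * (b * b) := by group
          _ = 1 := by rw [ha.2, hb.2, one_mul]⟩
      inv_mem' := fun {a} ha => ⟨R.inv_mem ha.1, by rw [← _root_.mul_inv_rev, ha.2, inv_one]⟩ }
  haveI : Q.Normal := ⟨fun x hx g => ⟨‹R.Normal›.conj_mem x hx.1 g, by
    rw [show g * x * g⁻¹ * (g * x * g⁻¹) = g * (x * x) * g⁻¹ by group, hx.2, mul_one,
      mul_inv_cancel]⟩⟩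
  have hUQ : U ≤ Q := fun x hx => ⟨hUR hx, (hUA hx).2⟩
  by_contra hgoal
  push Not at hgoal
  obtain ⟨r₀, hr₀, hr₀2⟩ := hgoal
  choose sU hsU using LU.surj
  have hsU' : ∀ a, sU (LU.f a) = a := fun a => hLUinj (hsU _)
  have hsU_add : ∀ p q, sU (p + q) = sU p * sU q := fun p q => hLUinj (by rw [LU.mul, hsU, hsU, hsU])
  have hcentral : ∀ A : Subgroup G, A.Normal → A ≤ R → Central φ R A := fun A hA hAR =>
    ⟨hs, hker, hA, hAR, fun a ha r hr => hcomm a (hAR ha) r hr⟩
  have hcard : Odd (Nat.card Fˣ) := by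
    rw [Nat.card_units, Nat.card_eq_fintype_card, T.hF]
    exact Nat.Even.sub_odd Nat.one_le_two_pow
      (even_two.pow_of_ne_zero (by have := T.hn; omega)) odd_one
  obtain ⟨t, ht⟩ : ∃ t : Fˣ, T.D.h t ≠ 1 := by
    haveI : Nontrivial Fˣ := by
      rw [← Fintype.one_lt_card_iff_nontrivial, Fintype.card_units, T.hF]
      have : 2 ^ 2 ≤ 2 ^ T.n := Nat.pow_le_pow_right (by norm_num) T.hn
      omega
    obtain ⟨t, ht⟩ := exists_ne (1 : Fˣ)
    exact ⟨t, fun e => ht (T.h_inj (e.trans (map_one _).symm))⟩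
  by_cases hQU : Q = U
  · -- squaring identifies the two layers
    have hUR' : U < R := lt_of_le_of_ne hUR fun e => hr₀2 (hUA (e.symm ▸ hr₀)).2
    obtain ⟨N, hN, hUN, hNR, hNmin⟩ := exists_minimal_normal hUR'
    haveI := hN
    have c := hcentral N hN hNR
    letI := c.addGroup
    letI := c.action
    haveI : Finite (Additive N) := Finite.of_equiv N Additive.ofMul
    let ι : (Fin d → F) →+ Additive N :=
      AddMonoidHom.mk' (fun p => Additive.ofMul ⟨sU p, hUN.le (sU p).2⟩) fun p q => by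
        show _ = Additive.ofMul ((⟨sU p, _⟩ : N) * ⟨sU q, _⟩)
        exact congrArg Additive.ofMul (Subtype.ext (congrArg (fun z : U => (z : G)) (hsU_add p q)))
    let p : Additive N →+ (Fin d → F) :=
      AddMonoidHom.mk' (fun a => LU.f ⟨((Additive.toMul a : N) : G) * (Additive.toMul a : N),
        hsqU _ (hNR (Additive.toMul a).2)⟩) fun a b => by
        rw [← LU.mul]
        refine congrArg LU.f (Subtype.ext ?_)
        show ((Additive.toMul a : N) : G) * (Additive.toMul b : N) *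
          (((Additive.toMul a : N) : G) * (Additive.toMul b : N)) = _ * _ * (_ * _)
        set x := ((Additive.toMul a : N) : G)
        set y := ((Additive.toMul b : N) : G)
        have hxy : y * x = x * y := hcomm x (hNR (Additive.toMul a).2) y (hNR (Additive.toMul b).2)
        calc x * y * (x * y) = x * (y * x) * y := by group
          _ = x * x * (y * y) := by rw [hxy]; group
    have hιe : ∀ x v, ι (T.D.mat x *ᵥ v) = x • ι v := by
      intro x v
      obtain ⟨g, rfl⟩ := hs x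
      have e : sU (T.D.mat (φ g) *ᵥ v) = ⟨g * sU v * g⁻¹, hU.conj_mem _ (sU v).2 g⟩ :=
        hLUinj (by rw [hsU, LU.eqv, hsU])
      show Additive.ofMul (⟨sU _, _⟩ : N) = _
      rw [show ι v = Additive.ofMul (⟨sU v, hUN.le (sU v).2⟩ : N) from rfl, c.smul_eq]
      exact congrArg Additive.ofMul (Subtype.ext (congrArg Subtype.val e :))
    have hpe : ∀ x a, p (x • a) = T.D.mat x *ᵥ p a := by
      intro x a
      obtain ⟨g, rfl⟩ := hs x
      rw [← ofMul_toMul a, c.smul_eq]
      show LU.f _ = _ *ᵥ LU.f _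
      rw [← LU.eqv]
      refine congrArg LU.f (Subtype.ext ?_)
      show g * ((Additive.toMul a : N) : G) * g⁻¹ * (g * ((Additive.toMul a : N) : G) * g⁻¹) =
        g * (((Additive.toMul a : N) : G) * (Additive.toMul a : N)) * g⁻¹
      group
    have hker' : ∀ a, p a = 0 → a ∈ ι.range := by
      intro a ha
      have h1 : ((Additive.toMul a : N) : G) * (Additive.toMul a : N) = 1 :=
        Subgroup.mem_bot.1 ((LU.ker _).1 ha)
      have h2 : ((Additive.toMul a : N) : G) ∈ U := hQU ▸ ⟨hNR (Additive.toMul a).2, h1⟩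
      refine ⟨LU.f ⟨_, h2⟩, ?_⟩
      show Additive.ofMul (⟨sU _, _⟩ : N) = a
      simp only [hsU']
      exact ofMul_toMul a
    have hιi : Function.Injective ι := fun v w e => by
      have e' : ((sU v : U) : G) = sU w := congrArg (fun z : N => (z : G)) (Additive.ofMul.injective e)
      rw [← hsU v, ← hsU w, Subtype.ext e']
    have hps : Function.Surjective p := by
      have : p.range = ⊤ := by
        refine (T.D.irred p.range fun x v ⟨a, ha⟩ => ⟨x • a, by rw [hpe, ha]⟩).resolve_left fun e => ?_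
        obtain ⟨a, haN, haU⟩ := SetLike.exists_of_lt hUN
        refine haU ?_
        have h0 : p (Additive.ofMul ⟨a, haN⟩) = 0 := AddSubgroup.mem_bot.1 (e ▸ ⟨_, rfl⟩)
        have h1 : a * a = 1 := Subgroup.mem_bot.1 ((LU.ker _).1 h0)
        exact hQU ▸ (⟨hNR haN, h1⟩ : a ∈ Q)
      exact AddMonoidHom.range_eq_top.1 this
    refine T.square ι p hιi hps hιe hpe hker' (fun a => ?_)
      (c.sum_torus_eq_zero hfpf T.D.h ht hcard)
    show a + a = Additive.ofMul (⟨sU _, _⟩ : N)
    refine Additive.toMul.injective (Subtype.ext ?_)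
    show ((Additive.toMul a : N) : G) * (Additive.toMul a : N) = (sU (LU.f _) : G)
    rw [hsU']
  · -- a second simple submodule gives a normal subgroup meeting `U` trivially
    obtain ⟨N, hN, hUN, hNQ, hNmin⟩ := exists_minimal_normal (lt_of_le_of_ne hUQ (Ne.symm hQU))
    haveI := hN
    have hNR : N ≤ R := hNQ.trans fun x hx => hx.1
    obtain ⟨LN⟩ := exists_layer T.D T.hF T.hn T.k_odd T.y_pow T.y_ne T.h_inj hs hker hfpf U N hUN
      hNR hNmin (fun a ha => by rw [(hNQ ha).2]; exact U.one_mem)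
      fun a ha r hr => comm_mem hsqU hr (hNR ha)
    have c := hcentral N hN hNR
    letI := c.addGroup
    letI := c.action
    haveI : Finite (Additive N) := Finite.of_equiv N Additive.ofMul
    let ι : (Fin d → F) →+ Additive N :=
      AddMonoidHom.mk' (fun p => Additive.ofMul ⟨sU p, hUN.le (sU p).2⟩) fun p q => by
        show _ = Additive.ofMul ((⟨sU p, _⟩ : N) * ⟨sU q, _⟩)
        exact congrArg Additive.ofMul (Subtype.ext (congrArg (fun z : U => (z : G)) (hsU_add p q)))
    let p : Additive N →+ (Fin d → F) :=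
      AddMonoidHom.mk' (fun a => LN.f (Additive.toMul a)) fun a b => LN.mul _ _
    have hιe : ∀ x v, ι (T.D.mat x *ᵥ v) = x • ι v := by
      intro x v
      obtain ⟨g, rfl⟩ := hs x
      have e : sU (T.D.mat (φ g) *ᵥ v) = ⟨g * sU v * g⁻¹, hU.conj_mem _ (sU v).2 g⟩ :=
        hLUinj (by rw [hsU, LU.eqv, hsU])
      show Additive.ofMul (⟨sU _, _⟩ : N) = _
      rw [show ι v = Additive.ofMul (⟨sU v, hUN.le (sU v).2⟩ : N) from rfl, c.smul_eq]
      exact congrArg Additive.ofMul (Subtype.ext (congrArg Subtype.val e :))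
    have hpe : ∀ x a, p (x • a) = T.D.mat x *ᵥ p a := by
      intro x a
      obtain ⟨g, rfl⟩ := hs x
      rw [← ofMul_toMul a, c.smul_eq]
      exact LN.eqv g (Additive.toMul a)
    obtain ⟨W, hW, hW1, hWι⟩ := T.split ι p
      (fun a => Additive.toMul.injective (Subtype.ext (hNQ (Additive.toMul a).2).2))
      (fun v w e => by
        have e' : ((sU v : U) : G) = sU w := congrArg (fun z : N => (z : G)) (Additive.ofMul.injective e)
        rw [← hsU v, ← hsU w, Subtype.ext e'])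
      (fun v => by obtain ⟨a, ha⟩ := LN.surj v; exact ⟨Additive.ofMul a, ha⟩)
      (fun v => (LN.ker _).2 (sU v).2) hιe hpe
      (fun a ha => by
        have h2 : ((Additive.toMul a : N) : G) ∈ U := (LN.ker _).1 ha
        refine ⟨LU.f ⟨_, h2⟩, ?_⟩
        show Additive.ofMul (⟨sU _, _⟩ : N) = a
        simp only [hsU']
        exact ofMul_toMul a)
      (c.sum_torus_eq_zero hfpf T.D.h ht hcard)
      (c.sum_pow_eq_zero hfpf T.y_ne T.k_odd T.y_pow)
    set S := (AddSubgroup.toSubgroup' W).map N.subtype with hS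
    haveI hSn : S.Normal := c.normal_of_invt W hW
    have hS1 : S ≠ ⊥ := by
      intro e
      refine hW1 ((AddSubgroup.eq_bot_iff_forall W).2 fun v hv => ?_)
      have : ((Additive.toMul v : N) : G) ∈ S := ⟨_, hv, rfl⟩
      rw [e, Subgroup.mem_bot] at this
      exact Additive.toMul.injective (Subtype.ext this)
    have hSR : S ≤ R := by
      rintro x ⟨a, -, rfl⟩
      exact hNR a.2
    obtain ⟨a, haW, haU⟩ := hquot S hSn hS1 hSR r₀ hr₀
    have hsU0 : r₀ * r₀ ∈ U := hsqU r₀ hr₀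
    have h0 : Additive.ofMul a ∈ W ⊓ ι.range := by
      refine ⟨haW, LU.f ⟨_, hsU0⟩, ?_⟩
      show Additive.ofMul (⟨sU _, _⟩ : N) = _
      simp only [hsU']
      exact congrArg Additive.ofMul (Subtype.ext haU.symm)
    rw [hWι, AddSubgroup.mem_bot] at h0
    exact hr₀2 (haU.symm.trans (congrArg Subtype.val (Additive.ofMul.injective h0 :)))

end Cfsg.Agent.Lib.CNStruct
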