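import Mathlib
import Cfsg.Prelude.Def_CaseTheorems
import Cfsg.Prelude.Def_Sz
import Cfsg.Agent.Lib.CIT.Basic
import Cfsg.Agent.Lib.PSolvable.Core
import Cfsg.Agent.Lib.SuzukiSp4.Iso
import Cfsg.Agent.Lib.CNStruct.ExpTwo

/-!
The 2-core of a nonsolvable CIT group with quotient `PSL₂` in characteristic two or a Suzuki group
is elementary abelian.
-/

set_option autoImplicit false
set_option linter.style.haveILetI false

namespace Cfsg.Agent.Lib.CNStruct

universe u

variable {G : Type u} [Group G] [Finite G]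

theorem fpf_of_cit (h : CIT.IsCIT G) {R : Subgroup G} (hR : IsPGroup 2 R) : Fpf R := by
  intro g hg1 hodd r hr hc
  by_contra hr1
  obtain ⟨k, hk⟩ := hR ⟨r, hr⟩
  have hk' : r ^ 2 ^ k = 1 := by
    have := congrArg Subtype.val hk
    simpa using this
  exact hg1 (h.eq_one_of_commute hk' hr1 hodd hc.symm)

omit [Finite G] in
theorem isMulCommutative_of_sq {R : Subgroup G} (h : ∀ x ∈ R, x * x = 1) : IsMulCommutative R := by
  refine ⟨⟨fun a b => Subtype.ext ?_⟩⟩
  show (a : G) * b = b * a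
  calc (a : G) * b = ((b : G) * b) * (a * b) * (a * a) := by rw [h _ b.2, h _ a.2, one_mul, mul_one]
    _ = b * ((b * a) * (b * a)) * a := by group
    _ = b * a := by rw [h _ (R.mul_mem b.2 a.2), mul_one]

theorem sq_eq_one_of_psl {F : Type} [Field F] [Fintype F] [CharP F 2] (h4 : 4 ≤ Fintype.card F)
    {R : Subgroup G} [R.Normal] (hR : IsPGroup 2 R) (hfpf : Fpf R)
    (e : G ⧸ R ≃* Matrix.ProjectiveSpecialLinearGroup (Fin 2) F) : ∀ x ∈ R, x * x = 1 := by
  haveI := Fact.mk Nat.prime_two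
  obtain ⟨n, -, hn⟩ := FiniteField.card F 2
  have hn2 : 2 ≤ (n : ℕ) := by
    by_contra hlt
    push Not at hlt
    have : 2 ^ (n : ℕ) ≤ 2 ^ 1 := Nat.pow_le_pow_right (by norm_num) (by omega)
    omega
  let π : Matrix.SpecialLinearGroup (Fin 2) F →* Matrix.ProjectiveSpecialLinearGroup (Fin 2) F :=
    QuotientGroup.mk' _
  have hπ : Function.Bijective π := by
    refine ⟨(MonoidHom.ker_eq_bot_iff π).1 ?_, QuotientGroup.mk'_surjective _⟩
    rw [QuotientGroup.ker_mk', Subgroup.eq_bot_iff_forall]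
    intro x hx
    obtain ⟨r, hr, hrx⟩ := Matrix.SpecialLinearGroup.mem_center_iff.1 hx
    rw [Fintype.card_fin] at hr
    have hr1 : r = 1 := frobenius_inj F 2 (by simpa [frobenius_def] using hr)
    refine Subtype.ext ?_
    rw [← hrx, hr1, map_one]
    rfl
  let e' : G ⧸ R ≃* Matrix.SpecialLinearGroup (Fin 2) F := e.trans (MulEquiv.ofBijective π hπ).symm
  exact (sl2Pack hn hn2).exp_two _ (e'.toMonoidHom.comp (QuotientGroup.mk' R)) R rfl
    (e'.surjective.comp (QuotientGroup.mk'_surjective R))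
    ((MonoidHom.ker_mulEquiv_comp _ e').trans (QuotientGroup.ker_mk' R)) hR hfpf

theorem sq_eq_one_of_suzuki {R : Subgroup G} [R.Normal] (hR : IsPGroup 2 R) (hfpf : Fpf R)
    (h : Cfsg.Lie.IsoSuzuki (G ⧸ R)) : ∀ x ∈ R, x * x = 1 := by
  obtain ⟨F, iF, iFF, m, hm, hc, ⟨e⟩⟩ := h
  have hyp : Suzuki.Hyp F m := ⟨hm, hc⟩
  let e' : G ⧸ R ≃* Cfsg.Sz F m := e.trans (SuzukiSp4.szEquiv hyp).symm
  exact (szPack hyp).exp_two _ (e'.toMonoidHom.comp (QuotientGroup.mk' R)) R rfl
    (e'.surjective.comp (QuotientGroup.mk'_surjective R))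
    ((MonoidHom.ker_mulEquiv_comp _ e').trans (QuotientGroup.ker_mk' R)) hR hfpf

end Cfsg.Agent.Lib.CNStruct
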