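import Cfsg.Agent.Lib.CNStruct.Rep

/-!
Chief factors of a normal 2-subgroup on which the elements of odd order act without fixed points,
as modules for the quotient.
-/

set_option autoImplicit false
set_option linter.style.haveILetI false

namespace Cfsg.Agent.Lib.CNStruct

open Finset Matrix

universe u

variable {G : Type u} [Group G] {X : Type*} [Group X]

/-- The elements of odd order act on `R` without fixed points. -/
def Fpf (R : Subgroup G) : Prop :=
  ∀ g : G, g ≠ 1 → Odd (orderOf g) → ∀ r ∈ R, g * r = r * g → r = 1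

theorem exists_odd_lift [Finite G] {H : Type*} [Group H] (f : G →* H) {g : G}
    (hodd : Odd (orderOf (f g))) : ∃ g', f g' = f g ∧ Odd (orderOf g') := by
  obtain ⟨a, m, hm, he⟩ := Nat.exists_eq_pow_mul_and_not_dvd (orderOf_pos g).ne' 2 (by norm_num)
  obtain ⟨j, hj⟩ := exists_pow_eq_self_of_coprime (x := f g) (n := 2 ^ a)
    ((Nat.coprime_two_left.2 hodd).pow_left a)
  refine ⟨(g ^ 2 ^ a) ^ j, by rw [map_pow, map_pow, hj], ?_⟩
  refine Odd.of_dvd_nat (Nat.odd_iff.2 (Nat.two_dvd_ne_zero.1 hm)) ?_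
  refine orderOf_pow_dvd j |>.trans ?_
  exact orderOf_dvd_of_pow_eq_one (by rw [← pow_mul, ← he, pow_orderOf_eq_one])

theorem Fpf.quotient [Finite G] {R : Subgroup G} [R.Normal] (hfpf : Fpf R) (Z : Subgroup G)
    [Z.Normal] (hZR : Z ≤ R) : Fpf (R.map (QuotientGroup.mk' Z)) := by
  intro q hq1 hqodd s hs hcomm
  obtain ⟨g₀, rfl⟩ := QuotientGroup.mk'_surjective Z q
  obtain ⟨r, hr, rfl⟩ := hs
  obtain ⟨g, hg, hgodd⟩ := exists_odd_lift (QuotientGroup.mk' Z) hqodd
  have hg1 : g ≠ 1 := fun e => hq1 (by rw [← hg, e, map_one])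
  rw [← hg, ← map_mul, ← map_mul] at hcomm
  have hu : r⁻¹ * g * r * g⁻¹ ∈ Z := by
    have h1 : (r * g)⁻¹ * (g * r) ∈ Z := QuotientGroup.eq.1 hcomm.symm
    rw [show r⁻¹ * g * r * g⁻¹ = g * ((r * g)⁻¹ * (g * r)) * g⁻¹ by group]
    exact ‹Z.Normal›.conj_mem _ h1 g
  -- commutation with `g` is injective on `R`
  let c : Z → Z := fun z => ⟨(z : G)⁻¹ * g * z * g⁻¹, by
    rw [mul_assoc, mul_assoc]
    exact Z.mul_mem (Z.inv_mem z.2) (by simpa [mul_assoc] using ‹Z.Normal›.conj_mem _ z.2 g)⟩
  have hinj : ∀ a b : G, a ∈ R → b ∈ R → a⁻¹ * g * a * g⁻¹ = b⁻¹ * g * b * g⁻¹ → a = b := by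
    intro a b ha hb e
    have e' : a⁻¹ * g * a = b⁻¹ * g * b := mul_right_cancel e
    refine (inv_mul_eq_one.1 (inv_eq_one.1 ?_)).symm
    rw [_root_.mul_inv_rev, inv_inv]
    have h1 : g * (a * b⁻¹) = a * b⁻¹ * g := by
      calc g * (a * b⁻¹) = a * (a⁻¹ * g * a) * b⁻¹ := by group
        _ = a * b⁻¹ * g := by rw [e']; group
    have h2 := hfpf g hg1 hgodd _ (R.mul_mem ha (R.inv_mem hb)) h1
    rw [mul_inv_eq_one] at h2
    rw [h2, inv_mul_cancel]
  have hci : Function.Injective c := fun a b e =>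
    Subtype.ext (hinj a b (hZR a.2) (hZR b.2) (congrArg Subtype.val e))
  obtain ⟨z, hz⟩ := Finite.injective_iff_surjective.1 hci ⟨_, hu⟩
  rw [← hinj z r (hZR z.2) hr (congrArg Subtype.val hz)]
  exact (QuotientGroup.eq_one_iff _).2 z.2

/-- A normal subgroup of a kernel `R` centralised by it, as a set acted on by the quotient. -/
structure Central (φ : G →* X) (R A : Subgroup G) : Prop where
  surj : Function.Surjective φ
  ker : φ.ker = R
  normal : A.Normal
  le : A ≤ R
  cent : ∀ a ∈ A, ∀ r ∈ R, r * a = a * r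

namespace Central

variable {φ : G →* X} {R A : Subgroup G}

theorem comm (c : Central φ R A) (a b : A) : a * b = b * a :=
  Subtype.ext (c.cent b b.2 a (c.le a.2))

theorem conj_eq (c : Central φ R A) {g g' : G} (h : φ g = φ g') {a : G} (ha : a ∈ A) :
    g * a * g⁻¹ = g' * a * g'⁻¹ := by
  have hr : g'⁻¹ * g ∈ R := c.ker ▸ (show g'⁻¹ * g ∈ φ.ker by
    rw [MonoidHom.mem_ker, map_mul, map_inv, h, inv_mul_cancel])
  calc g * a * g⁻¹ = g' * ((g'⁻¹ * g) * a * (g'⁻¹ * g)⁻¹) * g'⁻¹ := by group
    _ = g' * a * g'⁻¹ := by rw [c.cent a ha _ hr, mul_inv_cancel_right]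

/-- The group structure of the module. -/
@[instance_reducible] def addGroup (c : Central φ R A) : AddCommGroup (Additive A) :=
  { (inferInstance : AddGroup (Additive A)) with add_comm := fun a b => c.comm a b }

/-- The action of the quotient. -/
@[instance_reducible] noncomputable def action (c : Central φ R A) :
    letI := c.addGroup
    DistribMulAction X (Additive A) :=
  letI := c.addGroup
  { smul := fun x a => Additive.ofMul ⟨Function.surjInv c.surj x * (Additive.toMul a : A) *
      (Function.surjInv c.surj x)⁻¹, c.normal.conj_mem _ (Additive.toMul a).2 _⟩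
    one_smul := fun a => Additive.toMul.injective (Subtype.ext (by
      show _ * _ * _ = _
      rw [c.conj_eq (g' := 1) (by rw [Function.surjInv_eq c.surj, map_one]) (Additive.toMul a).2,
        one_mul, inv_one, mul_one]))
    mul_smul := fun x y a => Additive.toMul.injective (Subtype.ext (by
      show _ * _ * _ = Function.surjInv c.surj x * (Function.surjInv c.surj y * _ * _) * _
      rw [c.conj_eq (g' := Function.surjInv c.surj x * Function.surjInv c.surj y)
        (by rw [map_mul, Function.surjInv_eq c.surj, Function.surjInv_eq c.surj,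
          Function.surjInv_eq c.surj]) (Additive.toMul a).2]
      group))
    smul_zero := fun x => Additive.toMul.injective (Subtype.ext (by
      show _ * (1 : G) * _ = 1
      rw [mul_one, mul_inv_cancel]))
    smul_add := fun x a b => Additive.toMul.injective (Subtype.ext (by
      show _ * ((Additive.toMul a : A) * (Additive.toMul b : A) : G) * _ =
        (_ * _ * _) * (_ * _ * _)
      group)) }

theorem smul_eq (c : Central φ R A) (g : G) (a : A) :
    letI := c.addGroup
    letI := c.action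
    φ g • Additive.ofMul a = Additive.ofMul ⟨g * a * g⁻¹, c.normal.conj_mem _ a.2 g⟩ :=
  Additive.toMul.injective (Subtype.ext (c.conj_eq (Function.surjInv_eq c.surj (φ g)) a.2))

theorem eq_zero_of_fixed [Finite G] (c : Central φ R A) (hfpf : Fpf R) {x : X} (hx : x ≠ 1)
    (hodd : Odd (orderOf x)) (a : Additive A) :
    letI := c.addGroup
    letI := c.action
    x • a = a → a = 0 := by
  letI := c.addGroup
  letI := c.action
  intro h
  obtain ⟨g₀, rfl⟩ := c.surj x
  obtain ⟨g, hg, hgodd⟩ := exists_odd_lift φ hodd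
  rw [← hg] at h hx
  have hg1 : g ≠ 1 := fun e => hx (by rw [e, map_one])
  have h' : g * ((Additive.toMul a : A) : G) * g⁻¹ = ((Additive.toMul a : A) : G) := by
    have e := c.smul_eq g (Additive.toMul a)
    rw [ofMul_toMul, h] at e
    exact (congrArg (fun z : Additive A => ((Additive.toMul z : A) : G)) e).symm
  exact Additive.toMul.injective (Subtype.ext
    (hfpf g hg1 hgodd _ (c.le (Additive.toMul a).2) (mul_inv_eq_iff_eq_mul.1 h')))

theorem sum_pow_eq_zero [Finite G] (c : Central φ R A) (hfpf : Fpf R) {y : X} {k : ℕ}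
    (hy1 : y ≠ 1) (hk : Odd k) (hyk : y ^ k = 1) (a : Additive A) :
    letI := c.addGroup
    letI := c.action
    ∑ i ∈ Finset.range k, (y ^ i) • a = 0 := by
  letI := c.addGroup
  letI := c.action
  refine c.eq_zero_of_fixed hfpf hy1 (hk.of_dvd_nat (orderOf_dvd_of_pow_eq_one hyk)) _ ?_
  rw [Finset.smul_sum]
  have h1 : (fun i => y • (y ^ i) • a) = fun i => (y ^ (i + 1)) • a :=
    funext fun i => by rw [smul_smul, ← pow_succ']
  rw [h1]
  have h2 := Finset.sum_range_succ' (fun i => (y ^ i) • a) k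
  rw [Finset.sum_range_succ, hyk, pow_zero] at h2
  exact (add_right_cancel h2).symm

theorem sum_torus_eq_zero [Finite G] (c : Central φ R A) (hfpf : Fpf R) {T : Type*} [CommGroup T]
    [Fintype T] (h : T →* X) {t : T} (ht : h t ≠ 1) (hodd : Odd (Nat.card T)) (a : Additive A) :
    letI := c.addGroup
    letI := c.action
    ∑ u : T, h u • a = 0 := by
  letI := c.addGroup
  letI := c.action
  refine c.eq_zero_of_fixed hfpf ht (hodd.of_dvd_nat ((orderOf_map_dvd h t).trans
    (orderOf_dvd_natCard t))) _ ?_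
  rw [Finset.smul_sum]
  exact Fintype.sum_equiv (Equiv.mulLeft t) _ _ fun u => by
    rw [Equiv.coe_mulLeft, map_mul, smul_smul]

/-- An invariant additive subgroup as a normal subgroup. -/
theorem normal_of_invt (c : Central φ R A) :
    letI := c.addGroup
    letI := c.action
    ∀ U : AddSubgroup (Additive A), Invt X U →
      ((AddSubgroup.toSubgroup' U).map A.subtype).Normal := by
  letI := c.addGroup
  letI := c.action
  intro U hU
  refine ⟨fun x hx g => ?_⟩
  obtain ⟨a, ha, rfl⟩ := hx
  refine ⟨⟨g * a * g⁻¹, c.normal.conj_mem _ a.2 g⟩, ?_, rfl⟩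
  show Additive.ofMul _ ∈ U
  rw [← c.smul_eq g a]
  exact hU _ _ ha

end Central

/-- A chief factor identified with the natural module. -/
structure Layer (φ : G →* X) {F : Type*} [Field F] {d : ℕ}
    (mat : X →* Matrix (Fin d) (Fin d) F) (Z N : Subgroup G) [N.Normal] where
  f : N → (Fin d → F)
  mul : ∀ a b, f (a * b) = f a + f b
  surj : Function.Surjective f
  ker : ∀ a, f a = 0 ↔ (a : G) ∈ Z
  eqv : ∀ (g : G) (a : N),
    f ⟨g * a * g⁻¹, Subgroup.Normal.conj_mem inferInstance _ a.2 g⟩ = mat (φ g) *ᵥ f a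

theorem exists_layer [Finite G] {F : Type*} [Field F] [Fintype F] {d k n : ℕ} (D : Model X F d k)
    (hF : Fintype.card F = 2 ^ n) (hn : 2 ≤ n) (hk : Odd k) (hyk : D.y ^ k = 1) (hy1 : D.y ≠ 1)
    (hinj : Function.Injective D.h) {φ : G →* X} (hs : Function.Surjective φ) {R : Subgroup G}
    [R.Normal] (hker : φ.ker = R) (hfpf : Fpf R) (Z N : Subgroup G) [Z.Normal] [N.Normal]
    (hZN : Z < N) (hNR : N ≤ R)
    (hmin : ∀ M : Subgroup G, M.Normal → Z ≤ M → M ≤ N → M = Z ∨ M = N)
    (hsq : ∀ a ∈ N, a * a ∈ Z) (hcomm : ∀ a ∈ N, ∀ r ∈ R, r * a * r⁻¹ * a⁻¹ ∈ Z) :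
    Nonempty (Layer φ D.mat Z N) := by
  classical
  have hZR := hZN.le.trans hNR
  set π := QuotientGroup.mk' Z with hπ
  let φ' : G ⧸ Z →* X := QuotientGroup.lift Z φ (hker.symm ▸ hZR)
  have hker' : φ'.ker = R.map π := by
    ext q
    obtain ⟨g, rfl⟩ := QuotientGroup.mk'_surjective Z q
    rw [MonoidHom.mem_ker]
    show φ g = 1 ↔ _
    rw [← MonoidHom.mem_ker, hker]
    refine ⟨fun h => ⟨g, h, rfl⟩, fun ⟨r, hr, e⟩ => ?_⟩
    have h1 : r⁻¹ * g ∈ Z := QuotientGroup.eq.1 e
    simpa using R.mul_mem hr (hZR h1)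
  set A := N.map π with hA
  have c : Central φ' (R.map π) A :=
    { surj := fun x => by obtain ⟨g, rfl⟩ := hs x; exact ⟨π g, rfl⟩
      ker := hker'
      normal := Subgroup.Normal.map inferInstance π (QuotientGroup.mk'_surjective Z)
      le := Subgroup.map_mono hNR
      cent := by
        rintro _ ⟨a, ha, rfl⟩ _ ⟨r, hr, rfl⟩
        rw [← mul_inv_eq_one, ← map_mul, ← map_mul, ← map_inv, ← map_mul]
        refine (QuotientGroup.eq_one_iff _).2 ?_
        rw [show r * a * (a * r)⁻¹ = r * a * r⁻¹ * a⁻¹ by group]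
        exact hcomm a ha r hr }
  letI := c.addGroup
  letI := c.action
  haveI : Finite (Additive A) := Finite.of_equiv A Additive.ofMul
  have hfpf' := hfpf.quotient Z hZR
  have h2 : ∀ v : Additive A, v + v = 0 := by
    intro v
    obtain ⟨a, ha, e⟩ := (Additive.toMul v).2
    refine Additive.toMul.injective (Subtype.ext ?_)
    show ((Additive.toMul v : A) : G ⧸ Z) * (Additive.toMul v : A) = 1
    rw [← e, ← map_mul]
    exact (QuotientGroup.eq_one_iff _).2 (hsq a ha)
  haveI := charP_two hF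
  have hcard : Odd (Nat.card Fˣ) := by
    rw [Nat.card_units, Nat.card_eq_fintype_card, hF]
    exact Nat.Even.sub_odd Nat.one_le_two_pow (even_two.pow_of_ne_zero (by omega)) odd_one
  obtain ⟨t, ht⟩ : ∃ t : Fˣ, t ≠ 1 := by
    haveI : Nontrivial Fˣ := by
      rw [← Fintype.one_lt_card_iff_nontrivial, Fintype.card_units, hF]
      have : 2 ^ 2 ≤ 2 ^ n := Nat.pow_le_pow_right (by norm_num) hn
      omega
    exact exists_ne 1
  have ht' : D.h t ≠ 1 := fun e => ht (hinj (e.trans (map_one _).symm))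
  have hirr : Irred X (Additive A) := by
    refine ⟨?_, fun U hU => ?_⟩
    · obtain ⟨a, ha, haZ⟩ := SetLike.exists_of_lt hZN
      refine ⟨Additive.ofMul ⟨π a, a, ha, rfl⟩, 0, fun e => haZ ?_⟩
      exact (QuotientGroup.eq_one_iff a).1 (congrArg Subtype.val (Additive.ofMul.injective e))
    · set S := (AddSubgroup.toSubgroup' U).map A.subtype with hS
      haveI hSn : S.Normal := c.normal_of_invt U hU
      have h1 : Z ≤ S.comap π := fun z hz => by
        rw [Subgroup.mem_comap, show π z = 1 from (QuotientGroup.eq_one_iff z).2 hz]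
        exact S.one_mem
      have h3 : S.comap π ≤ N := fun g hg => by
        obtain ⟨a, -, e⟩ := hg
        obtain ⟨b, hb, e'⟩ := a.2
        have h4 : b⁻¹ * g ∈ Z := QuotientGroup.eq.1 (e'.trans e)
        simpa using N.mul_mem hb (hZN.le h4)
      rcases hmin _ (Subgroup.Normal.comap hSn π) h1 h3 with e | e
      · refine Or.inl ((AddSubgroup.eq_bot_iff_forall U).2 fun v hv => ?_)
        obtain ⟨g, hg⟩ := QuotientGroup.mk'_surjective Z ((Additive.toMul v : A) : G ⧸ Z)
        have hgS : g ∈ S.comap π := ⟨Additive.toMul v, hv, hg.symm⟩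
        rw [e] at hgS
        refine Additive.toMul.injective (Subtype.ext ?_)
        show ((Additive.toMul v : A) : G ⧸ Z) = 1
        rw [← hg]
        exact (QuotientGroup.eq_one_iff g).2 hgS
      · refine Or.inr ((AddSubgroup.eq_top_iff' U).2 fun v => ?_)
        obtain ⟨a, ha, ea⟩ := (Additive.toMul v).2
        rw [← e] at ha
        obtain ⟨b, hb, eb⟩ := ha
        have : b = Additive.toMul v := Subtype.ext (eb.trans ea)
        rw [show v = Additive.ofMul b by rw [this, ofMul_toMul]]
        exact hb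
  obtain ⟨e, he⟩ := D.exists_equiv hF hirr h2 (c.sum_pow_eq_zero hfpf' hy1 hk hyk)
    (c.sum_torus_eq_zero hfpf' D.h ht' hcard)
  exact ⟨{
    f := fun a => e (Additive.ofMul ⟨π a, a, a.2, rfl⟩)
    mul := fun a b => by rw [← map_add]; rfl
    surj := fun p => by
      obtain ⟨v, rfl⟩ := e.surjective p
      obtain ⟨a, ha, ea⟩ := (Additive.toMul v).2
      exact ⟨⟨a, ha⟩, congrArg e (Additive.toMul.injective (Subtype.ext ea))⟩
    ker := fun a => by
      rw [map_eq_zero_iff e e.injective]
      exact ⟨fun h => (QuotientGroup.eq_one_iff _).1 (congrArg Subtype.val (Additive.ofMul.injective h)),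
        fun h => Additive.toMul.injective (Subtype.ext ((QuotientGroup.eq_one_iff _).2 h))⟩
    eqv := fun g a => by
      rw [show φ g = φ' (π g) from rfl, ← he, c.smul_eq]
      exact congrArg e (Additive.toMul.injective (Subtype.ext (by
        show π (g * a * g⁻¹) = π g * π a * (π g)⁻¹
        rw [map_mul, map_mul, map_inv]))) }⟩

end Cfsg.Agent.Lib.CNStruct
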