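import Mathlib

/-!
Identities between the operators of elements acting without fixed points on a module of exponent two.
-/

set_option autoImplicit false
set_option linter.style.haveILetI false

namespace Cfsg.Agent.Lib.CNStruct

open Finset

variable {X A : Type*} [Group X] [AddCommGroup A] [DistribMulAction X A]

/-- A nonzero module of exponent two on which the nontrivial elements of odd order fix only zero. -/
structure FreeMod (X A : Type*) [Group X] [AddCommGroup A] [DistribMulAction X A] : Prop where
  two : ∀ a : A, a + a = 0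
  ne : ∃ a : A, a ≠ 0
  fpf : ∀ x : X, x ≠ 1 → Odd (orderOf x) → ∀ a : A, x • a = a → a = 0

/-- The operator of an element. -/
def opOf (X A : Type*) [Group X] [AddCommGroup A] [DistribMulAction X A] : X →* AddMonoid.End A :=
  DistribMulAction.toAddMonoidEnd X A

theorem opOf_apply (x : X) (a : A) : opOf X A x a = x • a := rfl

namespace FreeMod

variable (M : FreeMod X A)

include M

theorem add_self (f : AddMonoid.End A) : f + f = 0 := AddMonoidHom.ext fun a => M.two (f a)

theorem eq_of_add {f g : AddMonoid.End A} (e : f + g = 0) : f = g := by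
  calc f = f + (g + g) := by rw [M.add_self, add_zero]
    _ = (f + g) + g := (add_assoc _ _ _).symm
    _ = g := by rw [e, zero_add]

theorem one_ne : (1 : AddMonoid.End A) ≠ 0 := fun e => by
  obtain ⟨a, ha⟩ := M.ne
  exact ha (DFunLike.congr_fun e a)

theorem eq_zero_of_fixed {x : X} (hx : x ≠ 1) (hodd : Odd (orderOf x)) {f : AddMonoid.End A}
    (h : opOf X A x * f = f) : f = 0 :=
  AddMonoidHom.ext fun a => M.fpf x hx hodd (f a) (DFunLike.congr_fun h a)

theorem sum_pow {x : X} (hx : x ≠ 1) {r : ℕ} (hr : Odd r) (hxr : x ^ r = 1) :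
    ∑ i ∈ range r, opOf X A x ^ i = 0 := by
  refine M.eq_zero_of_fixed hx (hr.of_dvd_nat (orderOf_dvd_of_pow_eq_one hxr)) ?_
  rw [Finset.mul_sum]
  have h2 := Finset.sum_range_succ' (fun i => opOf X A x ^ i) r
  rw [Finset.sum_range_succ, ← map_pow, hxr, map_one, pow_zero] at h2
  simp only [← pow_succ']
  exact (add_right_cancel h2).symm

theorem three {x : X} (hx : x ≠ 1) (h3 : x ^ 3 = 1) :
    1 + opOf X A x + opOf X A (x * x) = 0 := by
  have h := M.sum_pow hx (by decide : Odd 3) h3
  simp only [Finset.sum_range_succ, Finset.sum_range_zero, zero_add, pow_zero, pow_one, pow_two,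
    ← map_mul] at h
  exact h

/-- Two commuting elements of order three with four distinct lines. -/
theorem false_of_lines {a b : X} (hab : a * b = b * a) (ha : a ^ 3 = 1) (hb : b ^ 3 = 1) (ha1 : a ≠ 1)
    (hb1 : b ≠ 1) (h1 : a * b ≠ 1) (h2 : a * (b * b) ≠ 1) : False := by
  have c1 : (a * b) ^ 3 = 1 := by rw [(show Commute a b from hab).mul_pow, ha, hb, one_mul]
  have c2 : (a * (b * b)) ^ 3 = 1 := by
    rw [((show Commute a b from hab).mul_right hab).mul_pow, ha, (Commute.refl b).mul_pow, hb,
      one_mul, one_mul]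
  have e1 : a * b * (a * b) = a * a * (b * b) := by
    calc a * b * (a * b) = a * (b * a) * b := by group
      _ = a * a * (b * b) := by rw [← hab]; group
  have e2 : a * (b * b) * (a * (b * b)) = a * a * b := by
    have hc : b * b * a = a * (b * b) := ((show Commute a b from hab).mul_right hab).symm
    calc a * (b * b) * (a * (b * b)) = a * (b * b * a) * (b * b) := by group
      _ = a * a * (b ^ 3 * b) := by rw [hc]; simp [pow_succ, mul_assoc]
      _ = a * a * b := by rw [hb, one_mul]
  have l1 := M.three ha1 ha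
  have l2 := M.three hb1 hb
  have l3 := M.three h1 c1
  have l4 := M.three h2 c2
  rw [e1] at l3
  rw [e2] at l4
  simp only [map_mul] at l1 l2 l3 l4
  set P := opOf X A a
  set Q := opOf X A b
  refine M.one_ne ?_
  have hz : ∀ f : AddMonoid.End A, (1 + 1) * f = 0 := fun f => by rw [M.add_self, zero_mul]
  calc (1 : AddMonoid.End A)
      = 1 + (1 + 1) * (1 + 1 + P + P * P + Q + Q * Q + P * Q + P * P * (Q * Q) + P * (Q * Q) + P * P * Q) := by
        rw [hz, add_zero]
    _ = (1 + P + P * P) + (1 + Q + Q * Q) + (1 + P * Q + P * P * (Q * Q)) +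
        (1 + P * (Q * Q) + P * P * Q) + (1 + P + P * P) * (1 + Q + Q * Q) := by noncomm_ring
    _ = 0 := by rw [l1, l2, l3, l4]; simp

/-- The relation between the involutions of a four group normalised by an element of order three. -/
theorem four_rel {a b t : X} (ha : a * a = 1) (hb : b * b = 1) (hab : a * b = b * a)
    (ht : t ^ 3 = 1) (ht1 : t ≠ 1) (hta : t * a = b * t) (htb : t * b = a * b * t) :
    (1 + opOf X A a) * (1 + opOf X A b) = 0 := by
  have htc : t * (a * b) = a * t := by
    calc t * (a * b) = b * (t * b) := by rw [← mul_assoc, hta, mul_assoc]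
      _ = (b * a) * b * t := by rw [htb]; group
      _ = a * (b * b) * t := by rw [← hab]; group
      _ = a * t := by rw [hb, mul_one]
  have hne : ∀ x : X, x * x = 1 → x * t ≠ 1 := fun x hx e => by
    have e' : t = x⁻¹ := (inv_eq_of_mul_eq_one_right e).symm
    have h2 : t * t = 1 := by rw [e', ← _root_.mul_inv_rev, hx, inv_one]
    rw [pow_succ, pow_two, h2, one_mul] at ht
    exact ht1 ht
  have key : ∀ x y z : X, t * x = y * t → x * y = z →
      z * (t * t) = x * t * (x * t) := fun x y z h1 h2 => by
    calc z * (t * t) = x * (y * t) * t := by rw [← h2]; group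
      _ = x * t * (x * t) := by rw [← h1]; group
  have cube : ∀ x y z : X, x * x = 1 → t * x = y * t → t * y = z * t → x * y * z = 1 →
      (x * t) ^ 3 = 1 := fun x y z _ h1 h2 h3 => by
    calc (x * t) ^ 3 = x * (t * x) * (t * x) * t := by simp [pow_succ, mul_assoc]
      _ = x * y * (t * y) * t * t := by rw [h1]; group
      _ = x * y * z * t ^ 3 := by rw [h2]; simp [pow_succ, mul_assoc]
      _ = 1 := by rw [h3, ht, one_mul]
  have hcc : a * b * (a * b) = 1 := by
    calc a * b * (a * b) = a * (b * a) * b := by group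
      _ = (a * a) * (b * b) := by rw [← hab]; group
      _ = 1 := by rw [ha, hb, one_mul]
  have hbc : b * (a * b) = a := by rw [hab, ← mul_assoc, hb, one_mul]
  have hca : a * b * a = b := by rw [hab, mul_assoc, ha, mul_one]
  have la := M.three (hne a ha) (cube a b (a * b) ha hta htb hcc)
  have lb := M.three (hne b hb) (cube b (a * b) a hb htb htc (by rw [hbc, ha]))
  have lc := M.three (hne (a * b) hcc) (cube (a * b) a b hcc htc hta (by rw [hca, hb]))
  rw [← key a b (a * b) hta rfl] at la
  rw [← key b (a * b) a htb hbc] at lb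
  rw [← key (a * b) a b htc hca] at lc
  have lt := M.three ht1 ht
  simp only [map_mul] at la lb lc lt
  set P := opOf X A a
  set Q := opOf X A b
  set T := opOf X A t
  have hz : ∀ f : AddMonoid.End A, (1 + 1) * f = 0 := fun f => by rw [M.add_self, zero_mul]
  have h1 : T + T * T = 1 := by
    have := M.eq_of_add (f := T + T * T) (g := 1) (by rw [← lt]; abel)
    exact this
  have h2 : 1 + (P + Q + P * Q) * (T + T * T) = 0 := by
    calc 1 + (P + Q + P * Q) * (T + T * T)
        = 1 + (P + Q + P * Q) * (T + T * T) + (1 + 1) * 1 := by rw [hz, add_zero]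
      _ = (1 + P * T + P * Q * (T * T)) + (1 + Q * T + P * (T * T)) +
          (1 + P * Q * T + Q * (T * T)) := by noncomm_ring
      _ = 0 := by rw [la, lb, lc, add_zero, add_zero]
  rw [h1, mul_one] at h2
  rw [← h2]
  noncomm_ring

/-- The norm identity of a Frobenius group. -/
theorem torus_sum_ne {F : Type*} [Field F] [Fintype F] (hF : Odd (Fintype.card F)) (T : F → X)
    (hT : ∀ x y, T (x + y) = T x * T y) (hT1 : T 1 ≠ 1) (c : X) {v : F}
    (hc : ∀ x, c * T x = T (v * x) * c) {n : ℕ} (hn : 0 < n) (hv : ∀ i, 0 < i → i < n → v ^ i ≠ 1) :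
    ∑ i ∈ range n, opOf X A c ^ i ≠ 0 := by
  classical
  intro hsum
  have hT0 : T 0 = 1 := by
    have := hT 0 0
    rw [add_zero] at this
    exact (mul_eq_left.1 this.symm)
  have hpow : ∀ (k : ℕ) (x : F), T x ^ k = T (k • x) := by
    intro k x
    induction k with
    | zero => rw [pow_zero, zero_smul, hT0]
    | succ k ih => rw [pow_succ, ih, succ_nsmul, hT]
  have hcT : ∀ (i : ℕ) (x : F), c ^ i * T x = T (v ^ i * x) * c ^ i := by
    intro i
    induction i with
    | zero => intro x; simp
    | succ i ih => intro x; rw [pow_succ c, mul_assoc, hc, ← mul_assoc, ih, mul_assoc, pow_succ v,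
        mul_assoc]
  set τ : F → AddMonoid.End A := fun x => opOf X A (T x) with hτ
  have hτsum : ∑ x : F, τ x = 0 := by
    refine M.eq_zero_of_fixed hT1 (hF.of_dvd_nat (orderOf_dvd_of_pow_eq_one ?_)) ?_
    · rw [hpow, nsmul_one, FiniteField.cast_card_eq_zero, hT0]
    · rw [Finset.mul_sum]
      exact Fintype.sum_equiv (Equiv.addLeft 1) _ _ fun x => by
        simp only [hτ, Equiv.coe_addLeft, hT, map_mul]
  have hcard : (Fintype.card F : AddMonoid.End A) = 1 := by
    obtain ⟨k, hk⟩ := hF
    rw [hk, Nat.cast_add, Nat.cast_mul, Nat.cast_one, Nat.cast_ofNat, ← one_add_one_eq_two, add_mul,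
      one_mul, M.add_self, zero_add]
  refine M.one_ne ?_
  have h1 : ∑ g : F, τ g * (∑ i ∈ range n, opOf X A c ^ i) * τ (-g) = 1 := by
    simp only [Finset.mul_sum, Finset.sum_mul]
    rw [Finset.sum_comm, Finset.sum_eq_single 0]
    · simp [hτ, ← map_mul, ← hT, hT0, hcard]
    · intro i hi hi0
      have hv' : 1 - v ^ i ≠ 0 := sub_ne_zero.2 (Ne.symm
        (hv i (Nat.pos_of_ne_zero hi0) (Finset.mem_range.1 hi)))
      have : ∀ g, τ g * opOf X A c ^ i * τ (-g) = τ ((1 - v ^ i) * g) * opOf X A c ^ i := by
        intro g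
        simp only [hτ, ← map_pow, ← map_mul]
        rw [mul_assoc, hcT, ← mul_assoc, ← hT]
        congr 3
        ring
      simp only [this, ← Finset.sum_mul]
      rw [Fintype.sum_equiv (Equiv.mulLeft₀ _ hv') (fun g => τ ((1 - v ^ i) * g)) τ fun g => rfl,
        hτsum, zero_mul]
    · exact fun e => absurd (Finset.mem_range.2 hn) e
  rw [← h1, hsum]
  simp

end FreeMod

end Cfsg.Agent.Lib.CNStruct
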