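import Cfsg.Agent.Lib.CNStruct.Rep

/-!
The special linear group of degree two over a field of characteristic two, acting on its natural
module, as a model for `Rep`.
-/

set_option autoImplicit false
set_option linter.style.haveILetI false
set_option linter.unusedSimpArgs false

namespace Cfsg.Agent.Lib.CNStruct

open Matrix
open scoped MatrixGroups

section Elements

variable (F : Type*) [Field F]

/-- The matrix of an element. -/
def sl2Mat : Matrix.SpecialLinearGroup (Fin 2) F →* Matrix (Fin 2) (Fin 2) F where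
  toFun g := (g : Matrix (Fin 2) (Fin 2) F)
  map_one' := rfl
  map_mul' _ _ := rfl

variable {F}

/-- The transvections. -/
def sl2T (b : F) : Matrix.SpecialLinearGroup (Fin 2) F :=
  ⟨!![1, b; 0, 1], by simp [Matrix.det_fin_two]⟩

/-- The torus. -/
def sl2H : Fˣ →* Matrix.SpecialLinearGroup (Fin 2) F where
  toFun u := ⟨!![(u : F), 0; 0, (u : F)⁻¹], by simp [Matrix.det_fin_two]⟩
  map_one' := by
    ext i j
    fin_cases i <;> fin_cases j <;> simp
  map_mul' u v := by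
    refine Subtype.ext ?_
    show !![((u * v : Fˣ) : F), 0; 0, ((u * v : Fˣ) : F)⁻¹] =
      !![(u : F), 0; 0, (u : F)⁻¹] * !![(v : F), 0; 0, (v : F)⁻¹]
    ext i j
    fin_cases i <;> fin_cases j <;> simp [Matrix.mul_apply, Fin.sum_univ_two, mul_comm]

variable [CharP F 2]

/-- The exchange of the two axes. -/
def sl2W : Matrix.SpecialLinearGroup (Fin 2) F :=
  ⟨!![0, 1; 1, 0], by simp [Matrix.det_fin_two, CharTwo.neg_eq]⟩

/-- The test element of order three. -/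
def sl2Y : Matrix.SpecialLinearGroup (Fin 2) F := sl2W * sl2T 1

omit [CharP F 2] in
theorem sl2Mat_inj {g g' : Matrix.SpecialLinearGroup (Fin 2) F} (e : sl2Mat F g = sl2Mat F g') :
    g = g' := Subtype.ext e

omit [CharP F 2] in
theorem sl2T_mat (b : F) : sl2Mat F (sl2T b) = !![1, b; 0, 1] := rfl

omit [CharP F 2] in
theorem sl2H_mat (u : Fˣ) : sl2Mat F (sl2H u) = !![(u : F), 0; 0, (u : F)⁻¹] := rfl

theorem sl2W_mat : sl2Mat F (sl2W (F := F)) = !![0, 1; 1, 0] := rfl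

theorem sl2Y_mat : sl2Mat F (sl2Y (F := F)) = !![0, 1; 1, 1] := by
  rw [sl2Y, map_mul, sl2W_mat, sl2T_mat]
  ext i j
  fin_cases i <;> fin_cases j <;> simp [Matrix.mul_apply, Fin.sum_univ_two]

theorem sl2W_mul_self : sl2W (F := F) * sl2W = 1 := by
  refine sl2Mat_inj ?_
  rw [map_mul, map_one, sl2W_mat]
  ext i j
  fin_cases i <;> fin_cases j <;> simp [Matrix.mul_apply, Fin.sum_univ_two]

omit [CharP F 2] in
theorem sl2T_mul (a b : F) : sl2T a * sl2T b = sl2T (a + b) := by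
  refine sl2Mat_inj ?_
  rw [map_mul, sl2T_mat, sl2T_mat, sl2T_mat]
  ext i j
  fin_cases i <;> fin_cases j <;> simp [Matrix.mul_apply, Fin.sum_univ_two, add_comm]

omit [CharP F 2] in
theorem sl2T_zero : sl2T (0 : F) = 1 := by
  ext i j
  fin_cases i <;> fin_cases j <;> simp [sl2T]

theorem sl2T_inv (b : F) : (sl2T b)⁻¹ = sl2T b :=
  inv_eq_of_mul_eq_one_right (by rw [sl2T_mul, CharTwo.add_self_eq_zero, sl2T_zero])

omit [CharP F 2] in
theorem sl2H_mul_sl2T (u : Fˣ) (b : F) : sl2H u * sl2T b = sl2T ((u : F) ^ 2 * b) * sl2H u := by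
  refine sl2Mat_inj ?_
  rw [map_mul, map_mul, sl2T_mat, sl2T_mat, sl2H_mat]
  ext i j
  fin_cases i <;> fin_cases j <;>
    simp [Matrix.mul_apply, Fin.sum_univ_two]
  field_simp

theorem sl2W_mul_sl2H (u : Fˣ) : sl2W * sl2H u = sl2H u⁻¹ * sl2W := by
  refine sl2Mat_inj ?_
  rw [map_mul, map_mul, sl2W_mat, sl2H_mat, sl2H_mat]
  ext i j
  fin_cases i <;> fin_cases j <;>
    simp [Matrix.mul_apply, Fin.sum_univ_two]

/-- The group of transvections. -/
def sl2S : Subgroup (Matrix.SpecialLinearGroup (Fin 2) F) where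
  carrier := Set.range sl2T
  one_mem' := ⟨0, sl2T_zero⟩
  mul_mem' := by
    rintro _ _ ⟨a, rfl⟩ ⟨b, rfl⟩
    exact ⟨a + b, (sl2T_mul a b).symm⟩
  inv_mem' := by
    rintro _ ⟨a, rfl⟩
    exact ⟨a, (sl2T_inv a).symm⟩

theorem sl2_bruhat (g : Matrix.SpecialLinearGroup (Fin 2) F) :
    (∃ a u, g = sl2T a * sl2H u) ∨ ∃ a u b, g = sl2T a * sl2H u * sl2W * sl2T b := by
  obtain ⟨M, hM⟩ := g
  rw [Matrix.det_fin_two, CharTwo.sub_eq_add] at hM
  by_cases hc : M 1 0 = 0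
  · rw [hc, mul_zero, add_zero] at hM
    have ha : M 0 0 ≠ 0 := fun e => by simp [e] at hM
    refine Or.inl ⟨M 0 1 * M 0 0, Units.mk0 _ ha, ?_⟩
    have hd : M 1 1 = (M 0 0)⁻¹ := by rw [eq_inv_of_mul_eq_one_right hM]
    refine sl2Mat_inj ?_
    rw [map_mul, sl2T_mat, sl2H_mat]
    ext i j
    fin_cases i <;> fin_cases j <;>
      simp [sl2Mat, Matrix.mul_apply, Fin.sum_univ_two, hc, hd, ha]
  · refine Or.inr ⟨M 0 0 / M 1 0, Units.mk0 _ (inv_ne_zero hc), M 1 1 / M 1 0, ?_⟩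
    have hb : M 0 1 = M 0 0 * M 1 1 / M 1 0 + (M 1 0)⁻¹ := by
      field_simp
      linear_combination hM - (M 0 0 * M 1 1) * (CharTwo.two_eq_zero (R := F))
    refine sl2Mat_inj ?_
    rw [map_mul, map_mul, map_mul, sl2T_mat, sl2T_mat, sl2H_mat, sl2W_mat]
    ext i j
    fin_cases i <;> fin_cases j <;>
      simp [sl2Mat, Matrix.mul_apply, Fin.sum_univ_two, hc, hb] <;>
      field_simp

end Elements

variable {F : Type*} [Field F] [Fintype F] [CharP F 2]

omit [Fintype F] in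
theorem sl2Natural_irred (U : AddSubgroup (Fin 2 → F))
    (hU : ∀ g : Matrix.SpecialLinearGroup (Fin 2) F, ∀ p ∈ U, sl2Mat F g *ᵥ p ∈ U) :
    U = ⊥ ∨ U = ⊤ := by
  refine or_iff_not_imp_left.2 fun hne => ?_
  obtain ⟨p, hp, hp0⟩ : ∃ p ∈ U, p ≠ 0 := by
    by_contra! hall
    exact hne ((AddSubgroup.eq_bot_iff_forall U).2 hall)
  have hW : ∀ v : Fin 2 → F, sl2Mat F (sl2W (F := F)) *ᵥ v = ![v 1, v 0] := fun v => by
    rw [sl2W_mat]
    ext j; fin_cases j <;> simp [Matrix.mulVec, dotProduct, Fin.sum_univ_two]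
  obtain ⟨q, hq, hq1⟩ : ∃ q ∈ U, q 1 ≠ 0 := by
    by_cases hp1 : p 1 = 0
    · refine ⟨_, hU sl2W p hp, ?_⟩
      rw [hW]
      intro e
      exact hp0 (by ext j; fin_cases j <;> [exact e; exact hp1])
    · exact ⟨p, hp, hp1⟩
  have h0 : ∀ x : F, ![x, 0] ∈ U := by
    intro x
    convert U.sub_mem (hU (sl2T (x / q 1)) q hq) hq using 1
    rw [sl2T_mat]
    ext j; fin_cases j <;> simp [Matrix.mulVec, dotProduct, Fin.sum_univ_two, hq1]
  refine (AddSubgroup.eq_top_iff' U).2 fun v => ?_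
  convert U.add_mem (h0 (v 0)) (hU sl2W _ (h0 (v 1))) using 1
  rw [hW]
  ext j; fin_cases j <;> simp

/-- The model of degree two. -/
def sl2Model {n : ℕ} (_hF : Fintype.card F = 2 ^ n) (_hn : 2 ≤ n) :
    Model (Matrix.SpecialLinearGroup (Fin 2) F) F 2 3 where
  mat := sl2Mat F
  S := sl2S
  h := sl2H
  w := sl2W
  y := sl2Y
  o := 0
  z := 1
  c := MulEquiv.inv Fˣ
  k_pos := by norm_num
  isPGroup := fun x => by
    refine ⟨1, Subtype.ext ?_⟩
    obtain ⟨b, hb⟩ := x.2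
    rw [pow_one, SubmonoidClass.coe_pow, OneMemClass.coe_one, ← hb, pow_two, sl2T_mul,
      CharTwo.add_self_eq_zero, sl2T_zero]
  norm := fun u s hs => by
    obtain ⟨b, rfl⟩ := hs
    have e : ∀ (v : Fˣ), sl2H v * sl2T b * (sl2H v)⁻¹ ∈ sl2S (F := F) := fun v =>
      ⟨_, (mul_inv_eq_iff_eq_mul.2 (sl2H_mul_sl2T v b)).symm⟩
    refine ⟨?_, e u⟩
    have := e u⁻¹
    rwa [map_inv, inv_inv] at this
  wh := sl2W_mul_sl2H
  bruhat := fun g => by
    rcases sl2_bruhat g with ⟨a, u, e⟩ | ⟨a, u, b, e⟩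
    · exact Or.inl ⟨_, ⟨a, rfl⟩, u, e⟩
    · exact Or.inr ⟨_, ⟨a, rfl⟩, u, _, ⟨b, rfl⟩, e⟩
  entry_B := by
    rintro _ ⟨a, rfl⟩ u
    show sl2Mat F (sl2T a * sl2H u) 1 0 = 0
    rw [map_mul, sl2T_mat, sl2H_mat]
    simp [Matrix.mul_apply, Fin.sum_univ_two]
  entry_W := by
    rintro _ ⟨a, rfl⟩ u _ ⟨b, rfl⟩
    show sl2Mat F (sl2T a * sl2H u * sl2W * sl2T b) 1 0 = ((u⁻¹ : Fˣ) : F)
    rw [map_mul, map_mul, map_mul, sl2T_mat, sl2T_mat, sl2H_mat, sl2W_mat]
    simp [Matrix.mul_apply, Fin.sum_univ_two]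
  entry_y := fun i hi hi3 => by
    interval_cases i
    · rw [pow_one, sl2Y_mat]; simp
    · rw [pow_two, map_mul, sl2Y_mat]
      simp [Matrix.mul_apply, Fin.sum_univ_two]
  functional := fun Χ _ hΧ1 _ hrel x => by
    have := hrel (sl2W * sl2T x)
    simp only [Finset.sum_range_succ, Finset.sum_range_zero, zero_add, pow_zero, pow_one, mul_one,
      pow_two, map_mul, sl2W_mat, sl2T_mat, sl2Y_mat] at this
    simp [Matrix.mul_apply, Fin.sum_univ_two, hΧ1] at this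
    exact (CharTwo.add_eq_zero.1 this).symm
  rows := fun p hp => by
    have h1 := hp 1
    have h2 := hp sl2W
    rw [sl2W_mat] at h2
    simp [Matrix.mulVec, dotProduct, Fin.sum_univ_two] at h1 h2
    ext j; fin_cases j <;> simp [h1, h2]
  irred := sl2Natural_irred

end Cfsg.Agent.Lib.CNStruct
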