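import Cfsg.Prelude.Def_Exceptional
import Cfsg.Agent.Lib.SuzukiSp4.Iso
import Cfsg.Agent.Lib.Suzuki.Simple
import Cfsg.Agent.Lib.BrauerReynolds.Corollaries

/-!
Recognition glue: isomorphs of Suzuki groups are of Suzuki type; `SL(2, 2ⁿ)` is `PSL(2, 2ⁿ)`.
-/

set_option autoImplicit false
set_option linter.style.haveILetI false

namespace Cfsg.Agent.Lib.CNStruct

theorem isSuzuki_of_iso {X : Type*} [Group X] (h : Cfsg.Lie.IsoSuzuki X) : Cfsg.IsSuzuki X := by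
  obtain ⟨F, iF, iFt, m, hm, hF, ⟨e⟩⟩ := h
  have hyp : Suzuki.Hyp F m := ⟨hm, hF⟩
  let e' : X ≃* Cfsg.Sz F m := e.trans (SuzukiSp4.szEquiv hyp).symm
  haveI : IsSimpleGroup (Cfsg.Sz F m) := Suzuki.isSimpleGroup_Sz hyp
  haveI : Nontrivial X := e'.toEquiv.nontrivial
  refine ⟨IsSimpleGroup.isSimpleGroup_of_surjective e'.symm.toMonoidHom e'.symm.surjective, m, hm, ?_⟩
  rw [Nat.card_congr e'.toEquiv, Suzuki.card_Sz hyp, hF]

/-- `SL(2, F) ≃* PSL(2, F)` in characteristic two. -/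
noncomputable def sl2EquivPSL {F : Type} [Field F] [Fintype F] {n : ℕ}
    (hF : Fintype.card F = 2 ^ n) (hn : 1 ≤ n) :
    Matrix.SpecialLinearGroup (Fin 2) F ≃* Matrix.ProjectiveSpecialLinearGroup (Fin 2) F :=
  (BrauerReynolds.nonempty_SL_equiv_PSL hF hn).some

end Cfsg.Agent.Lib.CNStruct
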