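import Cfsg.Agent.Lib.CNStruct.SzExp

/-!
Sections of an extension of the natural Suzuki module by itself and their defects.
-/

set_option autoImplicit false
set_option linter.style.haveILetI false
set_option linter.unusedSimpArgs false

namespace Cfsg.Agent.Lib.CNStruct

open Matrix Finset Cfsg.Agent.Lib.Suzuki
open scoped Classical

section Mono

variable {F : Type*} [Field F] [Fintype F] {m : ℕ} (h : Hyp F m)

/-- An equivariant biadditive map between weight spaces. -/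
def SzEqv (m : ℕ) (i j : Fin 4) (B : F → F → F) : Prop :=
  (∀ a a' x, B (a + a') x = B a x + B a' x) ∧ (∀ a x x', B a (x + x') = B a x + B a x') ∧
    ∀ (u : Fˣ) (a x : F),
      B (((u ^ gExp m : Fˣ) : F) * a) (((u ^ szWt m i : Fˣ) : F) * x) =
        ((u ^ szWt m j : Fˣ) : F) * B a x

variable {i j : Fin 4} {B : F → F → F}

include h

theorem sz_mono₀ (hB : SzEqv m i j B)
    (hc : ∀ k l : Fin (2 * m + 1), ¬ SzCong m i j k l) (a x : F) : B a x = 0 := by
  obtain ⟨c, hc', hs⟩ := support₂ h.hF _ _ _ B hB.1 hB.2.1 hB.2.2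
  rw [hc']
  refine Finset.sum_eq_zero fun k _ => Finset.sum_eq_zero fun l _ => ?_
  rw [show c k l = 0 from by_contra fun e => hc k l (hs k l e), zero_mul]

theorem sz_mono₁ (hB : SzEqv m i j B) (k₀ l₀ : ℕ) (hk : k₀ < 2 * m + 1) (hl : l₀ < 2 * m + 1)
    (hc : ∀ k l : Fin (2 * m + 1), SzCong m i j k l → (k : ℕ) = k₀ ∧ (l : ℕ) = l₀) :
    ∃ c : F, ∀ a x, B a x = c * (a ^ 2 ^ k₀ * x ^ 2 ^ l₀) := by
  obtain ⟨c, hc', hs⟩ := support₂ h.hF _ _ _ B hB.1 hB.2.1 hB.2.2
  refine ⟨c ⟨k₀, hk⟩ ⟨l₀, hl⟩, fun a x => ?_⟩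
  rw [hc', ← Fintype.sum_prod_type' (fun k l => c k l * (a ^ 2 ^ (k : ℕ) * x ^ 2 ^ (l : ℕ))),
    Finset.sum_eq_single (⟨k₀, hk⟩, ⟨l₀, hl⟩)]
  · rintro ⟨k, l⟩ - hne
    rw [show c k l = 0 from by_contra fun e => hne (by
      obtain ⟨h1, h2⟩ := hc k l (hs k l e)
      exact Prod.ext (Fin.ext h1) (Fin.ext h2)), zero_mul]
  · exact fun e => absurd (Finset.mem_univ _) e

theorem sz_mono₂ (hB : SzEqv m i j B) (k₀ l₀ k₁ l₁ : ℕ) (hk : k₀ < 2 * m + 1)
    (hl : l₀ < 2 * m + 1) (hk' : k₁ < 2 * m + 1) (hl' : l₁ < 2 * m + 1) (hne : k₀ ≠ k₁)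
    (hc : ∀ k l : Fin (2 * m + 1), SzCong m i j k l →
      ((k : ℕ) = k₀ ∧ (l : ℕ) = l₀) ∨ ((k : ℕ) = k₁ ∧ (l : ℕ) = l₁)) :
    ∃ c d : F, ∀ a x, B a x = c * (a ^ 2 ^ k₀ * x ^ 2 ^ l₀) + d * (a ^ 2 ^ k₁ * x ^ 2 ^ l₁) := by
  obtain ⟨c, hc', hs⟩ := support₂ h.hF _ _ _ B hB.1 hB.2.1 hB.2.2
  refine ⟨c ⟨k₀, hk⟩ ⟨l₀, hl⟩, c ⟨k₁, hk'⟩ ⟨l₁, hl'⟩, fun a x => ?_⟩
  rw [hc', ← Fintype.sum_prod_type' (fun k l => c k l * (a ^ 2 ^ (k : ℕ) * x ^ 2 ^ (l : ℕ))),
    ← Finset.sum_subset (Finset.subset_univ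
      {((⟨k₀, hk⟩, ⟨l₀, hl⟩) : Fin (2 * m + 1) × Fin (2 * m + 1)), (⟨k₁, hk'⟩, ⟨l₁, hl'⟩)}) ?_,
    Finset.sum_pair fun e => hne (congrArg (fun p => (p.1 : ℕ)) e)]
  rintro ⟨k, l⟩ - hkl
  rw [show c k l = 0 from by_contra fun e => hkl (by
    simp only [Finset.mem_insert, Finset.mem_singleton]
    rcases hc k l (hs k l e) with ⟨h1, h2⟩ | ⟨h1, h2⟩
    · exact Or.inl (Prod.ext (Fin.ext h1) (Fin.ext h2))
    · exact Or.inr (Prod.ext (Fin.ext h1) (Fin.ext h2))), zero_mul]

omit h in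
omit [Fintype F] in
theorem zpow_szWt (u : Fˣ) (i : Fin 4) : ((u ^ szWt m i : Fˣ) : F) =
    ![(u : F) * theta m (u : F), (u : F), (u : F)⁻¹, ((u : F) * theta m (u : F))⁻¹] i := by
  fin_cases i <;> simp [szWt, zpow_sExp, _root_.zpow_neg, -Units.val_zpow_eq_zpow_val]

theorem szH_wt (u : Fˣ) (v : Fin 4 → F) :
    szMat (szH h u) *ᵥ v = fun i => ((u ^ szWt m i : Fˣ) : F) * v i := by
  rw [szH_act]
  funext i
  rw [zpow_szWt]
  fin_cases i <;> rfl

theorem szH_single (u : Fˣ) (i : Fin 4) (x : F) :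
    szMat (szH h u) *ᵥ Pi.single i x = Pi.single i (((u ^ szWt m i : Fˣ) : F) * x) := by
  rw [szH_wt]
  funext j
  rcases eq_or_ne j i with rfl | hne
  · simp
  · simp [hne]

end Mono

section Ext

variable {F : Type*} [Field F] [Fintype F] {m : ℕ} {h : Hyp F m}

/-- An elementary extension of the natural module by itself. -/
structure SzExt (h : Hyp F m) (A : Type*) [AddCommGroup A] [DistribMulAction (Cfsg.Sz F m) A] where
  ι : (Fin 4 → F) →+ A
  p : A →+ (Fin 4 → F)
  two : ∀ a : A, a + a = 0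
  inj : Function.Injective ι
  surj : Function.Surjective p
  pι : ∀ v, p (ι v) = 0
  ker : ∀ a, p a = 0 → a ∈ ι.range
  ιe : ∀ (g : Cfsg.Sz F m) v, ι (szMat g *ᵥ v) = g • ι v
  pe : ∀ (g : Cfsg.Sz F m) a, p (g • a) = szMat g *ᵥ p a

variable {A : Type*} [AddCommGroup A] [DistribMulAction (Cfsg.Sz F m) A]

/-- An equivariant section. -/
structure SzSec (E : SzExt h A) where
  σ : (Fin 4 → F) →+ A
  sec : ∀ v, E.p (σ v) = v
  hh : ∀ u v, σ (szMat (szH h u) *ᵥ v) = szH h u • σ v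
  hw : ∀ v, σ (szMat (szW h) *ᵥ v) = szW h • σ v

variable {E : SzExt h A}

theorem SzExt.neg_eq (E : SzExt h A) (a : A) : -a = a := neg_eq_of_add_eq_zero_left (E.two a)

theorem szK_add_left (a b : F) (v : Fin 4 → F) (h : Hyp F m) :
    szK m (a + b) v = szK m a v + szK m b v := by
  ext j; fin_cases j <;> simp [szK, h.theta_add] <;> ring

omit [Fintype F] in
theorem szK_add_right (b : F) (v v' : Fin 4 → F) : szK m b (v + v') = szK m b v + szK m b v' := by
  ext j; fin_cases j <;> simp [szK] <;> ring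

omit [Fintype F] in
theorem szK_zero_right (b : F) : szK m b (0 : Fin 4 → F) = 0 := by
  ext j; fin_cases j <;> simp [szK]

omit [Fintype F] in
theorem szK_szK (a b : F) (v : Fin 4 → F) : szK m a (szK m b v) = 0 :=
  szK_of_plus (szK_plus b v)

theorem szK_equivariant (h : Hyp F m) (u : Fˣ) (b : F) (v : Fin 4 → F) :
    szK m (((u ^ gExp m : Fˣ) : F) * b) (szMat (szH h u) *ᵥ v) = szMat (szH h u) *ᵥ szK m b v := by
  have h1 : szT h 0 (((u ^ gExp m : Fˣ) : F) * b) * szH h u = szH h u * szT h 0 b :=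
    (szH_conj_T h u b).symm
  have := congrArg (fun g => szMat g *ᵥ v) h1
  simp only [map_mul, ← Matrix.mulVec_mulVec, szT_act, Matrix.mulVec_add] at this
  exact add_left_cancel this

namespace SzSec

variable (L : SzSec E)

theorem exists_defect (b : F) (v : Fin 4 → F) :
    ∃ d, E.ι d = szT h 0 b • L.σ v - L.σ v - L.σ (szK m b v) := by
  refine E.ker _ ?_
  rw [map_sub, map_sub, E.pe, L.sec, L.sec, szT_act, add_sub_cancel_left, sub_self]

/-- The defect of a central translation. -/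
noncomputable def δ (b : F) (v : Fin 4 → F) : Fin 4 → F := (L.exists_defect b v).choose

theorem act (b : F) (v : Fin 4 → F) :
    szT h 0 b • L.σ v = L.σ v + L.σ (szK m b v) + E.ι (L.δ b v) := by
  rw [show E.ι (L.δ b v) = _ from (L.exists_defect b v).choose_spec]
  abel

theorem δ_unique {b : F} {v d : Fin 4 → F}
    (hd : szT h 0 b • L.σ v = L.σ v + L.σ (szK m b v) + E.ι d) : L.δ b v = d :=
  E.inj (add_left_cancel ((L.act b v).symm.trans hd))

theorem δ_add (b : F) (v v' : Fin 4 → F) : L.δ b (v + v') = L.δ b v + L.δ b v' := by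
  refine L.δ_unique ?_
  rw [map_add, smul_add, L.act, L.act, szK_add_right, map_add, map_add]
  abel

theorem δ_h (u : Fˣ) (b : F) (v : Fin 4 → F) :
    L.δ (((u ^ gExp m : Fˣ) : F) * b) (szMat (szH h u) *ᵥ v) = szMat (szH h u) *ᵥ L.δ b v := by
  refine L.δ_unique ?_
  rw [L.hh, smul_smul, ← szH_conj_T h, mul_smul, L.act, smul_add, smul_add, szK_equivariant h,
    L.hh, E.ιe]

theorem δ_zero (v : Fin 4 → F) : L.δ 0 v = 0 := by
  refine L.δ_unique ?_
  rw [szT_one, one_smul, show szK m (0 : F) v = 0 by ext j; fin_cases j <;> simp [szK, theta_zero],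
    map_zero, map_zero, add_zero, add_zero]

/-- A translation squares to one. -/
theorem δ_sq (b : F) (v : Fin 4 → F) : L.δ b (szK m b v) + szK m b (L.δ b v) = 0 := by
  haveI := h.charP
  have h1 : szT h 0 b • szT h 0 b • L.σ v = L.σ v := by
    rw [smul_smul, szT_mul, theta_zero, zero_mul, add_zero, add_zero, h.add_self, szT_one, one_smul]
  rw [L.act, smul_add, smul_add, L.act, L.act, szK_szK, map_zero, add_zero, ← E.ιe, szT_act,
    map_add] at h1
  refine (map_eq_zero_iff E.ι E.inj).1 ?_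
  rw [map_add]
  have h2 : L.σ v + ((L.σ (szK m b v) + L.σ (szK m b v)) + (E.ι (L.δ b v) + E.ι (L.δ b v))) +
      (E.ι (L.δ b (szK m b v)) + E.ι (szK m b (L.δ b v))) = L.σ v := by
    conv_rhs => rw [← h1]
    abel
  rwa [E.two, E.two, add_zero, add_zero, add_eq_left] at h2

theorem δ_cocycle (a b : F) (v : Fin 4 → F) :
    L.δ (a + b) v = L.δ a v + L.δ b v + L.δ a (szK m b v) + szK m a (L.δ b v) := by
  refine L.δ_unique ?_
  rw [show szT h 0 (a + b) = szT h 0 a * szT h 0 b by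
      rw [szT_mul, theta_zero, zero_mul, add_zero, add_zero],
    mul_smul, L.act, smul_add, smul_add, L.act, L.act, szK_szK, map_zero, add_zero,
    ← E.ιe, szT_act, szK_add_left a b v h]
  simp only [map_add]
  abel

theorem δ_plus {v : Fin 4 → F} (hv : szPlus v) (b : F) : szPlus (L.δ b v) := by
  by_cases hb : b = 0
  · rw [hb, L.δ_zero]; exact ⟨rfl, rfl⟩
  have := L.δ_sq b v
  rw [szK_of_plus hv, show L.δ b 0 = 0 from L.δ_unique (by simp [szK_zero_right]), zero_add] at this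
  exact szK_eq_zero (m := m) hb this

/-- The components of the defect. -/
noncomputable def comp (i j : Fin 4) (b x : F) : F := L.δ b (Pi.single i x) j

theorem comp_eqv (i j : Fin 4) (hij : (i = 0 ∨ i = 1) ∨ (j = 2 ∨ j = 3)) :
    SzEqv m i j (L.comp i j) := by
  refine ⟨fun a a' x => ?_, fun a x x' => ?_, fun u a x => ?_⟩
  · simp only [comp, L.δ_cocycle, Pi.add_apply]
    have h1 : L.δ a (szK m a' (Pi.single i x)) j = 0 ∧ szK m a (L.δ a' (Pi.single i x)) j = 0 := by
      rcases hij with hi | hj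
      · have hp : szPlus (Pi.single (M := fun _ => F) i x) := by
          rcases hi with rfl | rfl <;> constructor <;> simp
        rw [szK_of_plus hp, szK_of_plus (L.δ_plus hp a'),
          show L.δ a 0 = 0 from L.δ_unique (by simp [szK_zero_right])]
        exact ⟨rfl, rfl⟩
      · have h2 := L.δ_plus (szK_plus (m := m) a' (Pi.single i x)) a
        have h3 : szPlus (szK m a (L.δ a' (Pi.single i x))) := szK_plus _ _
        rcases hj with rfl | rfl
        · exact ⟨h2.1, h3.1⟩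
        · exact ⟨h2.2, h3.2⟩
    rw [h1.1, h1.2, add_zero, add_zero]
  · simp only [comp, Pi.single_add, L.δ_add, Pi.add_apply]
  · simp only [comp]
    rw [← szH_single h, L.δ_h, szH_wt h]

theorem δ_eq_sum (b : F) (v : Fin 4 → F) (j : Fin 4) :
    L.δ b v j = L.comp 0 j b (v 0) + L.comp 1 j b (v 1) + L.comp 2 j b (v 2) + L.comp 3 j b (v 3) := by
  have hv : v = Pi.single 0 (v 0) + Pi.single 1 (v 1) + Pi.single 2 (v 2) + Pi.single 3 (v 3) := by
    ext k; fin_cases k <;> simp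
  conv_lhs => rw [hv]
  simp only [L.δ_add, Pi.add_apply, comp]

/-- Changing a section by an equivariant map into the submodule. -/
def gauge (η : (Fin 4 → F) →+ (Fin 4 → F))
    (hh : ∀ u v, η (szMat (szH h u) *ᵥ v) = szMat (szH h u) *ᵥ η v)
    (hw : ∀ v, η (szMat (szW h) *ᵥ v) = szMat (szW h) *ᵥ η v) : SzSec E where
  σ := L.σ + E.ι.comp η
  sec v := by simp [map_add, L.sec, E.pι]
  hh u v := by simp [L.hh, hh, E.ιe, smul_add]
  hw v := by simp [L.hw, hw, E.ιe, smul_add]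

theorem gauge_δ (η : (Fin 4 → F) →+ (Fin 4 → F))
    (hh : ∀ u v, η (szMat (szH h u) *ᵥ v) = szMat (szH h u) *ᵥ η v)
    (hw : ∀ v, η (szMat (szW h) *ᵥ v) = szMat (szW h) *ᵥ η v) (b : F) (v : Fin 4 → F) :
    (L.gauge η hh hw).δ b v = L.δ b v + szK m b (η v) + η (szK m b v) := by
  haveI := h.charP
  refine (L.gauge η hh hw).δ_unique ?_
  simp only [gauge, AddMonoidHom.add_apply, AddMonoidHom.comp_apply, smul_add, L.act, ← E.ιe,
    szT_act, map_add]
  have h2 := E.two (E.ι (η (szK m b v)))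
  calc _ = L.σ v + L.σ (szK m b v) + E.ι (L.δ b v) + (E.ι (η v) + E.ι (szK m b (η v))) +
        (E.ι (η (szK m b v)) + E.ι (η (szK m b v))) := by rw [h2, add_zero]
    _ = _ := by abel

end SzSec

/-- An equivariant section exists. -/
theorem SzExt.nonempty_sec (E : SzExt h A) : Nonempty (SzSec E) := by
  haveI := h.charP
  haveI : Fact (Nat.Prime 2) := ⟨Nat.prime_two⟩
  letI : Module (ZMod 2) A := AddCommGroup.zmodModule fun a => by rw [two_nsmul, E.two]
  letI : Module (ZMod 2) (Fin 4 → F) := AddCommGroup.zmodModule fun v => by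
    rw [two_nsmul]; funext j; exact CharTwo.add_self_eq_zero (v j)
  obtain ⟨s, hs⟩ := (E.p.toZModLinearMap 2).exists_rightInverse_of_surjective
    (LinearMap.range_eq_top.2 E.surj)
  have hs' : ∀ v, E.p (s v) = v := fun v => LinearMap.congr_fun hs v
  -- average over the torus
  let σ₀ : (Fin 4 → F) →+ A := AddMonoidHom.mk'
    (fun v => ∑ u : Fˣ, szH h u⁻¹ • s (szMat (szH h u) *ᵥ v)) fun v v' => by
      simp only [Matrix.mulVec_add, map_add, smul_add, Finset.sum_add_distrib]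
  have hp : ∀ v, E.p (σ₀ v) = v := by
    intro v
    simp only [σ₀, AddMonoidHom.mk'_apply, map_sum, E.pe, hs', Matrix.mulVec_mulVec, ← map_mul,
      szH_mul, inv_mul_cancel, szH_one, map_one, Matrix.one_mulVec, Finset.sum_const,
      Finset.card_univ, Fintype.card_units]
    rw [← Nat.cast_smul_eq_nsmul F, Nat.cast_sub Fintype.card_pos, FiniteField.cast_card_eq_zero,
      zero_sub, Nat.cast_one, CharTwo.neg_eq, one_smul]
  have hh : ∀ t v, σ₀ (szMat (szH h t) *ᵥ v) = szH h t • σ₀ v := by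
    intro t v
    simp only [σ₀, AddMonoidHom.mk'_apply, Finset.smul_sum]
    refine Fintype.sum_equiv (Equiv.mulRight t) _ _ fun u => ?_
    simp only [Equiv.coe_mulRight, smul_smul, szH_mul, Matrix.mulVec_mulVec, ← map_mul]
    rw [_root_.mul_inv_rev, mul_inv_cancel_left]
  -- make it commute with the inversion
  set W : (Fin 4 → F) → (Fin 4 → F) := fun v => szMat (szW h) *ᵥ v with hW
  have hWh : ∀ u v, W (szMat (szH h u) *ᵥ v) = szMat (szH h u⁻¹) *ᵥ W v := fun u v => by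
    simp only [hW, Matrix.mulVec_mulVec, ← map_mul, szW_mul_szH]
  let π : (Fin 4 → F) →+ (Fin 4 → F) := AddMonoidHom.mk' (fun v => ![v 0, v 1, 0, 0]) fun v v' => by
    ext j; fin_cases j <;> simp
  have hπh : ∀ u v, π (szMat (szH h u) *ᵥ v) = szMat (szH h u) *ᵥ π v := by
    intro u v
    rw [szH_act, szH_act]
    ext j; fin_cases j <;> simp [π]
  have hπw : ∀ v, π v + W (π (W v)) = v := by
    intro v
    simp only [hW, π, AddMonoidHom.mk'_apply, szW_act]
    ext j; fin_cases j <;> simp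
  refine ⟨{
    σ := AddMonoidHom.mk' (fun v => σ₀ (π v) + szW h • σ₀ (π (W v))) fun v v' => by
      simp only [hW, Matrix.mulVec_add, map_add, smul_add]; abel
    sec := fun v => by simp [map_add, E.pe, hp, ← hW, hπw]
    hh := fun u v => by
      simp only [AddMonoidHom.mk'_apply, hπh, hWh, hh, smul_add, smul_smul, szW_mul_szH, inv_inv]
    hw := fun v => by
      have e : W (W v) = v := by
        simp only [hW, Matrix.mulVec_mulVec, ← map_mul, szW_mul_self, map_one, Matrix.one_mulVec]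
      simp only [AddMonoidHom.mk'_apply, smul_add, smul_smul, szW_mul_self, one_smul]
      show σ₀ (π (W v)) + szW h • σ₀ (π (W (W v))) = _
      rw [e, add_comm] }⟩

end Ext

end Cfsg.Agent.Lib.CNStruct
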