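import Cfsg.Agent.Lib.CNStruct.SzSquare

/-!
The monomials that an equivariant biadditive map between weight spaces of the natural Suzuki module
can contain.
-/

set_option autoImplicit false
set_option linter.style.haveILetI false
set_option linter.unreachableTactic false
set_option linter.unusedTactic false
set_option linter.unnecessarySeqFocus false

namespace Cfsg.Agent.Lib.CNStruct

section Bits

variable {n : ℕ}

/-- Three powers adding to two distinct ones. -/
theorem three_two (hn : 3 ≤ n) {i j l p q : ℕ} (hpq : p % n ≠ q % n)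
    (h : P n i + P n j + P n l = P n p + P n q) :
    (i % n = j % n ∧ (((i + 1) % n = p % n ∧ l % n = q % n) ∨ ((i + 1) % n = q % n ∧ l % n = p % n))) ∨
    (i % n = l % n ∧ (((i + 1) % n = p % n ∧ j % n = q % n) ∨ ((i + 1) % n = q % n ∧ j % n = p % n))) ∨
    (j % n = l % n ∧ (((j + 1) % n = p % n ∧ i % n = q % n) ∨ ((j + 1) % n = q % n ∧ i % n = p % n))) := by
  have key : ∀ {a b c : ℕ}, a % n = b % n → P n a + P n b + P n c = P n p + P n q →
      a % n = b % n ∧ (((a + 1) % n = p % n ∧ c % n = q % n) ∨ ((a + 1) % n = q % n ∧ c % n = p % n)) := by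
    intro a b c hab h
    rw [show P n b = P n a by rw [← P_mod b, ← hab, P_mod], P_double] at h
    refine ⟨hab, ?_⟩
    by_cases hac : (a + 1) % n = c % n
    · exfalso
      rw [show P n c = P n (a + 1) by rw [← P_mod c, ← hac, P_mod], P_double] at h
      exact hpq (two_one hn h.symm).1
    · rcases two_two hn hac h with ⟨h1, h2⟩ | ⟨h1, h2⟩
      · exact Or.inl ⟨h1.symm, h2.symm⟩
      · exact Or.inr ⟨h2.symm, h1.symm⟩
  by_cases hij : i % n = j % n
  · exact Or.inl (key hij h)
  by_cases hil : i % n = l % n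
  · exact Or.inr (Or.inl (key hil (by rw [← h]; ring)))
  by_cases hjl : j % n = l % n
  · exact Or.inr (Or.inr (key hjl (by rw [← h]; ring)))
  exfalso
  rcases eq_or_lt_of_le hn with rfl | hn4
  · revert h
    rw [← P_mod i, ← P_mod j, ← P_mod l, ← P_mod p, ← P_mod q]
    have := Nat.mod_lt i (show 3 > 0 by norm_num)
    have := Nat.mod_lt j (show 3 > 0 by norm_num)
    have := Nat.mod_lt l (show 3 > 0 by norm_num)
    have := Nat.mod_lt p (show 3 > 0 by norm_num)
    have := Nat.mod_lt q (show 3 > 0 by norm_num)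
    generalize i % 3 = a, j % 3 = b, l % 3 = c, p % 3 = d, q % 3 = e at *
    interval_cases a <;> interval_cases b <;> (first | omega | skip) <;>
      interval_cases c <;> (first | omega | skip) <;>
      interval_cases d <;> interval_cases e <;> first | omega | decide
  · have := list_P_eq (n := n) (l₁ := [i, j, l]) (l₂ := [p, q]) (by omega) (by simp [hij, hil, hjl])
      (by simp [hpq]) (by simp only [List.length_cons, List.length_nil]; omega)
      (by simp only [List.length_cons, List.length_nil]; omega) (by simpa [add_assoc] using h)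
    have hc := congrArg Finset.card this
    simp [hij, hil, hjl, hpq] at hc

theorem mod_cases {i j : ℕ} (h : i % n = j % n) (hi : i < 2 * n) (hj : j < 2 * n) :
    i = j ∨ i = j + n ∨ j = i + n := by
  rcases mod_eq_cases h (by omega) (by omega) with a | a | a | a | a <;> omega

theorem P_ne_zero (hn : 2 ≤ n) (i : ℕ) : P n i ≠ 0 := by
  haveI : Fact (1 < 2 ^ n - 1) := ⟨by
    have : 2 ^ 2 ≤ 2 ^ n := Nat.pow_le_pow_right (by norm_num) hn
    omega⟩
  intro h
  have h1 : P n i * P n (i * (n - 1)) = 1 := by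
    rw [← P_add, ← P_mod]
    have : i + i * (n - 1) = n * i := by
      obtain ⟨c, rfl⟩ : ∃ c, n = c + 1 := ⟨n - 1, by omega⟩
      simp only [Nat.add_sub_cancel]
      ring
    rw [this, Nat.mul_mod_right, P_zero]
  rw [h, zero_mul] at h1
  exact zero_ne_one h1

end Bits

variable {m : ℕ}

/-- The weights of the torus on the natural module. -/
def szWt (m : ℕ) : Fin 4 → ℤ := ![sExp m, 1, -1, -sExp m]

/-- The condition on the exponents of a monomial of a map from weight `i` to weight `j`. -/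
def SzCong (m : ℕ) (i j : Fin 4) (k l : ℕ) : Prop :=
  (gExp m : ZMod (2 ^ (2 * m + 1) - 1)) * 2 ^ k +
    (szWt m i : ZMod (2 ^ (2 * m + 1) - 1)) * 2 ^ l = (szWt m j : ZMod (2 ^ (2 * m + 1) - 1))

/-- The possible monomials when `m = 1`. -/
theorem szCong_one {i j : Fin 4} {k l : Fin (2 * 1 + 1)} (h : SzCong 1 i j k l) :
    (i = 0 ∧ j = 0 → (k : ℕ) = 0 ∧ (l : ℕ) = 2) ∧
    (i = 0 ∧ j = 1 → ((k : ℕ) = 1 ∧ (l : ℕ) = 1) ∨ ((k : ℕ) = 2 ∧ (l : ℕ) = 0)) ∧
    (i = 1 ∧ j = 1 → (k : ℕ) = 0 ∧ (l : ℕ) = 1) ∧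
    (i = 2 ∧ j = 2 → (k : ℕ) = 2 ∧ (l : ℕ) = 2) ∧
    (i = 2 ∧ j = 3 → ((k : ℕ) = 0 ∧ (l : ℕ) = 2) ∨ ((k : ℕ) = 2 ∧ (l : ℕ) = 0)) := by
  revert h
  fin_cases i <;> fin_cases j <;> fin_cases k <;> fin_cases l <;>
    simp [SzCong, szWt, sExp, gExp] <;> decide

theorem szCong_two_one {x : ZMod (2 ^ (2 * m + 1) - 1)} {s t : ZMod (2 ^ (2 * m + 1) - 1)} {k : ℕ}
    (h : (2 + P (2 * m + 1) (m + 1)) * P (2 * m + 1) k + s * x = t) :
    P (2 * m + 1) (k + (m + 1)) + (P (2 * m + 1) (m + 1) - 1) * s * x =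
      (P (2 * m + 1) (m + 1) - 1) * t := by
  rw [P_add]
  linear_combination (P (2 * m + 1) (m + 1) - 1) * h -
    P (2 * m + 1) k * theta_sq m

theorem szCong_iff {i j : Fin 4} {k l : ℕ} (h : SzCong m i j k l) :
    P (2 * m + 1) (k + (m + 1)) +
        (P (2 * m + 1) (m + 1) - 1) * (szWt m i : ZMod (2 ^ (2 * m + 1) - 1)) * P (2 * m + 1) l =
      (P (2 * m + 1) (m + 1) - 1) * (szWt m j : ZMod (2 ^ (2 * m + 1) - 1)) := by
  refine szCong_two_one ?_
  rw [← cast_gExp]
  exact h

theorem szCong_10 (hm : 1 ≤ m) {k l : Fin (2 * m + 1)} (h : SzCong m 1 0 k l) :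
    (k : ℕ) = 2 * m ∧ (l : ℕ) = m := by
  have e := szCong_iff h
  simp [szWt, cast_sExp] at e
  have e' : P (2 * m + 1) (k + (m + 1)) + P (2 * m + 1) (l + (m + 1)) =
      P (2 * m + 1) 0 + P (2 * m + 1) l := by
    rw [P_add (l : ℕ), P_zero]
    linear_combination e + szS_mul_inv m
  have hk := k.2
  have hl := l.2
  by_cases hl0 : (0 : ℕ) % (2 * m + 1) = (l : ℕ) % (2 * m + 1)
  · rw [← P_mod (l : ℕ), ← hl0, P_mod, P_double] at e'
    obtain ⟨h1, h2⟩ := two_one (by omega) e'
    rcases mod_cases h1 (by omega) (by omega) with a | a | a <;> (try omega) <;>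
      rcases mod_cases h2 (by omega) (by omega) with b | b | b <;>
      rcases mod_cases hl0 (by omega) (by omega) with c | c | c <;> omega
  · rcases two_two (by omega) hl0 e'.symm with ⟨h1, h2⟩ | ⟨h1, h2⟩ <;>
      rcases mod_cases h1 (by omega) (by omega) with a | a | a <;> (try omega) <;>
      rcases mod_cases h2 (by omega) (by omega) with b | b | b <;> omega

theorem szCong_32 (hm : 1 ≤ m) {k l : Fin (2 * m + 1)} (h : SzCong m 3 2 k l) :
    (k : ℕ) = m ∧ (l : ℕ) = m + 1 := by
  have e := szCong_iff h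
  simp [szWt, cast_sExp] at e
  have e' : P (2 * m + 1) (k + (m + 1)) + P (2 * m + 1) (m + 1) =
      P (2 * m + 1) 0 + P (2 * m + 1) l := by
    rw [P_zero]
    linear_combination e + P (2 * m + 1) (l : ℕ) * szS_mul_inv m
  have hk := k.2
  have hl := l.2
  by_cases hl0 : (0 : ℕ) % (2 * m + 1) = (l : ℕ) % (2 * m + 1)
  · rw [← P_mod (l : ℕ), ← hl0, P_mod, P_double] at e'
    obtain ⟨h1, h2⟩ := two_one (by omega) e'
    rcases mod_cases h1 (by omega) (by omega) with a | a | a <;> (try omega) <;>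
      rcases mod_cases h2 (by omega) (by omega) with b | b | b <;>
      rcases mod_cases hl0 (by omega) (by omega) with c | c | c <;> omega
  · rcases two_two (by omega) hl0 e'.symm with ⟨h1, h2⟩ | ⟨h1, h2⟩ <;>
      rcases mod_cases h1 (by omega) (by omega) with a | a | a <;> (try omega) <;>
      rcases mod_cases h2 (by omega) (by omega) with b | b | b <;> omega

theorem szCong_20 (hm : 1 ≤ m) {k l : Fin (2 * m + 1)} (h : SzCong m 2 0 k l) :
    (k : ℕ) = 0 ∧ (l : ℕ) = 0 := by
  have e := szCong_iff h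
  simp [szWt, cast_sExp] at e
  have e' : P (2 * m + 1) (k + (m + 1)) + P (2 * m + 1) l =
      P (2 * m + 1) 0 + P (2 * m + 1) (l + (m + 1)) := by
    rw [P_add (l : ℕ), P_zero]
    linear_combination e + szS_mul_inv m
  have hk := k.2
  have hl := l.2
  by_cases hl0 : (0 : ℕ) % (2 * m + 1) = ((l : ℕ) + (m + 1)) % (2 * m + 1)
  · rw [← P_mod ((l : ℕ) + (m + 1)), ← hl0, P_mod, P_double] at e'
    obtain ⟨h1, h2⟩ := two_one (by omega) e'
    rcases mod_cases h1 (by omega) (by omega) with a | a | a <;> (try omega) <;>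
      rcases mod_cases h2 (by omega) (by omega) with b | b | b <;>
      rcases mod_cases hl0 (by omega) (by omega) with c | c | c <;> omega
  · rcases two_two (by omega) hl0 e'.symm with ⟨h1, h2⟩ | ⟨h1, h2⟩ <;>
      rcases mod_cases h1 (by omega) (by omega) with a | a | a <;> (try omega) <;>
      rcases mod_cases h2 (by omega) (by omega) with b | b | b <;> omega

theorem szCong_30 (hm : 1 ≤ m) {k l : Fin (2 * m + 1)} (h : SzCong m 3 0 k l) :
    (k : ℕ) = m + 1 ∧ (l : ℕ) = 0 := by
  have e := szCong_iff h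
  simp [szWt, cast_sExp] at e
  have e' : P (2 * m + 1) l + P (2 * m + 1) 0 = P (2 * m + 1) (k + (m + 1)) := by
    rw [P_zero]
    linear_combination -e - (P (2 * m + 1) (l : ℕ) + 1) * szS_mul_inv m
  have hk := k.2
  have hl := l.2
  obtain ⟨h1, h2⟩ := two_one (by omega) e'
  rcases mod_cases h1 (by omega) (by omega) with a | a | a <;> (try omega) <;>
    rcases mod_cases h2 (by omega) (by omega) with b | b | b <;> omega

theorem szCong_31 (hm : 1 ≤ m) {k l : Fin (2 * m + 1)} (h : SzCong m 3 1 k l) :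
    (k : ℕ) = 0 ∧ (l : ℕ) = 0 := by
  have e := szCong_iff h
  simp [szWt, cast_sExp] at e
  have e' : P (2 * m + 1) (k + (m + 1)) + P (2 * m + 1) 0 =
      P (2 * m + 1) (m + 1) + P (2 * m + 1) l := by
    rw [P_zero]
    linear_combination e + P (2 * m + 1) (l : ℕ) * szS_mul_inv m
  have hk := k.2
  have hl := l.2
  by_cases hl0 : (m + 1) % (2 * m + 1) = (l : ℕ) % (2 * m + 1)
  · rw [← P_mod (l : ℕ), ← hl0, P_mod, P_double] at e'
    obtain ⟨h1, h2⟩ := two_one (by omega) e'
    rcases mod_cases h1 (by omega) (by omega) with a | a | a <;> (try omega) <;>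
      rcases mod_cases h2 (by omega) (by omega) with b | b | b <;>
      rcases mod_cases hl0 (by omega) (by omega) with c | c | c <;> omega
  · rcases two_two (by omega) hl0 e'.symm with ⟨h1, h2⟩ | ⟨h1, h2⟩ <;>
      rcases mod_cases h1 (by omega) (by omega) with a | a | a <;> (try omega) <;>
      rcases mod_cases h2 (by omega) (by omega) with b | b | b <;> omega

theorem szCong_21 (hm : 1 ≤ m) {k l : Fin (2 * m + 1)} (h : SzCong m 2 1 k l) :
    ((k : ℕ) = 2 * m ∧ (l : ℕ) = m) ∨ ((k : ℕ) = m ∧ (l : ℕ) = m + 1) := by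
  have e := szCong_iff h
  simp [szWt] at e
  have e' : P (2 * m + 1) (k + (m + 1)) + P (2 * m + 1) l + P (2 * m + 1) 0 =
      P (2 * m + 1) (m + 1) + P (2 * m + 1) (l + (m + 1)) := by
    rw [P_add (l : ℕ), P_zero]
    linear_combination e
  have hk := k.2
  have hl := l.2
  by_cases hl0 : (m + 1) % (2 * m + 1) = ((l : ℕ) + (m + 1)) % (2 * m + 1)
  · rw [← P_mod ((l : ℕ) + (m + 1)), ← hl0, P_mod, P_double] at e'
    rcases three_one (by omega) e' with ⟨h1, h2, h3⟩ | ⟨h1, h2, h3⟩ | ⟨h1, h2, h3⟩ <;>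
      rcases mod_cases h1 (by omega) (by omega) with a | a | a <;> (try omega) <;>
      rcases mod_cases h2 (by omega) (by omega) with b | b | b <;>
      rcases mod_cases h3 (by omega) (by omega) with c | c | c <;> (try omega) <;>
      rcases mod_cases hl0 (by omega) (by omega) with d | d | d <;> omega
  · rcases three_two (by omega) hl0 e' with ⟨h1, ⟨h2, h3⟩ | ⟨h2, h3⟩⟩ | ⟨h1, ⟨h2, h3⟩ | ⟨h2, h3⟩⟩ |
        ⟨h1, ⟨h2, h3⟩ | ⟨h2, h3⟩⟩ <;>
      rcases mod_cases h1 (by omega) (by omega) with a | a | a <;> (try omega) <;>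
      rcases mod_cases h2 (by omega) (by omega) with b | b | b <;>
      rcases mod_cases h3 (by omega) (by omega) with c | c | c <;> omega

theorem szCong_01 (hm : 2 ≤ m) {k l : Fin (2 * m + 1)} : ¬ SzCong m 0 1 k l := by
  intro h
  have e := szCong_iff h
  simp [szWt, cast_sExp] at e
  have e' : P (2 * m + 1) (k + (m + 1)) + P (2 * m + 1) l + P (2 * m + 1) 0 =
      P (2 * m + 1) (m + 1) := by
    rw [P_zero]
    linear_combination e - P (2 * m + 1) (l : ℕ) * szS_mul_inv m
  have hk := k.2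
  have hl := l.2
  rcases three_one (by omega) e' with ⟨h1, h2, h3⟩ | ⟨h1, h2, h3⟩ | ⟨h1, h2, h3⟩ <;>
    rcases mod_cases h1 (by omega) (by omega) with a | a | a <;> (try omega) <;>
    rcases mod_cases h2 (by omega) (by omega) with b | b | b <;>
    rcases mod_cases h3 (by omega) (by omega) with c | c | c <;> omega

theorem szCong_23 (hm : 2 ≤ m) {k l : Fin (2 * m + 1)} : ¬ SzCong m 2 3 k l := by
  intro h
  have e := szCong_iff h
  simp [szWt, cast_sExp] at e
  have e' : P (2 * m + 1) (k + (m + 1)) + P (2 * m + 1) l + P (2 * m + 1) 0 =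
      P (2 * m + 1) (l + (m + 1)) := by
    rw [P_add (l : ℕ), P_zero]
    linear_combination e - szS_mul_inv m
  have hk := k.2
  have hl := l.2
  rcases three_one (by omega) e' with ⟨h1, h2, h3⟩ | ⟨h1, h2, h3⟩ | ⟨h1, h2, h3⟩ <;>
    rcases mod_cases h1 (by omega) (by omega) with a | a | a <;> (try omega) <;>
    rcases mod_cases h2 (by omega) (by omega) with b | b | b <;>
    rcases mod_cases h3 (by omega) (by omega) with c | c | c <;> omega

theorem szCong_11 (hm : 2 ≤ m) {k l : Fin (2 * m + 1)} : ¬ SzCong m 1 1 k l := by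
  intro h
  have e := szCong_iff h
  simp [szWt] at e
  have e' : P (2 * m + 1) (k + (m + 1)) + P (2 * m + 1) (l + (m + 1)) + P (2 * m + 1) 0 =
      P (2 * m + 1) (m + 1) + P (2 * m + 1) l := by
    rw [P_add (l : ℕ), P_zero]
    linear_combination e
  have hk := k.2
  have hl := l.2
  by_cases hl0 : (m + 1) % (2 * m + 1) = (l : ℕ) % (2 * m + 1)
  · rw [← P_mod (l : ℕ), ← hl0, P_mod, P_double] at e'
    rcases three_one (by omega) e' with ⟨h1, h2, h3⟩ | ⟨h1, h2, h3⟩ | ⟨h1, h2, h3⟩ <;>
      rcases mod_cases h1 (by omega) (by omega) with a | a | a <;> (try omega) <;>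
      rcases mod_cases h2 (by omega) (by omega) with b | b | b <;>
      rcases mod_cases h3 (by omega) (by omega) with c | c | c <;> (try omega) <;>
      rcases mod_cases hl0 (by omega) (by omega) with d | d | d <;> omega
  · by_cases hz : (l : ℕ) = 0
    · rw [hz, zero_add] at e'
      exact P_ne_zero (by omega) _ (show P (2 * m + 1) (k + (m + 1)) = 0 by linear_combination e')
    · rcases three_two (by omega) hl0 e' with ⟨h1, ⟨h2, h3⟩ | ⟨h2, h3⟩⟩ |
          ⟨h1, ⟨h2, h3⟩ | ⟨h2, h3⟩⟩ | ⟨h1, ⟨h2, h3⟩ | ⟨h2, h3⟩⟩ <;>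
        rcases mod_cases h1 (by omega) (by omega) with a | a | a <;> (try omega) <;>
        rcases mod_cases h2 (by omega) (by omega) with b | b | b <;>
        rcases mod_cases h3 (by omega) (by omega) with c | c | c <;> omega

theorem szCong_22 (hm : 2 ≤ m) {k l : Fin (2 * m + 1)} : ¬ SzCong m 2 2 k l := by
  intro h
  have e := szCong_iff h
  simp [szWt] at e
  have e' : P (2 * m + 1) (k + (m + 1)) + P (2 * m + 1) l + P (2 * m + 1) (m + 1) =
      P (2 * m + 1) 0 + P (2 * m + 1) (l + (m + 1)) := by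
    rw [P_add (l : ℕ), P_zero]
    linear_combination e
  have hk := k.2
  have hl := l.2
  by_cases hl0 : (0 : ℕ) % (2 * m + 1) = ((l : ℕ) + (m + 1)) % (2 * m + 1)
  · rw [← P_mod ((l : ℕ) + (m + 1)), ← hl0, P_mod, P_double] at e'
    rcases three_one (by omega) e' with ⟨h1, h2, h3⟩ | ⟨h1, h2, h3⟩ | ⟨h1, h2, h3⟩ <;>
      rcases mod_cases h1 (by omega) (by omega) with a | a | a <;> (try omega) <;>
      rcases mod_cases h2 (by omega) (by omega) with b | b | b <;>
      rcases mod_cases h3 (by omega) (by omega) with c | c | c <;> (try omega) <;>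
      rcases mod_cases hl0 (by omega) (by omega) with d | d | d <;> omega
  · by_cases hz : (l : ℕ) = 0
    · rw [hz, zero_add, P_zero] at e'
      exact P_ne_zero (by omega) _ (show P (2 * m + 1) (k + (m + 1)) = 0 by linear_combination e')
    · rcases three_two (by omega) hl0 e' with ⟨h1, ⟨h2, h3⟩ | ⟨h2, h3⟩⟩ |
          ⟨h1, ⟨h2, h3⟩ | ⟨h2, h3⟩⟩ | ⟨h1, ⟨h2, h3⟩ | ⟨h2, h3⟩⟩ <;>
        rcases mod_cases h1 (by omega) (by omega) with a | a | a <;> (try omega) <;>
        rcases mod_cases h2 (by omega) (by omega) with b | b | b <;>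
        rcases mod_cases h3 (by omega) (by omega) with c | c | c <;> omega

end Cfsg.Agent.Lib.CNStruct
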