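import Cfsg.Agent.Lib.CNStruct.SzModel

/-!
The natural module of a Suzuki group carries no nonzero equivariant biadditive product.
-/

set_option autoImplicit false
set_option linter.style.haveILetI false
set_option linter.unusedSimpArgs false

namespace Cfsg.Agent.Lib.CNStruct

open Matrix Cfsg.Agent.Lib.Suzuki

variable {F : Type*} [Field F] [Fintype F] {m : ℕ} (h : Hyp F m)

/-- The displacement by a central translation. -/
def szK (m : ℕ) (b : F) (v : Fin 4 → F) : Fin 4 → F :=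
  ![b * v 2 + theta m b * v 3, b * v 3, 0, 0]

theorem szT_act (b : F) (v : Fin 4 → F) :
    szMat (szT h 0 b) *ᵥ v = v + szK m b v := by
  rw [szT_col]
  ext j; fin_cases j <;>
    simp [szK, Matrix.mulVec, dotProduct, Fin.sum_univ_four, theta_zero, ovFun_eq, add_assoc]

theorem szH_act (u : Fˣ) (v : Fin 4 → F) : szMat (szH h u) *ᵥ v =
    ![(u : F) * theta m (u : F) * v 0, (u : F) * v 1, (u : F)⁻¹ * v 2,
      ((u : F) * theta m (u : F))⁻¹ * v 3] := by
  rw [szH_mat]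
  ext j; fin_cases j <;> simp [Matrix.mulVec, dotProduct, Fin.sum_univ_four]

theorem szW_act (v : Fin 4 → F) : szMat (szW h) *ᵥ v = ![v 3, v 2, v 1, v 0] := by
  rw [szW_mat]
  ext j; fin_cases j <;> simp [Matrix.mulVec, dotProduct, Fin.sum_univ_four]

/-- The fixed vectors of the central translations. -/
def szPlus (v : Fin 4 → F) : Prop := v 2 = 0 ∧ v 3 = 0

theorem szPlus.act {e : Fin 4 → F} (he : szPlus e) (b : F) : szMat (szT h 0 b) *ᵥ e = e := by
  rw [szT_act, add_eq_left]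
  ext j; fin_cases j <;> simp [szK, he.1, he.2]

omit [Fintype F] in
theorem szPlus_of_K {v : Fin 4 → F} (hv : szK m 1 v = 0) : szPlus v := by
  have h1 : v 3 = 0 := by simpa [szK] using congrFun hv 1
  exact ⟨by simpa [szK, h1] using congrFun hv 0, h1⟩

variable (β : (Fin 4 → F) →+ (Fin 4 → F) →+ (Fin 4 → F))

include h

variable (hβ : ∀ g : Cfsg.Sz F m, ∀ p q, β (szMat g *ᵥ p) (szMat g *ᵥ q) = szMat g *ᵥ β p q)

include hβ

theorem szBiadd_K {e : Fin 4 → F} (he : szPlus e) (b : F) (v : Fin 4 → F) :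
    β (szK m b v) e = szK m b (β v e) := by
  have := hβ (szT h 0 b) v e
  rw [he.act h b, szT_act, szT_act, map_add, AddMonoidHom.add_apply] at this
  exact add_left_cancel this

theorem szBiadd_axis {e : Fin 4 → F} (he : szPlus e) :
    ∃ c : F, ∀ z : F, β ![z, 0, 0, 0] e = ![z * c, 0, 0, 0] := by
  haveI := h.charP
  set g : F → Fin 4 → F := fun x => β ![0, 0, x, 0] e with hg
  have key : ∀ b x, β ![b * x, 0, 0, 0] e = szK m b (g x) := by
    intro b x
    rw [← szBiadd_K h β hβ he, szK]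
    congr 2
    ext j; fin_cases j <;> simp
  have k1 : ∀ x, β ![x, 0, 0, 0] e = ![g x 2 + g x 3, g x 3, 0, 0] := fun x => by
    have := key 1 x
    rw [one_mul] at this
    simpa [szK, theta_one] using this
  have k3 : ∀ b x, g (b * x) 3 = b * g x 3 := fun b x => by
    simpa [szK] using congrFun ((k1 (b * x)).symm.trans (key b x)) 1
  have k2 : ∀ b x, g (b * x) 2 + g (b * x) 3 = b * g x 2 + theta m b * g x 3 := fun b x => by
    simpa [szK] using congrFun ((k1 (b * x)).symm.trans (key b x)) 0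
  set κ := g 1 3 with hκ
  have g3 : ∀ x, g x 3 = x * κ := fun x => by simpa using k3 x 1
  have g2 : ∀ x, g x 2 = x * g 1 2 + theta m x * κ + x * κ := fun x => by
    have := k2 x 1
    rw [mul_one, g3] at this
    linear_combination this - (x * κ) * (CharTwo.two_eq_zero (R := F))
  obtain ⟨t, ht⟩ := h.exists_theta_ne
  have e0 := k2 t t
  rw [g2 (t * t), g2 t, g3, g3, theta_mul] at e0
  have hκ0 : κ * (theta m t + t) ^ 2 = 0 := by
    linear_combination e0 + (κ * (t * theta m t * 2)) *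
      (CharTwo.two_eq_zero (R := F))
  have hκz : κ = 0 := (mul_eq_zero.1 hκ0).resolve_right
    (pow_ne_zero _ fun e => ht (CharTwo.add_eq_zero.1 e))
  refine ⟨g 1 2, fun z => ?_⟩
  rw [k1, g3, g2, hκz]
  simp

omit hβ in
theorem exists_unit_mul_theta_ne_one : ∃ u : Fˣ, (u : F) * theta m (u : F) ≠ 1 ∧ (u : F) ≠ 1 := by
  obtain ⟨t, ht⟩ := h.exists_theta_ne
  have ht0 : t ≠ 0 := fun e => ht (by rw [e, theta_zero])
  refine ⟨Units.mk0 t ht0, fun e => ht ?_, fun e => ht ?_⟩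
  · rw [h.eq_one_of_theta_mul ht0 e, theta_one]
  · rw [show t = 1 from e, theta_one]

theorem szBiadd_one_one (z y : F) : β ![z, 0, 0, 0] ![y, 0, 0, 0] = 0 := by
  have hflip : ∀ g : Cfsg.Sz F m, ∀ p q,
      β.flip (szMat g *ᵥ p) (szMat g *ᵥ q) = szMat g *ᵥ β.flip p q := fun g p q => hβ g q p
  have hpl : ∀ y : F, szPlus ![y, 0, 0, 0] := fun y => ⟨rfl, rfl⟩
  choose c hc using fun y : F => szBiadd_axis h β hβ (hpl y)
  obtain ⟨c', hc'⟩ := szBiadd_axis h β.flip hflip (hpl 1)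
  choose d hd using fun z : F => szBiadd_axis h β.flip hflip (hpl z)
  have hcy : ∀ y, c y = y * d 1 := fun y => by
    simpa using congrFun ((hc y 1).symm.trans (hd 1 y)) 0
  obtain ⟨u, hu, -⟩ := exists_unit_mul_theta_ne_one h
  set s := (u : F) * theta m (u : F) with hs
  have he : ∀ y : F, szMat (szH h u) *ᵥ ![y, 0, 0, 0] = ![s * y, 0, 0, 0] := fun y => by
    rw [szH_act]; ext j; fin_cases j <;> simp [hs]
  have e := congrFun (hβ (szH h u) ![1, 0, 0, 0] ![1, 0, 0, 0]) 0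
  rw [he, hc, hc, hcy, hcy, he] at e
  have hs0 : s ≠ 0 := mul_ne_zero u.ne_zero (theta_ne_zero u.ne_zero)
  have h1 : s * d 1 * (s - 1) = 0 := by
    simp [← hs] at e
    linear_combination s * e.resolve_right hs0
  have hd1 : d 1 = 0 := by simpa [hs0, sub_ne_zero.2 hu] using h1
  rw [hc, hcy, hd1]
  simp

theorem szBiadd_one_two (z y : F) : β ![z, 0, 0, 0] ![0, y, 0, 0] = 0 := by
  haveI := h.charP
  have hflip : ∀ g : Cfsg.Sz F m, ∀ p q,
      β.flip (szMat g *ᵥ p) (szMat g *ᵥ q) = szMat g *ᵥ β.flip p q := fun g p q => hβ g q p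
  choose c hc using fun y : F => szBiadd_axis h β hβ (e := ![0, y, 0, 0]) ⟨rfl, rfl⟩
  have hlin : ∀ b x, c (b * x) = b * c x := by
    intro b x
    have key : ∀ b, ![c (b * x), 0, 0, 0] = szK m b (β ![1, 0, 0, 0] ![0, 0, 0, x]) := by
      intro b
      have := szBiadd_K h β.flip hflip (e := ![1, 0, 0, 0]) ⟨rfl, rfl⟩ b ![0, 0, 0, x]
      rw [AddMonoidHom.flip_apply, AddMonoidHom.flip_apply] at this
      rw [← this, show szK m b ![0, 0, 0, x] = ![theta m b * x, 0, 0, 0] + ![0, b * x, 0, 0] by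
        ext j; fin_cases j <;> simp [szK], map_add, szBiadd_one_one h β hβ, zero_add, hc, one_mul]
    set g := β ![1, 0, 0, 0] ![0, 0, 0, x]
    have e1 : g 3 = 0 := by simpa [szK] using (congrFun (key 1) 1).symm
    have e2 : c x = g 2 := by simpa [szK, e1] using congrFun (key 1) 0
    simpa [szK, e1, ← e2] using congrFun (key b) 0
  have hcy : ∀ y, c y = y * c 1 := fun y => by simpa using hlin y 1
  obtain ⟨u, -, hu⟩ := exists_unit_mul_theta_ne_one h
  set s := (u : F) * theta m (u : F) with hs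
  have e := congrFun (hβ (szH h u) ![1, 0, 0, 0] ![0, 1, 0, 0]) 0
  rw [show szMat (szH h u) *ᵥ ![1, 0, 0, 0] = ![s, 0, 0, 0] by
      rw [szH_act]; ext j; fin_cases j <;> simp [hs],
    show szMat (szH h u) *ᵥ ![0, 1, 0, 0] = ![0, (u : F), 0, 0] by
      rw [szH_act]; ext j; fin_cases j <;> simp,
    hc, hc, hcy (u : F), szH_act] at e
  have hs0 : s ≠ 0 := mul_ne_zero u.ne_zero (theta_ne_zero u.ne_zero)
  have h1 : s * c 1 * ((u : F) - 1) = 0 := by
    simp [← hs] at e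
    linear_combination s * e.resolve_right hs0
  have hc1 : c 1 = 0 := by simpa [hs0, sub_ne_zero.2 hu] using h1
  rw [hc, hcy, hc1]
  simp

theorem szBiadd_two_two (v y : F) : β ![0, v, 0, 0] ![0, y, 0, 0] = 0 := by
  haveI := h.charP
  have hflip : ∀ g : Cfsg.Sz F m, ∀ p q,
      β.flip (szMat g *ᵥ p) (szMat g *ᵥ q) = szMat g *ᵥ β.flip p q := fun g p q => hβ g q p
  have key : ∀ (β : (Fin 4 → F) →+ (Fin 4 → F) →+ (Fin 4 → F)),
      (∀ g : Cfsg.Sz F m, ∀ p q, β (szMat g *ᵥ p) (szMat g *ᵥ q) = szMat g *ᵥ β p q) →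
      ∀ b v y, β ![0, b * v, 0, 0] ![0, y, 0, 0] =
        szK m b (β ![0, 0, 0, v] ![0, y, 0, 0]) := by
    intro β hβ b v y
    rw [← szBiadd_K h β hβ (e := ![0, y, 0, 0]) ⟨rfl, rfl⟩,
      show szK m b ![0, 0, 0, v] = ![theta m b * v, 0, 0, 0] + ![0, b * v, 0, 0] by
        ext j; fin_cases j <;> simp [szK], map_add, AddMonoidHom.add_apply,
      szBiadd_one_two h β hβ, zero_add]
  have l1 : ∀ (β : (Fin 4 → F) →+ (Fin 4 → F) →+ (Fin 4 → F)),
      (∀ g : Cfsg.Sz F m, ∀ p q, β (szMat g *ᵥ p) (szMat g *ᵥ q) = szMat g *ᵥ β p q) →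
      ∀ b v y, β ![0, b * v, 0, 0] ![0, y, 0, 0] 1 = b * β ![0, v, 0, 0] ![0, y, 0, 0] 1 := by
    intro β hβ b v y
    have e1 := congrFun (key β hβ 1 v y) 1
    have e2 := congrFun (key β hβ b v y) 1
    rw [one_mul] at e1
    simp [szK] at e1 e2
    rw [e2, e1]
  obtain ⟨u, hu, hu1⟩ := exists_unit_mul_theta_ne_one h
  have hH : ∀ v : F, szMat (szH h u) *ᵥ ![0, v, 0, 0] = ![0, (u : F) * v, 0, 0] := fun v => by
    rw [szH_act]; ext j; fin_cases j <;> simp
  have l1' : ∀ b v y, β ![0, v, 0, 0] ![0, b * y, 0, 0] 1 = b * β ![0, v, 0, 0] ![0, y, 0, 0] 1 :=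
    fun b v y => by simpa using l1 β.flip hflip b y v
  have h11 : β ![0, 1, 0, 0] ![0, 1, 0, 0] 1 = 0 := by
    have e := congrFun (hβ (szH h u) ![0, 1, 0, 0] ![0, 1, 0, 0]) 1
    rw [hH, l1 β hβ, l1', szH_act] at e
    simp at e
    exact (mul_eq_zero.1 (show ((u : F) - 1) * β ![0, 1, 0, 0] ![0, 1, 0, 0] 1 = 0 by
      linear_combination e)).resolve_left (sub_ne_zero.2 hu1)
  have z1 : ∀ v y, β ![0, v, 0, 0] ![0, y, 0, 0] 1 = 0 := fun v y => by
    have := l1 β hβ v 1 y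
    have h2 := l1' y 1 1
    simp only [mul_one] at this h2
    rw [this, h2, h11, mul_zero, mul_zero]
  have z1' : ∀ v y, β.flip ![0, v, 0, 0] ![0, y, 0, 0] 1 = 0 := fun v y => by simpa using z1 y v
  have l0 : ∀ (β : (Fin 4 → F) →+ (Fin 4 → F) →+ (Fin 4 → F)),
      (∀ g : Cfsg.Sz F m, ∀ p q, β (szMat g *ᵥ p) (szMat g *ᵥ q) = szMat g *ᵥ β p q) →
      (∀ v y, β ![0, v, 0, 0] ![0, y, 0, 0] 1 = 0) →
      ∀ b v y, β ![0, b * v, 0, 0] ![0, y, 0, 0] 0 = b * β ![0, v, 0, 0] ![0, y, 0, 0] 0 := by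
    intro β hβ hz b v y
    have e0 := congrFun (key β hβ 1 v y) 1
    rw [one_mul, hz] at e0
    simp [szK] at e0
    have e1 := congrFun (key β hβ 1 v y) 0
    have e2 := congrFun (key β hβ b v y) 0
    rw [one_mul] at e1
    simp [szK, ← e0] at e1 e2
    rw [e2, e1]
  obtain ⟨t, ht⟩ := h.exists_theta_ne
  have ht0 : t ≠ 0 := fun e => ht (by rw [e, theta_zero])
  have h00 : β ![0, 1, 0, 0] ![0, 1, 0, 0] 0 = 0 := by
    have e := congrFun (hβ (szH h (Units.mk0 t ht0)) ![0, 1, 0, 0] ![0, 1, 0, 0]) 0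
    have hH' : szMat (szH h (Units.mk0 t ht0)) *ᵥ ![0, 1, 0, 0] = ![0, t * 1, 0, 0] := by
      rw [szH_act]; ext j; fin_cases j <;> simp
    rw [hH', l0 β hβ z1, szH_act] at e
    have e' : β ![0, 1, 0, 0] ![0, t * 1, 0, 0] 0 = t * β ![0, 1, 0, 0] ![0, 1, 0, 0] 0 := by
      simpa using l0 β.flip hflip z1' t 1 1
    rw [e'] at e
    simp at e
    have e2 : (t - theta m t) * (t * β ![0, 1, 0, 0] ![0, 1, 0, 0] 0) = 0 := by
      linear_combination e
    simpa [ht0, sub_ne_zero.2 (Ne.symm ht)] using e2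
  ext j
  fin_cases j
  · have h1 := l0 β hβ z1 v 1 y
    have h2 : β ![0, 1, 0, 0] ![0, y * 1, 0, 0] 0 = y * β ![0, 1, 0, 0] ![0, 1, 0, 0] 0 := by
      simpa using l0 β.flip hflip z1' y 1 1
    simp only [mul_one] at h1 h2
    simpa [h1, h2] using by simp [h00]
  · exact z1 v y
  · simpa [szK] using congrFun (key β hβ 1 v y) 2
  · simpa [szK] using congrFun (key β hβ 1 v y) 3

theorem szBiadd_plus {e e' : Fin 4 → F} (he : szPlus e) (he' : szPlus e') : β e e' = 0 := by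
  have hflip : ∀ g : Cfsg.Sz F m, ∀ p q,
      β.flip (szMat g *ᵥ p) (szMat g *ᵥ q) = szMat g *ᵥ β.flip p q := fun g p q => hβ g q p
  have hd : ∀ {e : Fin 4 → F}, szPlus e → e = ![e 0, 0, 0, 0] + ![0, e 1, 0, 0] := by
    intro e he
    ext j; fin_cases j <;> simp [he.1, he.2]
  have h21 : ∀ a b : F, β ![0, a, 0, 0] ![b, 0, 0, 0] = 0 := fun a b =>
    szBiadd_one_two h β.flip hflip b a
  rw [hd he, hd he']
  simp only [map_add, AddMonoidHom.add_apply, szBiadd_one_one h β hβ, szBiadd_one_two h β hβ,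
    szBiadd_two_two h β hβ, h21, add_zero]

/-- The natural module carries no nonzero equivariant biadditive product. -/
theorem szBiadd_eq_zero (p q : Fin 4 → F) : β p q = 0 := by
  have hflip : ∀ g : Cfsg.Sz F m, ∀ p q,
      β.flip (szMat g *ᵥ p) (szMat g *ᵥ q) = szMat g *ᵥ β.flip p q := fun g p q => hβ g q p
  set W := fun v : Fin 4 → F => szMat (szW h) *ᵥ v with hW
  have hWW : ∀ v, W (W v) = v := fun v => by
    simp only [hW, Matrix.mulVec_mulVec, ← map_mul, szW_mul_self, map_one, Matrix.one_mulVec]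
  have hWβ : ∀ a b, β (W a) (W b) = W (β a b) := fun a b => hβ _ a b
  have hW0 : W 0 = 0 := Matrix.mulVec_zero _
  have minusMinus : ∀ {a b}, szPlus (W a) → szPlus (W b) → β a b = 0 := by
    intro a b ha hb
    rw [← hWW (β a b), ← hWβ, szBiadd_plus h β hβ ha hb, hW0]
  have mixed : ∀ (β : (Fin 4 → F) →+ (Fin 4 → F) →+ (Fin 4 → F)),
      (∀ g : Cfsg.Sz F m, ∀ p q, β (szMat g *ᵥ p) (szMat g *ᵥ q) = szMat g *ᵥ β p q) →
      ∀ {e f}, szPlus e → szPlus (W f) → szPlus (β e f) := by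
    intro β hβ e f he _
    refine szPlus_of_K (m := m) ?_
    have hK : szPlus (szK m 1 f) := ⟨rfl, rfl⟩
    have := hβ (szT h 0 1) e f
    rw [he.act h 1, szT_act, szT_act, map_add, szBiadd_plus h β hβ he hK, add_zero] at this
    exact add_eq_left.1 this.symm
  have cross : ∀ {e f}, szPlus e → szPlus (W f) → β e f = 0 := by
    intro e f he hf
    have h1 := mixed β hβ he hf
    have h2 : szPlus (β.flip (W f) (W e)) :=
      mixed β.flip hflip hf (show szPlus (W (W e)) by rw [hWW]; exact he)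
    rw [AddMonoidHom.flip_apply, hWβ] at h2
    have e0 : β e f 0 = 0 := by simpa [hW, szW_act] using h2.2
    have e1 : β e f 1 = 0 := by simpa [hW, szW_act] using h2.1
    ext j; fin_cases j <;> simp [h1.1, h1.2, e0, e1]
  have cross' : ∀ {e f}, szPlus e → szPlus (W f) → β f e = 0 := by
    intro e f he hf
    rw [← hWW (β f e), ← hWβ, cross hf (show szPlus (W (W e)) by rw [hWW]; exact he), hW0]
  have hd : ∀ v : Fin 4 → F, ∃ e f, szPlus e ∧ szPlus (W f) ∧ v = e + f := fun v =>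
    ⟨![v 0, v 1, 0, 0], ![0, 0, v 2, v 3], ⟨rfl, rfl⟩, by simp [hW, szW_act, szPlus],
      by ext j; fin_cases j <;> simp⟩
  obtain ⟨e, f, he, hf, rfl⟩ := hd p
  obtain ⟨e', f', he', hf', rfl⟩ := hd q
  simp only [map_add, AddMonoidHom.add_apply, szBiadd_plus h β hβ he he', minusMinus hf hf',
    cross he hf', cross' he' hf, add_zero]

end Cfsg.Agent.Lib.CNStruct
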