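import Cfsg.Agent.Lib.CNStruct.SzForms

/-!
No abelian group of exponent four whose two layers are natural modules of a Suzuki group.
-/

set_option autoImplicit false
set_option linter.style.haveILetI false
set_option linter.unusedSimpArgs false

namespace Cfsg.Agent.Lib.CNStruct

open Matrix Finset Cfsg.Agent.Lib.Suzuki
open scoped Classical

variable {F : Type*} [Field F] [Fintype F] {m : ℕ}

theorem szS_mul_inv (m : ℕ) :
    (1 + P (2 * m + 1) (m + 1)) * (P (2 * m + 1) (m + 1) - 1) = 1 := by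
  have h : P (2 * m + 1) (m + 1) * P (2 * m + 1) (m + 1) = 2 := by
    rw [← P_add, show m + 1 + (m + 1) = 2 * m + 1 + 1 by ring, P_add, P_period, one_mul, P, pow_one]
  linear_combination h

theorem theta_sq (m : ℕ) : P (2 * m + 1) (m + 1) * P (2 * m + 1) (m + 1) = 2 := by
  linear_combination szS_mul_inv m

/-- The exponent of `u θ(u)`. -/
def sExp (m : ℕ) : ℤ := 1 + 2 ^ (m + 1)

/-- The exponent of `u² θ(u)`. -/
def gExp (m : ℕ) : ℤ := 2 + 2 ^ (m + 1)

omit [Fintype F] in
theorem zpow_sExp (u : Fˣ) : ((u ^ sExp m : Fˣ) : F) = (u : F) * theta m (u : F) := by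
  rw [sExp, _root_.zpow_add, zpow_one, show ((2 : ℤ) ^ (m + 1)) = ((2 ^ (m + 1) : ℕ) : ℤ) by
    push_cast; rfl, zpow_natCast, Units.val_mul, Units.val_pow_eq_pow_val]
  rfl

omit [Fintype F] in
theorem zpow_gExp (u : Fˣ) : ((u ^ gExp m : Fˣ) : F) = (u : F) ^ 2 * theta m (u : F) := by
  rw [gExp, _root_.zpow_add, show ((2 : ℤ)) = ((2 : ℕ) : ℤ) from rfl, zpow_natCast,
    show (((2 : ℕ) : ℤ) ^ (m + 1)) = ((2 ^ (m + 1) : ℕ) : ℤ) by push_cast; rfl, zpow_natCast,
    Units.val_mul, Units.val_pow_eq_pow_val, Units.val_pow_eq_pow_val]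
  rfl

theorem cast_sExp (m : ℕ) :
    ((sExp m : ℤ) : ZMod (2 ^ (2 * m + 1) - 1)) = 1 + P (2 * m + 1) (m + 1) := by
  simp [sExp, P]

theorem cast_gExp (m : ℕ) :
    ((gExp m : ℤ) : ZMod (2 ^ (2 * m + 1) - 1)) = 2 + P (2 * m + 1) (m + 1) := by
  simp [gExp, P]

omit [Fintype F] in
theorem szK_eq_zero {b : F} (hb : b ≠ 0) {v : Fin 4 → F} (hv : szK m b v = 0) : szPlus v := by
  have h1 : v 3 = 0 := by simpa [szK, hb] using congrFun hv 1
  exact ⟨by simpa [szK, h1, hb] using congrFun hv 0, h1⟩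

omit [Fintype F] in
theorem szK_plus (b : F) (v : Fin 4 → F) : szPlus (szK m b v) := ⟨rfl, rfl⟩

omit [Fintype F] in
theorem szK_of_plus {b : F} {v : Fin 4 → F} (hv : szPlus v) : szK m b v = 0 := by
  ext j; fin_cases j <;> simp [szK, hv.1, hv.2]

variable (h : Hyp F m) {A : Type*} [AddCommGroup A] [Finite A] [DistribMulAction (Cfsg.Sz F m) A]

include h

theorem szH_conj_T (u : Fˣ) (b : F) :
    szH h u * szT h 0 b = szT h 0 (((u ^ gExp m : Fˣ) : F) * b) * szH h u := by
  rw [szH_mul_szT, mul_zero, zpow_gExp]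

omit [Finite A] in
/-- The squaring map of such an abelian group would be an equivariant form without fixed points. -/
theorem sz_no_square (ι : (Fin 4 → F) →+ A) (p : A →+ (Fin 4 → F))
    (hι : Function.Injective ι) (hp : Function.Surjective p)
    (hιe : ∀ (g : Cfsg.Sz F m) v, ι (szMat g *ᵥ v) = g • ι v) (hpe : ∀ (g : Cfsg.Sz F m) a, p (g • a) = szMat g *ᵥ p a)
    (hker : ∀ a, p a = 0 → a ∈ ι.range) (hsq : ∀ a, a + a = ι (p a))
    (hC : ∀ a : A, ∑ u : Fˣ, szH h u • a = 0) : False := by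
  classical
  haveI := h.charP
  have hcard : Fintype.card F = 2 ^ (2 * m + 1) := h.hF
  have hpι : ∀ v, p (ι v) = 0 := by
    intro v
    have h1 := hsq (ι v)
    rw [← map_add, show v + v = 0 from funext fun j => CharTwo.add_self_eq_zero (v j), map_zero] at h1
    exact (map_eq_zero_iff ι hι).1 h1.symm
  set K : F → A → A := fun b z => szT h 0 b • z - z with hK
  have Kι : ∀ b v, K b (ι v) = ι (szK m b v) := fun b v => by
    simp only [hK, ← hιe, ← map_sub, szT_act, add_sub_cancel_left]
  have Kp : ∀ b z, p (K b z) = szK m b (p z) := fun b z => by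
    simp only [hK, map_sub, hpe, szT_act, add_sub_cancel_left]
  have Kadd : ∀ b z z', K b (z + z') = K b z + K b z' := fun b z z' => by
    simp only [hK, smul_add]; abel
  have Kbb : ∀ a b z, K (a + b) z = K a z + K b z + K a (K b z) := fun a b z => by
    simp only [hK, smul_sub, smul_smul, szT_mul, theta_zero, zero_mul, add_zero]
    abel
  have K0 : ∀ b, K b 0 = 0 := fun b => by simp [hK]
  have Kzero : ∀ z, K 0 z = 0 := fun z => by simp [hK, szT_one]
  -- doubling a translation
  have Ksq : ∀ b z, K b (K b z) = ι (szK m b (p z)) := by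
    intro b z
    have h1 := Kbb b b z
    rw [CharTwo.add_self_eq_zero, Kzero, hsq, Kp] at h1
    rw [eq_neg_of_add_eq_zero_right h1.symm, ← map_neg]
    congr 1
    exact funext fun j => CharTwo.neg_eq _
  -- lifts of fixed vectors are moved into fixed vectors
  have Kplus : ∀ b z, szPlus (p z) → ∃ v, szPlus v ∧ K b z = ι v := by
    intro b z hz
    by_cases hb : b = 0
    · exact ⟨0, ⟨rfl, rfl⟩, by rw [hb, Kzero, map_zero]⟩
    obtain ⟨v, hv⟩ := hker (K b z) (by rw [Kp, szK_of_plus hz])
    refine ⟨v, szK_eq_zero (m := m) hb (hι ?_), hv.symm⟩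
    rw [← Kι, hv, Ksq, szK_of_plus hz]
  choose R hR using fun x : F => hp ![0, 0, 0, x]
  have hG' : ∀ a b x, ∃ v, szPlus v ∧ K a (K b (R x)) = ι v := fun a b x =>
    Kplus a _ (by rw [Kp]; exact szK_plus _ _)
  choose G hG1 hG2 using hG'
  have huniq : ∀ a b x z, p z = ![0, 0, 0, x] → K a (K b z) = ι (G a b x) := by
    intro a b x z hz
    obtain ⟨v, hv⟩ := hker (z - R x) (by rw [map_sub, hz, hR, sub_self])
    rw [← hG2 a b x, show z = R x + ι v by rw [hv, add_sub_cancel], Kadd, Kadd, Kι, Kι,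
      szK_of_plus (szK_plus _ _), map_zero, add_zero]
  have kill : ∀ c a b x, K c (K a (K b (R x))) = 0 := fun c a b x => by
    rw [hG2, Kι, szK_of_plus (hG1 a b x), map_zero]
  set B : F → F → F → F := fun a b x => G a b x 0 with hB
  obtain ⟨c, hc⟩ := expand₃ hcard B
    (fun a a' b x => by
      simp only [hB]
      have : G (a + a') b x = G a b x + G a' b x :=
        hι (by rw [map_add, ← hG2, ← hG2, ← hG2, Kbb, kill, add_zero])
      rw [this]; rfl)
    (fun a b b' x => by
      simp only [hB]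
      have : G a (b + b') x = G a b x + G a b' x :=
        hι (by rw [map_add, ← hG2, ← hG2, ← hG2, Kbb, Kadd, Kadd, kill, add_zero])
      rw [this]; rfl)
    (fun a b x x' => by
      simp only [hB]
      have : G a b (x + x') = G a b x + G a b x' :=
        hι (by
          rw [map_add, ← huniq a b (x + x') (R x + R x')
            (by rw [map_add, hR, hR]; ext j; fin_cases j <;> simp), Kadd, Kadd, hG2, hG2])
      rw [this]; rfl)
  -- equivariance
  have hGu : ∀ (u : Fˣ) a b x, ι (szMat (szH h u) *ᵥ G a b x) =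
      ι (G (((u ^ gExp m : Fˣ) : F) * a) (((u ^ gExp m : Fˣ) : F) * b)
        (((u ^ (-sExp m) : Fˣ) : F) * x)) := by
    intro u a b x
    have hconj : ∀ b z, szH h u • K b z = K (((u ^ gExp m : Fˣ) : F) * b) (szH h u • z) := by
      intro b z
      simp only [hK, smul_sub, smul_smul, szH_conj_T h]
    rw [hιe, ← hG2, hconj, hconj]
    refine huniq _ _ _ _ ?_
    rw [hpe, hR, szH_act, _root_.zpow_neg, Units.val_inv_eq_inv_val, zpow_sExp]
    ext j; fin_cases j <;> simp
  have hBu : ∀ (u : Fˣ) a b x,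
      B (((u ^ gExp m : Fˣ) : F) * a) (((u ^ gExp m : Fˣ) : F) * b)
        (((u ^ (-sExp m) : Fˣ) : F) * x) = ((u ^ sExp m : Fˣ) : F) * B a b x := by
    intro u a b x
    simp only [hB, ← hι (hGu u a b x)]
    rw [szH_act, zpow_sExp]
    simp
  -- the monomials
  have hsupp : ∀ k l : Fin (2 * m + 1), ∀ j : Fin (2 * m + 1), (j : ℕ) = 0 → c k l j ≠ 0 →
      (k : ℕ) = m ∧ (l : ℕ) = m := by
    intro k l j hj hne
    have hz := zmod_eq_zero_of_forall hcard
      (E := gExp m * 2 ^ (k : ℕ) + gExp m * 2 ^ (l : ℕ) + (-sExp m) * 2 ^ (j : ℕ) - sExp m) fun u => by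
      have e := congrFun (congrFun (congrFun (coeff_unique₃ hcard
        (c := fun k l j => c k l j * ((u ^ (gExp m * 2 ^ (k : ℕ) + gExp m * 2 ^ (l : ℕ) +
          (-sExp m) * 2 ^ (j : ℕ)) : Fˣ) : F))
        (d := fun k l j => ((u ^ sExp m : Fˣ) : F) * c k l j) fun a b x => ?_) k) l) j
      · rw [_root_.zpow_sub, mul_inv_eq_one]
        refine Units.ext (mul_left_cancel₀ hne ?_)
        rw [e, mul_comm]
      · have := hBu u a b x
        rw [hc, hc, Finset.mul_sum] at this
        refine Eq.trans (Finset.sum_congr rfl fun k _ => Finset.sum_congr rfl fun l _ =>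
          Finset.sum_congr rfl fun j _ => ?_) (this.trans (Finset.sum_congr rfl fun k _ => ?_))
        · rw [zpow_pow_frob, zpow_pow_frob, zpow_pow_frob, _root_.zpow_add, _root_.zpow_add,
            Units.val_mul, Units.val_mul]
          ring
        · simp only [Finset.mul_sum]
          exact Finset.sum_congr rfl fun l _ => Finset.sum_congr rfl fun j _ => by ring
    push_cast [cast_sExp, cast_gExp, hj, pow_zero, mul_one] at hz
    have hz' : P (2 * m + 1) (k + m + 1) + P (2 * m + 1) (l + m + 1) = P (2 * m + 1) 1 := by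
      rw [show (k : ℕ) + m + 1 = k + (m + 1) by ring, P_add (k : ℕ) (m + 1),
        show (l : ℕ) + m + 1 = l + (m + 1) by ring, P_add (l : ℕ) (m + 1),
        show P (2 * m + 1) 1 = 2 by simp [P]]
      rw [show ((2 : ZMod (2 ^ (2 * m + 1) - 1)) ^ (k : ℕ)) = P (2 * m + 1) k from rfl,
        show ((2 : ZMod (2 ^ (2 * m + 1) - 1)) ^ (l : ℕ)) = P (2 * m + 1) l from rfl] at hz
      linear_combination (P (2 * m + 1) (m + 1) - 1) * hz + 2 * szS_mul_inv m -
        (P (2 * m + 1) (k : ℕ) + P (2 * m + 1) (l : ℕ)) * theta_sq m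
    obtain ⟨h1, h2⟩ := two_one (by have := h.hm; omega) hz'
    have hk := k.2
    have hl := l.2
    have := h.hm
    rcases mod_eq_cases h1 (by omega) (by omega) with e | e | e | e | e <;>
      rcases mod_eq_cases h2 (by omega) (by omega) with e' | e' | e' | e' | e' <;> omega
  -- the torus relation kills the only possible diagonal monomial
  set mf : Fin (2 * m + 1) := ⟨m, by omega⟩ with hmf
  set zf : Fin (2 * m + 1) := ⟨0, by omega⟩ with hzf
  have hc0 : c mf mf zf = 0 := by
    have hs : ∀ a b x : F, ∑ u : Fˣ,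
        B a (((u ^ gExp m : Fˣ) : F) * b) (((u ^ (-sExp m) : Fˣ) : F) * x) = 0 := by
      intro a b x
      have h0 : K a (∑ u : Fˣ, szH h u • K b (R x)) = 0 := by rw [hC, K0]
      have hKs : ∀ (s : Finset Fˣ) (f : Fˣ → A), K a (∑ u ∈ s, f u) = ∑ u ∈ s, K a (f u) :=
        fun s f => map_sum (AddMonoidHom.mk' (K a) (Kadd a)) f s
      rw [hKs] at h0
      have hterm : ∀ u : Fˣ, K a (szH h u • K b (R x)) =
          ι (G a (((u ^ gExp m : Fˣ) : F) * b) (((u ^ (-sExp m) : Fˣ) : F) * x)) := by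
        intro u
        have hconj : szH h u • K b (R x) = K (((u ^ gExp m : Fˣ) : F) * b) (szH h u • R x) := by
          simp only [hK, smul_sub, smul_smul, szH_conj_T h]
        rw [hconj]
        refine huniq _ _ _ _ ?_
        rw [hpe, hR, szH_act, _root_.zpow_neg, Units.val_inv_eq_inv_val, zpow_sExp]
        ext j; fin_cases j <;> simp
      simp only [hterm, ← map_sum] at h0
      have := congrFun ((map_eq_zero_iff ι hι).1 h0) 0
      simpa [hB, Finset.sum_apply] using this
    have e := congrFun (congrFun (congrFun (coeff_unique₃ hcard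
      (c := fun k l j => c k l j *
        ∑ u : Fˣ, ((u ^ (gExp m * 2 ^ (l : ℕ) + (-sExp m) * 2 ^ (j : ℕ)) : Fˣ) : F))
      (d := fun _ _ _ => 0) fun a b x => ?_) mf) mf) zf
    · have hE : ∀ u : Fˣ, u ^ (gExp m * 2 ^ m + (-sExp m) * 2 ^ 0) = 1 := by
        intro u
        refine orderOf_dvd_iff_zpow_eq_one.1 ?_
        refine dvd_trans (Int.natCast_dvd_natCast.2 (orderOf_dvd_natCard u)) ?_
        rw [Nat.card_units, Nat.card_eq_fintype_card, hcard, ← ZMod.intCast_zmod_eq_zero_iff_dvd]
        push_cast [cast_sExp, cast_gExp]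
        rw [show ((2 : ZMod (2 ^ (2 * m + 1) - 1)) ^ m) = P (2 * m + 1) m from rfl]
        have h1 : P (2 * m + 1) (m + 1) * P (2 * m + 1) m = 1 := by
          rw [← P_add, show m + 1 + m = 2 * m + 1 by ring, P_period]
        have h2 : 2 * P (2 * m + 1) m = P (2 * m + 1) (m + 1) := by simp [P, pow_succ, mul_comm]
        linear_combination h1 + h2
      simp only [hmf, hzf, hE, Units.val_one, Finset.sum_const, Finset.card_univ,
        Fintype.card_units, nsmul_one] at e
      rw [Nat.cast_sub Fintype.card_pos, FiniteField.cast_card_eq_zero, zero_sub, Nat.cast_one,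
        CharTwo.neg_eq, mul_one] at e
      exact e
    · simp only [zero_mul, Finset.sum_const_zero]
      rw [← hs a b x]
      simp only [hc]
      rw [Finset.sum_comm (γ := Fˣ)]
      refine Finset.sum_congr rfl fun k _ => ?_
      rw [Finset.sum_comm (γ := Fˣ)]
      refine Finset.sum_congr rfl fun l _ => ?_
      rw [Finset.sum_comm (γ := Fˣ)]
      refine Finset.sum_congr rfl fun j _ => ?_
      rw [Finset.mul_sum, Finset.sum_mul]
      refine Finset.sum_congr rfl fun u _ => ?_
      rw [zpow_pow_frob, zpow_pow_frob, _root_.zpow_add, Units.val_mul]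
      ring
  -- but the diagonal is the doubling map
  have hd : ∀ x : F, ∑ k, ∑ l, ∑ j : Fin (2 * m + 1),
      c k l j * ((1 : F) ^ 2 ^ (k : ℕ) * ((1 : F) ^ 2 ^ (l : ℕ) * x ^ 2 ^ (j : ℕ))) = x := by
    intro x
    rw [← hc]
    have : G 1 1 x = szK m 1 ![0, 0, 0, x] := hι (by rw [← hG2, Ksq, hR])
    simp [hB, this, szK, theta_one]
  have e := congrFun (coeff_unique₁ hcard
    (c := fun j => ∑ k, ∑ l, c k l j) (d := fun j => if j = zf then 1 else 0) fun x => ?_) zf
  · rw [if_pos rfl, Finset.sum_eq_zero fun k _ => Finset.sum_eq_zero fun l _ => ?_] at e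
    · exact zero_ne_one e
    · by_contra hne
      obtain ⟨hk, hl⟩ := hsupp k l zf rfl hne
      exact hne (by rw [show k = mf from Fin.ext hk, show l = mf from Fin.ext hl]; exact hc0)
  · rw [show ∑ j : Fin (2 * m + 1), (if j = zf then (1 : F) else 0) * x ^ 2 ^ (j : ℕ) = x by
      simp [ite_mul, hzf]]
    conv_rhs => rw [← hd x]
    simp only [one_pow, one_mul, Finset.sum_mul]
    rw [Finset.sum_comm]
    exact Finset.sum_congr rfl fun k _ => Finset.sum_comm

end Cfsg.Agent.Lib.CNStruct
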